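import Cfsg.Agent.H39.KnFfaA

/-!
# S1918, piece FFA: the structure of `F`
-/

set_option autoImplicit false

namespace Cfsg.Agent.H39.KnFfa

open Equiv Subgroup Cfsg.Agent.H63 Cfsg.Agent.H8.GD Cfsg.Agent.H17.Kn
open Cfsg.Agent.H11.A16 (Ω)
open Cfsg.Agent.H89.Rec (Syl)

universe u

theorem s12_inv : s12⁻¹ = s12 := inv_eq_of_mul_eq_one_right fa3.1

theorem s12_swap {a b : Perm Ω} (e : s12 * a * s12⁻¹ = b) : s12 * b * s12⁻¹ = a := by
  rw [← e, s12_inv, ← mul_assoc, ← mul_assoc, fa3.1, one_mul, mul_assoc, fa3.1, mul_one]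

namespace Cx

variable {G : Type u} [Group G] {J : N2 → G} {φ : G → Perm Ω} {F : Subgroup G} (h : Cx J φ F)
include h

theorem s12U : ∀ u ∈ U1, ∃ v ∈ U1, s12 * pm2 u * s12⁻¹ = pm2 v := h.m2.s12m.2.2.2.1

theorem s12D : ∀ u ∈ DD, ∃ v ∈ DD, s12 * pm2 u * s12⁻¹ = pm2 v := fun u hu => by
  obtain ⟨v, hv, w, hw, rfl⟩ := h.m2.pDD u hu
  obtain ⟨w', hw', e⟩ := h.s12U w hw
  refine ⟨v * w', mul_mem (h.VV_DD hv) (h.U1_DD hw'), ?_⟩
  have e1 : s12 * pm2 v * s12⁻¹ = pm2 v := by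
    rcases h.m2.lVV v hv with rfl | rfl | rfl | rfl
    · simp
    · exact fa3.2.2.2.1
    · exact fa3.2.2.2.2.1
    · rw [map_mul]
      conv_rhs => rw [← fa3.2.2.2.1, ← fa3.2.2.2.2.1]
      group
  rw [map_mul, map_mul, ← e]
  conv_rhs => rw [← e1]
  group

theorem ey_N [Finite G] {s : G} (hs : Ey J s s12 XX XX) {X : Subgroup N2} (hX : X ≤ XX)
    (hm : ∀ u ∈ X, ∃ v ∈ X, s12 * pm2 u * s12⁻¹ = pm2 v) : s ∈ N[im J X] :=
  mem_N (h.em.mono (hX.trans XX_T0)) fun u hu => by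
    obtain ⟨v, hv, e⟩ := hm u hu
    rw [hs u (hX hu) v (hX hv) e]; exact mem_im hv

theorem notC {t u : N2} (ht : t ∈ T0) (hu : u ∈ U1) (hne : t * u * t⁻¹ ≠ u) :
    J t ∉ C[im J U1] := fun hc => by
  have e1 := ex_of_cen hc u hu
  have e2 := h.em.self ht (U1_T0 hu)
  rw [one_mul, inv_one, mul_one] at e1
  exact hne (h.em.inj _ (mul_mem (mul_mem ht (U1_T0 hu)) (inv_mem ht)) _ (U1_T0 hu)
    (Eq.trans (Eq.symm e2) e1))

theorem exists_s [Finite G] : ∃ s ∈ NA J, φ s = s12 ∧ Ey J s s12 XX XX ∧ s ∈ N[F] := by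
  obtain ⟨s0, n0, p0, e0⟩ := h.kit.real XX XX XX_T0 XX_T0 s12 h.af.s h.m2.s12m.2.1
  have hx : xe 2 3 ∈ XX := fa1.2.2.2.2.2.2.2.2.1
  have hxT := XX_T0 hx
  have xN : J (xe 2 3) ∈ N[F] := h.fp.nT _ hxT
  have x2 : J (xe 2 3) * J (xe 2 3) ∈ F := by
    rw [← h.em.mul _ hxT _ hxT, fa1.2.2.2.2.2.2.2.2.2.1, h.em.one]; exact one_mem _
  have sx : s0 * J (xe 2 3) * s0⁻¹ = J (xe 2 3) := e0 _ hx _ hx fa3.2.2.1
  have xD := h.ND hxT
  have xnC : J (xe 2 3) ∉ C[im J U1] :=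
    h.notC hxT fa1.2.2.2.2.2.2.2.2.2.2.1 fa1.2.2.2.2.2.2.2.2.2.2.2.2.1
  have hJ : ∀ v ∈ XX, v ∈ DD ∨ ∃ w ∈ DD, J v = J (xe 2 3) * J w := fun v hv => by
    rcases h.m2.iXX v hv with h1 | h1
    · exact Or.inl h1
    · exact Or.inr ⟨_, h1, by rw [← h.em.mul _ hxT _ (DD_T0 h1), mul_inv_cancel_left]⟩
  generalize J (xe 2 3) = x at xN x2 sx xD xnC hJ
  have sU := h.ey_N e0 (h.U1_DD.trans DD_XX) h.s12U
  have sD := h.ey_N e0 DD_XX h.s12D
  have Y2 := ad_two xN x2 h.fp.two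
  have xY : x ∈ ad F x xN x2 := Or.inr (by rw [inv_mul_cancel]; exact one_mem _)
  have YD : ad F x xN x2 ≤ N[im J DD] := by
    rintro y (hy | hy)
    · exact h.fp.nD hy
    · rw [← mul_inv_cancel_left x y]; exact mul_mem xD (h.fp.nD hy)
  have key : ∀ a ∈ F, ∃ a' ∈ F, ∃ o ∈ h.O, s0 * a * s0⁻¹ = a' * o := fun a ha =>
    h.decM (conj_C sU (h.fp.cen ha)) (mul_mem (mul_mem sD (h.fp.nD ha)) (inv_mem sD))
  obtain ⟨o, ho, hN⟩ := h.gen.frO (ad F x xN x2) h.O s0 Y2 (fun o ho => h.O_odd ho)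
    (fun y hy => h.NO (YD hy)) (by
      rintro y (hy | hy)
      · obtain ⟨a', ha', o, ho, e⟩ := key y hy
        exact ⟨a', Or.inl ha', o, ho, e⟩
      · obtain ⟨a', ha', o, ho, e⟩ := key _ hy
        refine ⟨x * a', mul_mem xY (Or.inl ha'), o, ho, ?_⟩
        calc s0 * y * s0⁻¹ = s0 * x * s0⁻¹ * (s0 * (x⁻¹ * y) * s0⁻¹) := by group
          _ = x * a' * o := by rw [sx, e, mul_assoc])
  have ox : o * x * o⁻¹ = x := by
    have h1 : o * x * o⁻¹ ∈ ad F x xN x2 := by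
      have := conj_N hN xY
      rwa [show o * s0 * x * (o * s0)⁻¹ = o * (s0 * x * s0⁻¹) * o⁻¹ by group, sx] at this
    have h2 : x⁻¹ * o * x⁻¹⁻¹ * o⁻¹ ∈ h.O := mul_mem (conj_N (h.NO (inv_mem xD)) ho) (inv_mem ho)
    have h3 := h.gen.one _ _ Y2 (mul_mem (inv_mem xY) h1) (by
      have := h.O_odd h2
      rwa [show x⁻¹ * o * x⁻¹⁻¹ * o⁻¹ = x⁻¹ * (o * x * o⁻¹) by group] at this)
    exact (inv_mul_eq_one.1 h3).symm
  have oD : ∀ w ∈ DD, o * J w * o⁻¹ = J w := fun w hw => by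
    simpa [R] using ex_of_cen ho.2.2 w hw
  have es : Ey J (o * s0) s12 XX XX := fun u hu v hv e => by
    have e1 : o * J v * o⁻¹ = J v := by
      rcases hJ v hv with h1 | ⟨w, hw, h1⟩
      · exact oD v h1
      · rw [h1]
        calc o * (x * J w) * o⁻¹ = o * x * o⁻¹ * (o * J w * o⁻¹) := by group
          _ = x * J w := by rw [ox, oD w hw]
    exact (e0 u hu v hv e).trans (show R J o v v from e1)
  refine ⟨o * s0, mul_mem ho.1 n0, by rw [h.eu.mul o ho.1 s0 n0, ho.2.1, p0, one_mul], es,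
    mem_normalizer_fintype fun a ha => ?_⟩
  have h1 := conj_C (h.ey_N es (h.U1_DD.trans DD_XX) h.s12U) (h.fp.cen ha)
  rcases conj_N hN (show a ∈ ad F x xN x2 from Or.inl ha) with h2 | h2
  · exact h2
  · exfalso
    refine xnC ?_
    have := mul_mem h1 (inv_mem (h.fp.cen h2))
    rwa [show o * s0 * a * (o * s0)⁻¹ * (x⁻¹ * (o * s0 * a * (o * s0)⁻¹))⁻¹ = x by group] at this

theorem fD {s : G} (hs : Ey J s s12 XX XX) : Ex J (s * J e34 * s⁻¹) f0 DD := fun u hu => by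
  obtain ⟨u', hu', e⟩ := h.s12D u hu
  have e' := s12_swap e
  have r1 := (hs u' (DD_XX hu') u (DD_XX hu) e').symm
  have r2 := h.exe u' hu'
  have r3 := hs _ (DD_XX (h.nF fa1.2.1 u' hu')) _ (DD_XX (h.nF fa1.2.2.1 u hu)) (by
    rw [map_mul, map_mul, map_inv, map_mul, map_mul, map_inv, ← e', ← fa3.2.1]; group)
  have := (r1.trans r2).trans r3
  rwa [← mul_assoc] at this

theorem idx {f a : G} (hf : f ∈ F) (ef : Ex J f f0 DD) (ha : a ∈ F) :
    a ∈ im J U1 ⊔ im J E1 ∨ f⁻¹ * a ∈ im J U1 ⊔ im J E1 := by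
  obtain ⟨c, hc, e⟩ := h.exF ha
  rcases h.m2.iFF c hc with h2 | h2
  · exact Or.inl (h.memK ha h2 e)
  · exact Or.inr (h.memK (mul_mem (inv_mem hf) ha) h2
      (ex_mul (ex_inv ef (h.nF (inv_mem fa1.2.2.1))) e (h.nF hc)))

theorem forms {f a : G} (hf : f ∈ F) (ef : Ex J f f0 DD) (ha : a ∈ F) :
    ∃ z ∈ im J U1, a = 1 * z ∨ a = J e34 * z ∨ a = f * z ∨ a = f * J e34 * z := by
  rcases h.idx hf ef ha with h1 | h1 <;> rcases h.memK_iff h1 with h2 | h2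
  · exact ⟨_, h2, Or.inl (one_mul _).symm⟩
  · exact ⟨_, h2, Or.inr (Or.inl (by group))⟩
  · exact ⟨_, h2, Or.inr (Or.inr (Or.inl (by group)))⟩
  · exact ⟨_, h2, Or.inr (Or.inr (Or.inr (by group)))⟩

theorem nf {f : G} (ef : Ex J f f0 DD) : f ∉ im J U1 ⊔ im J E1 := fun hK => by
  obtain ⟨c, hc, e⟩ := h.exK hK
  have := mul_mem hc (h.U1_F1 (h.PI_U1 (h.uniq (F1_FF hc) fa1.2.2.1 e ef)))
  rw [mul_inv_cancel_left] at this
  exact fa1.2.2.2.2.1 this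

theorem sf [Finite G] {s : G} (hn : s ∈ NA J) (hp : φ s = s12) (hs : Ey J s s12 XX XX)
    (hF : s ∈ N[F]) : s * (s * J e34 * s⁻¹) * s⁻¹ = J e34 := by
  have o2 : Odd (orderOf (s * s)) :=
    h.eu.ker _ (mul_mem hn hn) (by rw [h.eu.mul s hn s hn, hp, fa3.1])
  have c2 : s * s ∈ C[im J DD] := cen_of_ex h.emD fun u hu => by
    obtain ⟨u', hu', e⟩ := h.s12D u hu
    have := (hs u (DD_XX hu) u' (DD_XX hu') e).trans (hs u' (DD_XX hu') u (DD_XX hu) (s12_swap e))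
    simpa using this
  have m1 : (J e34)⁻¹ * (s * s * J e34 * (s * s)⁻¹) ∈ F :=
    mul_mem (inv_mem h.eF) (conj_N (mul_mem hF hF) h.eF)
  have m2 : (J e34)⁻¹ * (s * s * J e34 * (s * s)⁻¹) ∈ C[im J DD] := by
    have := mul_mem (conj_C (inv_mem (h.fp.nD h.eF)) c2) (inv_mem c2)
    rwa [show (J e34)⁻¹ * (s * s) * (J e34)⁻¹⁻¹ * (s * s)⁻¹ =
      (J e34)⁻¹ * (s * s * J e34 * (s * s)⁻¹) by group] at this
  have m3 := h.memU m1 m2
  have m4 := h.gen.odd1 (s * s) (J e34) _ 1 o2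
    (Commute.symm (mem_centralizer_iff.1 c2 _ (im_mono h.U1_DD m3)))
    (mul_inv_cancel_left _ _).symm (by rw [pow_one, pow_two]; exact h.sqU m3)
  calc s * (s * J e34 * s⁻¹) * s⁻¹ = s * s * J e34 * (s * s)⁻¹ := by group
    _ = J e34 := (inv_mul_eq_one.1 m4).symm

theorem comm_ef {f s : G} (hf : f ∈ F) (ef : Ex J f f0 DD) (hs : Ey J s s12 XX XX)
    (fs : s * J e34 * s⁻¹ = f) (sf : s * f * s⁻¹ = J e34) : Commute (J e34) f := by
  have n1 := h.nF fa1.2.2.1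
  have n2 := h.nF (inv_mem fa1.2.1)
  have n3 := h.nF (inv_mem fa1.2.2.1)
  have ec := ex_mul (ex_mul (ex_mul h.exe ef n1) (ex_inv h.exe n2) n2) (ex_inv ef n3) n3
  rw [fa2.2.2.2.2.2.2.2.2.1] at ec
  have cF : J e34 * f * (J e34)⁻¹ * f⁻¹ ∈ F :=
    mul_mem (mul_mem (mul_mem h.eF hf) (inv_mem h.eF)) (inv_mem hf)
  obtain ⟨p, hp, e⟩ := h.emP.mem.1 (h.hv3 F h.fp.two h.fp.nD _ cF (cen_of_ex h.emD ec))
  have pp : J p * J p = 1 := h.sqU (mem_im (h.PI_U1 hp))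
  have sp : s * J p * s⁻¹ = J p := by
    calc s * J p * s⁻¹ = s * J e34 * s⁻¹ * (s * f * s⁻¹) * (s * J e34 * s⁻¹)⁻¹ *
          (s * f * s⁻¹)⁻¹ := by rw [e]; group
      _ = (J p)⁻¹ := by rw [fs, sf, e]; group
      _ = J p := inv_eq_of_mul_eq_one_right pp
  have hx : xe 0 1 ∈ T0 := fa1.2.2.2.2.2.2.2.2.2.2.2.2.2.1
  have xN := h.fp.nT _ hx
  have xp : J (xe 0 1) * J p * (J (xe 0 1))⁻¹ = 1 ∨ J (xe 0 1) * J p * (J (xe 0 1))⁻¹ = J p := by
    have aK : J (xe 0 1) * J e34 * (J (xe 0 1))⁻¹ ∈ im J U1 ⊔ im J E1 := by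
      rcases h.eu.act _ hx e34 fa1.2.2.2.2.2.2.2.1 with r | r <;> rw [r, fa2.1]
      · exact h.eK
      · exact mem_sup_right (mem_im fa2.2.2.2.2.2.2.2.2.2)
    have bF := conj_N xN hf
    have e1 : J (xe 0 1) * J p * (J (xe 0 1))⁻¹ =
        J (xe 0 1) * J e34 * (J (xe 0 1))⁻¹ * (J (xe 0 1) * f * (J (xe 0 1))⁻¹) *
          (J (xe 0 1) * J e34 * (J (xe 0 1))⁻¹)⁻¹ * (J (xe 0 1) * f * (J (xe 0 1))⁻¹)⁻¹ := by
      rw [e]; group
    rw [e1, e]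
    generalize J (xe 0 1) * J e34 * (J (xe 0 1))⁻¹ = a at aK
    generalize J (xe 0 1) * f * (J (xe 0 1))⁻¹ = b at bF
    rcases h.memK_iff aK with h1 | h1
    · left
      rw [(h.cU bF h1).eq]; group
    · obtain ⟨z', hz', hb⟩ := h.forms hf ef bF
      have ea : a = J e34 * ((J e34)⁻¹ * a) := by group
      generalize (J e34)⁻¹ * a = z at h1 ea
      have c1 := h.cU bF h1
      have c2 := h.cU h.eF hz'
      subst ea
      rcases hb with rfl | rfl | rfl | rfl <;> rw [cm_cen c1 c2]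
      · left; group
      · left; group
      · right; rfl
      · right; group
  have hz : z2 ∈ PI := fa2.2.2.2.2.2.1
  have h14 : xe 1 4 ∈ PI := fa2.2.2.2.2.2.2.1
  have pX : PI ≤ XX := h.PI_U1.trans (h.U1_DD.trans DD_XX)
  rcases h.m2.lPI p hp with rfl | rfl | rfl | rfl
  · rw [h.em.one] at e
    exact mul_inv_eq_iff_eq_mul.1 (mul_inv_eq_one.1 e.symm)
  · exact absurd (h.emP.inj _ hz _ h14 (sp.symm.trans (hs _ (pX hz) _ (pX h14) fa3.2.2.2.2.2.1)))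
      fa2.2.2.2.2.2.2.2.1
  · exact absurd (h.emP.inj _ hz _ h14 (Eq.trans (Eq.symm
      (hs _ (pX h14) _ (pX hz) fa3.2.2.2.2.2.2)) sp)) fa2.2.2.2.2.2.2.2.1
  · exfalso
    have r := h.em.self hx (XX_T0 (pX hp))
    rw [R, fa2.2.1] at r
    rcases xp with x1 | x1 <;> rw [r] at x1
    · exact fa2.2.2.2.1 (h.emP.inj _ h14 _ (one_mem _) (x1.trans h.em.one.symm))
    · exact fa2.2.2.1 (h.emP.inj _ hp _ h14 x1.symm)

theorem ab {f : G} (hf : f ∈ F) (ef : Ex J f f0 DD) (c : Commute (J e34) f) :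
    ∀ a ∈ F, ∀ b ∈ F, Commute a b := by
  have k : ∀ y ∈ F, Commute y (J e34) → Commute y f → ∀ b ∈ F, Commute y b := by
    intro y hy y1 y2 b hb
    obtain ⟨z, hz, hb⟩ := h.forms hf ef hb
    have c1 := (h.cU hy hz).symm
    rcases hb with rfl | rfl | rfl | rfl
    · exact (Commute.one_right y).mul_right c1
    · exact y1.mul_right c1
    · exact y2.mul_right c1
    · exact (y2.mul_right y1).mul_right c1
  intro a ha
  exact k a ha (k _ h.eF (Commute.refl _) c a ha).symm (k _ hf c.symm (Commute.refl _) a ha).symm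

theorem sq {f : G} (hf : f ∈ F) (ef : Ex J f f0 DD) (ff : f * f = 1)
    (ab : ∀ a ∈ F, ∀ b ∈ F, Commute a b) : ∀ a ∈ F, a * a = 1 := by
  have k : ∀ a ∈ F, ∀ b ∈ F, a * a = 1 → b * b = 1 → a * b * (a * b) = 1 := fun a ha b hb a2 b2 => by
    rw [(ab a ha b hb).symm.mul_mul_mul_comm, a2, b2, one_mul]
  intro a ha
  obtain ⟨z, hz, hb⟩ := h.forms hf ef ha
  have z2 := h.sqU hz
  have zF := h.fp.le1 hz
  rcases hb with rfl | rfl | rfl | rfl
  · exact k _ (one_mem _) _ zF (one_mul _) z2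
  · exact k _ h.eF _ zF h.ee z2
  · exact k _ hf _ zF ff z2
  · exact k _ (mul_mem hf h.eF) _ zF (k _ hf _ h.eF ff h.ee) z2

theorem x01 {f : G} (ef : Ex J f f0 DD) : f * J (xe 0 1) * f⁻¹ * (J (xe 0 1))⁻¹ ∉ im J U1 := by
  intro hm
  obtain ⟨u, hu, e⟩ := h.emU.mem.1 hm
  have hx : xe 0 1 ∈ T0 := fa1.2.2.2.2.2.2.2.2.2.2.2.2.2.1
  have n3 := h.nT (inv_mem hx)
  have e1 := ex_mul (ex_mul (h.exT hx) ef (h.nF fa1.2.2.1)) (ex_inv (h.exT hx) n3) n3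
  rw [fa2.2.2.2.2.1] at e1
  have n4 := h.nT (inv_mem (U1_T0 hu))
  have e2 := ex_mul (ex_inv (h.exT (U1_T0 hu)) n4) ef (h.nF fa1.2.2.1)
  rw [e, show (f * J (xe 0 1) * f⁻¹ * (J (xe 0 1))⁻¹)⁻¹ * f =
    J (xe 0 1) * f * (J (xe 0 1))⁻¹ by group] at e2
  have m := h.PI_U1 (h.uniq (mul_mem (inv_mem (U1_FF hu)) fa1.2.2.1)
    (mul_mem fa1.2.1 fa1.2.2.1) e2 e1)
  have c := h.abF _ (mul_mem (U1_FF hu) fa1.2.1) _ fa1.2.2.1
  rw [show (u⁻¹ * f0)⁻¹ * (e34 * f0) = f0⁻¹ * (u * e34 * f0) by group, c.eq,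
    inv_mul_cancel_left] at m
  have := mul_mem (inv_mem hu) m
  rw [inv_mul_cancel_left] at this
  exact fa1.2.2.2.1 this

theorem cfv {c v : N2} (hc : c ∈ FF) (hv : v = xe 2 4 ∨ v = xe 3 4) (e : Commute c v) :
    c ∈ U1 := by
  refine ⟨?_, hc⟩
  obtain ⟨a, b, c, d, rfl⟩ := h.m1.nfF c hc
  rw [fa5 a b c d (by rcases hv with rfl | rfl; exacts [Or.inl e, Or.inr e])]
  exact h.m1.utm _

theorem syl [Finite G] (sq : ∀ a ∈ F, a * a = 1) : Syl F C[im J U1] := by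
  have VT : VV ≤ T0 := h.VV_DD.trans DD_T0
  have emV := h.em.mono VT
  have V2 : IsPGroup 2 (im J VV) := emV.two fun v => ⟨1, Subtype.ext (by
    rw [pow_one, pow_two]; exact h.m2.ab.2.2.2.2.2.1 v (h.incl.2.2.2.2.2.1 v.2))⟩
  have VF : im J VV ≤ N[F] := im_le fun v hv => h.fp.nT v (VT hv)
  have T2 : IsPGroup 2 (F ⊔ im J VV : Subgroup G) := h.fp.two.to_sup_of_normal_left' V2 VF
  have VK : im J VV ≤ N[C[im J U1]] := im_le fun v hv => N_le_NC (h.NU (VT hv))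
  have TK : F ⊔ im J VV ≤ N[C[im J U1]] := sup_le (h.fp.cen.trans le_normalizer) VK
  have TF : ∀ t ∈ F ⊔ im J VV, t ∈ C[im J U1] → t ∈ F := fun t ht hc => by
    rw [← SetLike.mem_coe, coe_mul_of_right_le_normalizer_left _ _ VF] at ht
    obtain ⟨a, ha, y, hy, rfl⟩ := ht
    obtain ⟨v, hv, rfl⟩ := emV.mem.1 hy
    have h1 : J v ∈ C[im J U1] := by
      have := mul_mem (inv_mem (h.fp.cen ha)) hc
      rwa [inv_mul_cancel_left] at this
    have u2 : xe 0 2 ∈ U1 := fa1.2.2.2.2.2.2.2.2.2.2.1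
    have u3 : xe 0 3 ∈ U1 := fa1.2.2.2.2.2.2.2.2.2.2.2.1
    rcases h.m2.lVV v hv with rfl | rfl | rfl | rfl
    · show a * J 1 ∈ F
      rw [h.em.one, mul_one]; exact ha
    · exact absurd h1 (h.notC (VT hv) u2 fa4.1)
    · exact absurd h1 (h.notC (VT hv) u3 fa4.2.1)
    · exact absurd h1 (h.notC (VT hv) u2 fa4.2.2)
  obtain ⟨S, S2, TS, SK, -, hS⟩ := h.gen.ovs _ _ T2 TK
  have ST : S = F ⊔ im J VV := h.gen.grow _ S S2 TS fun n hn nT => by
    have h1 := SK hn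
    rw [← SetLike.mem_coe, coe_mul_of_right_le_normalizer_left _ _ TK] at h1
    obtain ⟨p, pK, t, ht, rfl⟩ := h1
    have pK : p ∈ C[im J U1] := pK
    have ht : t ∈ F ⊔ im J VV := ht
    have pS : p ∈ S := by
      have := mul_mem hn (inv_mem (TS ht))
      rwa [mul_inv_cancel_right] at this
    have pT : p ∈ N[F ⊔ im J VV] := by
      have := mul_mem nT (inv_mem (le_normalizer ht))
      rwa [mul_inv_cancel_right] at this
    have gen : ∀ v ∈ VV, v = xe 2 4 ∨ v = xe 3 4 → p * J v * p⁻¹ ∈ im J DD := fun v hv hv' => by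
      have vT : J v ∈ F ⊔ im J VV := mem_sup_right (mem_im hv)
      have bF : p * J v * p⁻¹ * (J v)⁻¹ ∈ F := by
        refine TF _ (mul_mem (conj_N pT vT) (inv_mem vT)) ?_
        have := mul_mem pK (conj_N (VK (mem_im hv)) (inv_mem pK))
        rwa [show p * (J v * p⁻¹ * (J v)⁻¹) = p * J v * p⁻¹ * (J v)⁻¹ by group] at this
      have vv : J v * J v = 1 := by
        rw [← emV.mul v hv v hv, h.m2.ab.2.2.2.2.2.1 v (h.incl.2.2.2.2.2.1 hv), emV.one]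
      have eb : p * J v * p⁻¹ = p * J v * p⁻¹ * (J v)⁻¹ * J v := by group
      have e2 : p * J v * p⁻¹ * (p * J v * p⁻¹) = 1 := by
        rw [show p * J v * p⁻¹ * (p * J v * p⁻¹) = p * (J v * J v) * p⁻¹ by group, vv]; group
      rw [eb] at e2 ⊢
      generalize p * J v * p⁻¹ * (J v)⁻¹ = b at bF e2
      have bv : b * J v * b⁻¹ = J v := by
        rw [inv_eq_of_mul_eq_one_right (sq b bF)]
        calc b * J v * b = b * J v * (b * J v) * J v := by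
              rw [mul_assoc (b * J v), mul_assoc b (J v) (J v), vv, mul_one]
          _ = J v := by rw [e2, one_mul]
      obtain ⟨c, hc, ec⟩ := h.exF bF
      have vD := h.VV_DD hv
      have e3 : c * v * c⁻¹ = v :=
        h.emD.inj _ (h.nF hc v vD) _ vD (Eq.trans (Eq.symm (ec v vD)) bv)
      have cU := h.cfv hc hv' (mul_inv_eq_iff_eq_mul.1 e3)
      have m := h.memU (mul_mem (inv_mem (h.fp.le1 (mem_im cU))) bF)
        (ex_cen h.emD (h.exT (U1_T0 cU)) ec)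
      have := mul_mem (mem_im cU) m
      rw [mul_inv_cancel_left] at this
      exact mul_mem (im_mono h.U1_DD this) (mem_im vD)
    have v1 : xe 2 4 ∈ VV := by decide +kernel
    have v2 : xe 3 4 ∈ VV := by decide +kernel
    have pD : p ∈ N[im J DD] := mem_N h.emD fun u hu => by
      obtain ⟨v, hv, w, hw, rfl⟩ := h.m2.pDD u hu
      have e1 : p * J w * p⁻¹ = J w := by simpa [R] using ex_of_cen pK w hw
      rw [h.emD.mul v (h.VV_DD hv) w (h.U1_DD hw),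
        show p * (J v * J w) * p⁻¹ = p * J v * p⁻¹ * (p * J w * p⁻¹) by group, e1]
      refine mul_mem ?_ (mem_im (h.U1_DD hw))
      rcases h.m2.lVV v hv with rfl | rfl | rfl | rfl
      · rw [h.em.one]; simp
      · exact gen _ v1 (Or.inl rfl)
      · exact gen _ v2 (Or.inr rfl)
      · rw [emV.mul _ v1 _ v2, show p * (J (xe 2 4) * J (xe 3 4)) * p⁻¹ =
          p * J (xe 2 4) * p⁻¹ * (p * J (xe 3 4) * p⁻¹) by group]
        exact mul_mem (gen _ v1 (Or.inl rfl)) (gen _ v2 (Or.inr rfl))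
    have c1 := h.hv4 (S ⊓ C[im J U1] ⊓ N[im J DD]) (S2.to_le (inf_le_left.trans inf_le_left))
      (inf_le_left.trans inf_le_right) inf_le_right
    have c2 : F = S ⊓ C[im J U1] ⊓ N[im J DD] := eq_of_le_of_card_ge
      (le_inf (le_inf (le_sup_left.trans TS) h.fp.cen) h.fp.nD) (by rw [h.fp.card]; exact c1)
    have pF : p ∈ F := by rw [c2]; exact ⟨⟨pS, pK⟩, pD⟩
    exact mul_mem (mem_sup_left pF) ht
  have e : S ⊓ C[im J U1] = F := by
    rw [ST]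
    exact le_antisymm (fun t ht => TF t ht.1 ht.2) (le_inf le_sup_left h.fp.cen)
  rwa [e] at hS

end Cx

theorem ffa (hB : Base.{u}) (hv : HvStmt.{u}) : FfaStmt.{u} := by
  intro G _ _ J φ eu F fp
  have ki : Ki J φ := eu.toE0.toQ3.toKi
  obtain ⟨v1, v2, v3, v4⟩ := hv J φ ki
  have h : Cx J φ F := ⟨hB.gen, hB.m1, hB.m2, hB.m3, hB.af, hB.kit J φ ki, eu, fp, v1, v2, v3, v4⟩
  obtain ⟨s, hn, hp, hs, hF⟩ := h.exists_s
  have hf := conj_N hF h.eF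
  have ef := h.fD hs
  have sf := h.sf hn hp hs hF
  have ab := h.ab hf ef (h.comm_ef hf ef hs rfl sf)
  have sq := h.sq hf ef (by
    rw [show s * J e34 * s⁻¹ * (s * J e34 * s⁻¹) = s * (J e34 * J e34) * s⁻¹ by group, h.ee]
    group) ab
  exact ⟨_, s, fp, hf, sq, ab, h.nf ef, fun a ha => h.idx hf ef ha, hn, hp, hs, rfl, sf, ef,
    h.syl sq, h.x01 ef⟩

end Cfsg.Agent.H39.KnFfa
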