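import Mathlib
import Cfsg.Agent.H42.ALDefs
import Cfsg.Agent.H30.OrthCount

/-!
# Facts about `O₄⁻(2) ≅ S₅` acting on its natural module
-/

set_option autoImplicit false

open scoped Pointwise

namespace Cfsg.Agent.H39.ALA

open Cfsg Cfsg.Agent.H30 Cfsg.Agent.H42.AL QuadraticMap Module Cfsg.Agent.H8

theorem finrank_N4 : finrank (ZMod 2) N4 = 4 := by simp

theorem add_self4 (x : N4) : x + x = 0 := CharTwo.add_self_eq_zero x

theorem sub4 (x y : N4) : x - y = x + y := CharTwo.sub_eq_add x y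

theorem zc : ∀ s : ZMod 2, s = 0 ∨ s = 1 := by decide

instance finO : Finite (O q4) :=
  Finite.of_injective (fun g : O q4 => (g.1 : N4 → N4)) fun _ _ h => O_ext (congrFun h)

theorem card_sub (U : Submodule (ZMod 2) N4) : Nat.card U = 2 ^ finrank (ZMod 2) U := by
  rw [Module.natCard_eq_pow_finrank (K := ZMod 2), Nat.card_zmod]

theorem card_O4 : Nat.card (O q4) = 120 := by
  have h : H79.Aniso (1 : ZMod 2) 1 := by unfold H79.Aniso; decide
  rw [card_O_minus hq4 (m := 2) (by norm_num) (by simp) (H79.not_isPlus_minus 1 h)]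
  simp

/-- The nonzero singular vectors. -/
abbrev Sg : Type := {v : N4 // v ≠ 0 ∧ q4 v = 0}

theorem card_Sg : Nat.card Sg = 5 := by
  have : Nat.card Sg = Nat.card {v : N4 // v ≠ 0 ∧ quadFormMinus 1 (ZMod 2) 1 1 v = 0} := rfl
  rw [this, Nat.card_eq_fintype_card]
  decide +kernel

/-- The action on the singular vectors. -/
noncomputable def toS : O q4 →* Equiv.Perm Sg :=
  MonoidHom.mk' (fun g => g.1.toEquiv.subtypeEquiv fun v => by
    change (v ≠ 0 ∧ q4 v = 0) ↔ (g.1 v ≠ 0 ∧ q4 (g.1 v) = 0)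
    rw [O_map, LinearEquiv.map_ne_zero_iff]) fun _ _ => rfl

theorem neg1 : negOne q4 = 1 := negOne_eq_one_of_two_eq_zero rfl

theorem toS_bij : Function.Bijective toS := by
  classical
  obtain ⟨e, f, h⟩ := exists_isHyp_of_three_le hq4 (by rw [finrank_N4]; norm_num)
  have hi : Function.Injective toS := by
    rw [injective_iff_map_eq_one]
    intro g hg
    have := eq_one_or_negOne_of_fix hq4 h (by rw [finrank_N4]; norm_num) g fun u hu0 hu =>
      ⟨1, by
        have := congrArg Subtype.val (Equiv.congr_fun hg ⟨u, hu0, hu⟩)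
        rw [one_smul]; exact this⟩
    rwa [neg1, or_self] at this
  refine (Nat.bijective_iff_injective_and_card _).2 ⟨hi, ?_⟩
  rw [card_O4, Nat.card_perm, card_Sg]; rfl

theorem simple_aux {H α : Type} [Group H] [Finite α] (e : H ≃* Equiv.Perm α) (h5 : 5 ≤ Nat.card α)
    (K : Subgroup H) (h2 : K.index = 2) : IsSimpleGroup K := by
  classical
  have := Fintype.ofFinite α
  have h4 : (K.map (e : H →* Equiv.Perm α)).index = 2 := by rw [Subgroup.index_map_equiv, h2]
  have h3 : K.map (e : H →* Equiv.Perm α) = alternatingGroup α :=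
    Equiv.Perm.eq_alternatingGroup_of_index_eq_two h4
  have := alternatingGroup.isSimpleGroup (α := α) h5
  rw [← h3] at this
  exact (e.subgroupMap K).isSimpleGroup

theorem simple_kerDS : IsSimpleGroup (kerDS hq4) :=
  simple_aux (MulEquiv.ofBijective toS toS_bij) (by rw [card_Sg]) _
    (index_kerDS_even hq4 (by rw [finrank_N4]; norm_num) rfl)

/-- A subgroup normalised by `Ω₄⁻(2)` is trivial or contains it. -/
theorem dichotomy (N : Subgroup (O q4)) (hN : ∀ k ∈ kerDS hq4, ∀ n ∈ N, k * n * k⁻¹ ∈ N) :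
    (∀ g ∈ N, g = 1) ∨ kerDS hq4 ≤ N := by
  have hs := simple_kerDS
  have hn : (N.subgroupOf (kerDS hq4)).Normal :=
    ⟨fun n hn k => hN k k.2 n hn⟩
  rcases hn.eq_bot_or_eq_top with h | h
  · left
    intro g hg
    obtain ⟨e, f, hef⟩ := exists_isHyp_of_three_le hq4 (by rw [finrank_N4]; norm_num)
    have := eq_one_or_negOne_of_commute hq4 hef (by rw [finrank_N4]; norm_num) g fun k hk => by
      have hk' := eichGroup_le_kerDS hq4 hk
      have h1 : k * g * k⁻¹ * g⁻¹ ∈ kerDS hq4 := by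
        have := (kerDS hq4).mul_mem hk' ((kerDS_normal hq4).conj_mem _ ((kerDS hq4).inv_mem hk') g)
        simpa [mul_assoc] using this
      have h2 : (⟨_, h1⟩ : kerDS hq4) ∈ N.subgroupOf (kerDS hq4) :=
        N.mul_mem (hN k hk' g hg) (N.inv_mem hg)
      rw [h, Subgroup.mem_bot] at h2
      have h3 : k * g * k⁻¹ * g⁻¹ = 1 := congrArg Subtype.val h2
      calc g * k = (k * g * k⁻¹ * g⁻¹) * (g * k) := by rw [h3, one_mul]
        _ = k * g := by group
    rwa [neg1, or_self] at this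
  · right
    exact Subgroup.subgroupOf_eq_top.1 h

theorem ea_le_aux {H : Type} [Group H] [Finite H] (hc : Nat.card H = 120) (g : H) (h4 : g ^ 4 = 1)
    (h2 : g * g ≠ 1) (Y : Subgroup H) (hY : ∀ y ∈ Y, y * y = 1) : Nat.card Y ≤ 4 := by
  have hp : IsPGroup 2 Y := fun y => ⟨1, Subtype.ext (by
    rw [pow_one, pow_two]; exact hY y y.2)⟩
  obtain ⟨S, hS, hle⟩ := exists_isSylowIn_ge hp (le_top (a := Y))
  have h8 : Nat.card S = 8 := by
    rw [hS.card_eq, Subgroup.card_top, hc]
    have : Nat.factorization 120 2 = 3 := by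
      rw [show (120 : ℕ) = 2 ^ 3 * 15 by norm_num, Nat.factorization_mul (by norm_num) (by norm_num),
        Nat.Prime.factorization_pow Nat.prime_two, Finsupp.add_apply, Finsupp.single_eq_same,
        Nat.factorization_eq_zero_of_not_dvd (by norm_num)]
    rw [this]; norm_num
  by_contra hlt
  have hd : Nat.card Y ∣ 8 := h8 ▸ Subgroup.card_dvd_of_le hle
  have h9 : Nat.card Y = 8 := by
    have := Nat.le_of_dvd (by norm_num) hd
    generalize Nat.card Y = n at hd hlt this
    interval_cases n <;> omega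
  have hYS : Y = S := Subgroup.eq_of_le_of_card_ge hle (by omega)
  have hz : IsPGroup 2 (Subgroup.zpowers g) := by
    rintro ⟨_, n, rfl⟩
    refine ⟨2, Subtype.ext ?_⟩
    change (g ^ n) ^ 2 ^ 2 = 1
    rw [← zpow_natCast, ← zpow_mul, mul_comm, zpow_mul, zpow_natCast]
    norm_num [h4]
  obtain ⟨k, -, hk⟩ := hS.exists_conj_le hz le_top
  have := hY _ (hYS ▸ hk (conj_mem_conj_smul.2 (Subgroup.mem_zpowers g)))
  apply h2
  rw [conj_mul] at this
  simpa using this

/-- Elementary abelian subgroups have order at most four. -/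
theorem ea_le (Y : Subgroup (O q4)) (hY : ∀ y ∈ Y, y * y = 1) : Nat.card Y ≤ 4 := by
  classical
  let e : O q4 ≃* Equiv.Perm (Fin 5) := (MulEquiv.ofBijective toS toS_bij).trans
    (Finite.equivFinOfCardEq card_Sg).permCongrHom
  let g : Equiv.Perm (Fin 5) := Equiv.swap 0 1 * Equiv.swap 0 2 * Equiv.swap 0 3
  refine ea_le_aux card_O4 (e.symm g) ?_ (fun h => ?_) Y hY
  · rw [← map_pow, show g ^ 4 = 1 by decide, map_one]
  · rw [← map_mul, map_eq_one_iff _ e.symm.injective] at h
    exact absurd h (by decide)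

theorem eq_one_of_mov {g : O q4} (h : finrank (ZMod 2) (movSp g) = 0) : g = 1 := by
  rw [Submodule.finrank_eq_zero] at h
  refine O_ext fun x => ?_
  have : g.1 x - x ∈ movSp g := mem_movSp.2 ⟨x, rfl⟩
  rw [h, Submodule.mem_bot, sub_eq_zero] at this
  exact this

theorem mov_one : finrank (ZMod 2) (movSp (1 : O q4)) = 0 := by
  rw [Submodule.finrank_eq_zero, eq_bot_iff]
  intro y hy
  obtain ⟨x, rfl⟩ := mem_movSp.1 hy
  rw [O_one_apply, sub_self]
  exact Submodule.zero_mem _

theorem mov_le_fix {g : O q4} (h2 : g * g = 1) : movSp g ≤ fixSp g := by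
  intro y hy
  obtain ⟨x, rfl⟩ := mem_movSp.1 hy
  rw [mem_fixSp, map_sub, ← O_mul_apply, h2, O_one_apply, sub4, sub4, add_comm]

theorem rank_cases {g : O q4} (h2 : g * g = 1) (h1 : g ≠ 1) :
    (finrank (ZMod 2) (movSp g) = 1 ∧ finrank (ZMod 2) (fixSp g) = 3) ∨
      (finrank (ZMod 2) (movSp g) = 2 ∧ finrank (ZMod 2) (fixSp g) = 2) := by
  have h3 := finrank_movSp_add_finrank_fixSp g
  have h4 := Submodule.finrank_mono (mov_le_fix h2)
  have h5 : finrank (ZMod 2) (movSp g) ≠ 0 := fun h => h1 (eq_one_of_mov h)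
  rw [finrank_N4] at h3
  omega

/-- The pointwise stabiliser of a hyperplane has order at most two. -/
theorem eq_of_fix3 {g h : O q4} {F : Submodule (ZMod 2) N4} (hF : 3 ≤ finrank (ZMod 2) F)
    (hg : F ≤ fixSp g) (hh : F ≤ fixSp h) (g1 : g ≠ 1) (h1 : h ≠ 1) : g = h := by
  have key : ∀ k : O q4, F ≤ fixSp k → k ≠ 1 → F = fixSp k ∧ finrank (ZMod 2) (movSp k) = 1 := by
    intro k hk k1
    have h3 := finrank_movSp_add_finrank_fixSp k
    have h4 := Submodule.finrank_mono hk
    have h5 : finrank (ZMod 2) (movSp k) ≠ 0 := fun h => k1 (eq_one_of_mov h)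
    rw [finrank_N4] at h3
    exact ⟨Submodule.eq_of_le_of_finrank_le hk (by omega), by omega⟩
  obtain ⟨e1, r1⟩ := key g hg g1
  obtain ⟨e2, -⟩ := key h hh h1
  have em : movSp h = movSp g := by rw [← perp_fixSp hq4, ← perp_fixSp hq4, ← e1, ← e2]
  refine O_ext fun x => ?_
  by_cases hx : x ∈ F
  · rw [mem_fixSp.1 (hg hx), mem_fixSp.1 (hh hx)]
  · have a0 : g.1 x - x ≠ 0 := fun h0 => hx (e1 ▸ mem_fixSp.2 (sub_eq_zero.1 h0))
    have b0 : h.1 x - x ≠ 0 := fun h0 => hx (e2 ▸ mem_fixSp.2 (sub_eq_zero.1 h0))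
    have ha : g.1 x - x ∈ movSp g := mem_movSp.2 ⟨x, rfl⟩
    have hb : h.1 x - x ∈ movSp g := em ▸ mem_movSp.2 ⟨x, rfl⟩
    obtain ⟨c, hc⟩ := (finrank_eq_one_iff_of_nonzero' (⟨_, ha⟩ : movSp g)
      (fun h0 => a0 (congrArg Subtype.val h0))).1 r1 ⟨_, hb⟩
    have hc' : c • (g.1 x - x) = h.1 x - x := congrArg Subtype.val hc
    rcases zc c with rfl | rfl
    · exact absurd (by simpa using hc'.symm) b0
    · rw [one_smul] at hc'
      exact sub_left_injective hc'

theorem card_le_two {α : Type} (ψ : α → O q4) (hψ : Function.Injective ψ)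
    {F : Submodule (ZMod 2) N4} (hF : 3 ≤ finrank (ZMod 2) F) (h : ∀ a, F ≤ fixSp (ψ a)) :
    Nat.card α ≤ 2 := by
  classical
  have : Nat.card Bool = 2 := by simp
  rw [← this]
  refine Nat.card_le_card_of_injective (fun a => decide (ψ a = 1)) fun a b hab => hψ ?_
  have hab' : ψ a = 1 ↔ ψ b = 1 := by simpa using hab
  by_cases h1 : ψ a = 1
  · rw [h1, hab'.1 h1]
  · exact eq_of_fix3 hF (h a) (h b) h1 fun h2 => h1 (hab'.2 h2)

theorem mem_plane {U : Submodule (ZMod 2) N4} (hU : finrank (ZMod 2) U = 2) {a b : N4}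
    (ha : a ∈ U) (hb : b ∈ U) (ha0 : a ≠ 0) (hb0 : b ≠ 0) (hab : a + b ≠ 0) {u : N4}
    (hu : u ∈ U) : u = 0 ∨ u = a ∨ u = b ∨ u = a + b := by
  have hli : LinearIndependent (ZMod 2) ![a, b] := by
    rw [LinearIndependent.pair_iff]
    intro s t h
    rcases zc s with rfl | rfl <;> rcases zc t with rfl | rfl
    · exact ⟨rfl, rfl⟩
    · exact absurd (by simpa using h) hb0
    · exact absurd (by simpa using h) ha0
    · exact absurd (by simpa using h) hab
  have h1 : Submodule.span (ZMod 2) (Set.range ![a, b]) = U := by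
    apply Submodule.eq_of_le_of_finrank_eq
    · rw [Submodule.span_le]
      rintro _ ⟨i, rfl⟩
      fin_cases i
      · exact ha
      · exact hb
    · rw [finrank_span_eq_card hli, hU]; simp
  rw [← h1, Matrix.range_cons_cons_empty, Submodule.mem_span_pair] at hu
  obtain ⟨s, t, rfl⟩ := hu
  rcases zc s with rfl | rfl <;> rcases zc t with rfl | rfl <;> simp

theorem q_mov (g : O q4) (x : N4) : q4 (g.1 x - x) = polar q4 x (g.1 x - x) := by
  have h1 := Q_add (Q := q4) x (g.1 x - x)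
  rw [add_sub_cancel, O_map, add_assoc, left_eq_add] at h1
  rw [← sub_eq_zero, CharTwo.sub_eq_add]
  exact h1

/-- A four-group fixing a plane contains a reflection. -/
theorem four_rank_one {g h : O q4} (g2 : g * g = 1) (h2 : h * h = 1) (k2 : g * h * (g * h) = 1)
    (g1 : g ≠ 1) (h1 : h ≠ 1) (hne : g ≠ h) {F : Submodule (ZMod 2) N4}
    (hF : 2 ≤ finrank (ZMod 2) F) (hg : F ≤ fixSp g) (hh : F ≤ fixSp h) :
    finrank (ZMod 2) (movSp g) = 1 ∨ finrank (ZMod 2) (movSp h) = 1 ∨
      finrank (ZMod 2) (movSp (g * h)) = 1 := by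
  by_contra hno
  push Not at hno
  obtain ⟨n1, n2, n3⟩ := hno
  have hk1 : g * h ≠ 1 := fun h0 => hne (by
    calc g = g * (h * h) := by rw [h2, mul_one]
      _ = h := by rw [← mul_assoc, h0, one_mul])
  have hk : F ≤ fixSp (g * h) := fun x hx => by
    rw [mem_fixSp, O_mul_apply, mem_fixSp.1 (hh hx), mem_fixSp.1 (hg hx)]
  have key : ∀ k : O q4, k * k = 1 → k ≠ 1 → finrank (ZMod 2) (movSp k) ≠ 1 → F ≤ fixSp k →
      F = fixSp k ∧ movSp k = F ∧ finrank (ZMod 2) F = 2 := by
    intro k k2 k1 n hk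
    obtain ⟨r1, r2⟩ := (rank_cases k2 k1).resolve_left fun h => n h.1
    have e : F = fixSp k := Submodule.eq_of_le_of_finrank_le hk (by omega)
    exact ⟨e, e ▸ Submodule.eq_of_le_of_finrank_eq (mov_le_fix k2) (by omega), e ▸ r2⟩
  obtain ⟨fg, mg, r2⟩ := key g g2 g1 n1 hg
  obtain ⟨fh, mh, -⟩ := key h h2 h1 n2 hh
  obtain ⟨fk, -, -⟩ := key _ k2 hk1 n3 hk
  have key2 : ∀ x, x ∉ F → ∀ u ∈ F, q4 u = polar q4 x u := by
    intro x hx u hu
    have ha : g.1 x - x ∈ F := mg ▸ mem_movSp.2 ⟨x, rfl⟩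
    have hb : h.1 x - x ∈ F := mh ▸ mem_movSp.2 ⟨x, rfl⟩
    have hs : (g * h).1 x - x = (g.1 x - x) + (h.1 x - x) := by
      have := mem_fixSp.1 (hg hb)
      rw [map_sub] at this
      rw [O_mul_apply, ← this]; abel
    rcases mem_plane r2 ha hb (fun h0 => hx (fg ▸ mem_fixSp.2 (sub_eq_zero.1 h0)))
      (fun h0 => hx (fh ▸ mem_fixSp.2 (sub_eq_zero.1 h0)))
      (fun h0 => hx (fk ▸ mem_fixSp.2 (sub_eq_zero.1 (hs.trans h0)))) hu with
      rfl | rfl | rfl | rfl
    · simp
    · exact q_mov g x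
    · exact q_mov h x
    · rw [← hs]; exact q_mov _ x
  have hnt : F ≠ ⊤ := fun h0 => by
    rw [h0, finrank_top, finrank_N4] at r2; omega
  obtain ⟨x, -, hx⟩ := SetLike.exists_of_lt (lt_top_iff_ne_top.2 hnt)
  have htop : F ⊔ Submodule.span (ZMod 2) {x} = ⊤ := by
    rw [eq_top_iff]
    intro y _
    by_cases hy : y ∈ F
    · exact Submodule.mem_sup_left hy
    · have : y - x ∈ F := by
        rw [fg, ← perp_movSp hq4, mem_perp', mg]
        intro w hw
        rw [polar_sub_left, ← key2 x hx w hw, ← key2 y hy w hw, sub_self]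
      rw [← sub_add_cancel y x]
      exact Submodule.add_mem_sup this (Submodule.mem_span_singleton_self x)
  have h5 := Submodule.finrank_add_le_finrank_add_finrank F (Submodule.span (ZMod 2) {x})
  have h6 := finrank_span_le_card (R := ZMod 2) ({x} : Set N4)
  rw [htop, finrank_top, finrank_N4] at h5
  simp only [Set.toFinset_singleton, Finset.card_singleton] at h6
  omega

/-- The pointwise stabiliser of a subspace. -/
def stab (F : Submodule (ZMod 2) N4) : Subgroup (O q4) where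
  carrier := {g | F ≤ fixSp g}
  one_mem' := fun _ _ => mem_fixSp.2 rfl
  mul_mem' := fun {g h} hg hh x hx => by
    rw [mem_fixSp, O_mul_apply, mem_fixSp.1 (hh hx), mem_fixSp.1 (hg hx)]
  inv_mem' := fun {g} hg x hx => by
    rw [mem_fixSp]
    conv_lhs => rw [← mem_fixSp.1 (hg hx)]
    rw [← O_mul_apply, inv_mul_cancel, O_one_apply]

theorem card_stab {F : Submodule (ZMod 2) N4} (hF : perp q4 F ≤ F) : Nat.card (stab F) ≤ 4 := by
  refine ea_le _ fun g hg => O_ext fun x => ?_
  have h1 : g.1 x - x ∈ F := by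
    apply hF
    apply perp_anti hg
    rw [perp_fixSp hq4]
    exact mem_movSp.2 ⟨x, rfl⟩
  have h2 := mem_fixSp.1 (hg h1)
  rw [map_sub, sub4, sub4] at h2
  rw [O_mul_apply, O_one_apply]
  linear_combination (norm := module) h2

end Cfsg.Agent.H39.ALA
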