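import Mathlib
import Cfsg.Agent.H39.ALLin

/-!
# The linear algebra behind weak and strong closure of `W = 4^(1+4)`
-/

set_option autoImplicit false

namespace Cfsg.Agent.H39.ALA

open Cfsg Cfsg.Agent.H30 Cfsg.Agent.H42.AL QuadraticMap Module

abbrev PP : Type := N4 × N4

/-- The diagonal action. -/
def dg (g : O q4) (x : PP) : PP := (g.1 x.1, g.1 x.2)

theorem add_selfP (x : PP) : x + x = 0 := Prod.ext (add_self4 _) (add_self4 _)

theorem eq_of_add_eq_zeroP {x y : PP} (h : x + y = 0) : x = y := by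
  calc x = x + (y + y) := by rw [add_selfP, add_zero]
    _ = y := by rw [← add_assoc, h, zero_add]

theorem split (S : AddSubgroup PP) (θ : PP → O q4)
    (hθ : ∀ x ∈ S, ∀ x' ∈ S, θ (x + x') = θ x * θ x') :
    ∃ Y : Subgroup (O q4), (∀ y, y ∈ Y ↔ ∃ x ∈ S, θ x = y) ∧
      Nat.card S = Nat.card {x // x ∈ S ∧ θ x = 1} * Nat.card Y := by
  let f : Multiplicative S →* O q4 :=
    MonoidHom.mk' (fun x => θ (Multiplicative.toAdd x : S))
      fun a b => hθ _ (Subtype.mem _) _ (Subtype.mem _)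
  refine ⟨f.range, fun y => ⟨?_, ?_⟩, ?_⟩
  · rintro ⟨x, rfl⟩
    exact ⟨_, Subtype.mem _, rfl⟩
  · rintro ⟨x, hx, rfl⟩
    exact ⟨Multiplicative.ofAdd ⟨x, hx⟩, rfl⟩
  · have h1 := Subgroup.card_eq_card_quotient_mul_card_subgroup f.ker
    rw [Nat.card_congr (QuotientGroup.quotientKerEquivRange f).toEquiv] at h1
    have h2 : Nat.card f.ker = Nat.card {x // x ∈ S ∧ θ x = 1} :=
      Nat.card_congr
        { toFun := fun x => ⟨(Multiplicative.toAdd x.1 : S), Subtype.mem _, x.2⟩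
          invFun := fun x => ⟨Multiplicative.ofAdd ⟨x.1, x.2.1⟩, x.2.2⟩
          left_inv := fun _ => rfl
          right_inv := fun _ => rfl }
    rw [← h2, mul_comm, ← h1]
    rfl

theorem card_le_sq {α : Type} (F : Submodule (ZMod 2) N4) (ν : α → PP) (hν : Function.Injective ν)
    (h : ∀ a, (ν a).1 ∈ F ∧ (ν a).2 ∈ F) :
    Nat.card α ≤ 2 ^ finrank (ZMod 2) F * 2 ^ finrank (ZMod 2) F := by
  rw [← card_sub, ← Nat.card_prod]
  refine Nat.card_le_card_of_injective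
    (fun a => ((⟨(ν a).1, (h a).1⟩, ⟨(ν a).2, (h a).2⟩) : F × F)) fun a b hab => hν ?_
  simp only [Prod.mk.injEq, Subtype.mk.injEq] at hab
  exact Prod.ext hab.1 hab.2

theorem card_prod_sub (F : Submodule (ZMod 2) N4) :
    Nat.card (F.toAddSubgroup.prod F.toAddSubgroup) =
      2 ^ finrank (ZMod 2) F * 2 ^ finrank (ZMod 2) F := by
  rw [← card_sub, ← Nat.card_prod]
  exact Nat.card_congr (AddSubgroup.prodEquiv _ _).toEquiv

theorem theta_zero {S : AddSubgroup PP} {θ : PP → O q4}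
    (hθ : ∀ x ∈ S, ∀ x' ∈ S, θ (x + x') = θ x * θ x') : θ 0 = 1 := by
  have := hθ 0 S.zero_mem 0 S.zero_mem
  rw [add_zero] at this
  exact (mul_eq_left.1 this.symm)

/-- The span of the coordinates of a family. -/
def cspan {α : Type} (ν : α → PP) : Submodule (ZMod 2) N4 :=
  Submodule.span (ZMod 2) (Set.range (fun a => (ν a).1) ∪ Set.range (fun a => (ν a).2))

theorem mem_cspan {α : Type} (ν : α → PP) (a : α) : (ν a).1 ∈ cspan ν ∧ (ν a).2 ∈ cspan ν :=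
  ⟨Submodule.subset_span (Or.inl ⟨a, rfl⟩), Submodule.subset_span (Or.inr ⟨a, rfl⟩)⟩

theorem cspan_le' {α : Type} {ν : α → PP} {F : Submodule (ZMod 2) N4}
    (h : ∀ a, (ν a).1 ∈ F ∧ (ν a).2 ∈ F) : cspan ν ≤ F := by
  rw [cspan, Submodule.span_le]
  rintro _ (⟨a, rfl⟩ | ⟨a, rfl⟩)
  · exact (h a).1
  · exact (h a).2

theorem cspan_le {α : Type} {ν : α → PP} {g : O q4} (h : ∀ a, dg g (ν a) = ν a) :
    cspan ν ≤ fixSp g :=
  cspan_le' fun a => ⟨mem_fixSp.2 (congrArg Prod.fst (h a)), mem_fixSp.2 (congrArg Prod.snd (h a))⟩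

theorem dim_ge {α : Type} (ν : α → PP) (hν : Function.Injective ν) (n : ℕ)
    (h : 2 ^ n * 2 ^ n < Nat.card α) : n + 1 ≤ finrank (ZMod 2) (cspan ν) := by
  have hk := card_le_sq (cspan ν) ν hν (mem_cspan ν)
  by_contra hlt
  have := Nat.pow_le_pow_right (show 0 < 2 by norm_num)
    (show finrank (ZMod 2) (cspan ν) ≤ n by omega)
  have := Nat.mul_le_mul this this
  omega

theorem sub_le_two (Y : Subgroup (O q4)) {F : Submodule (ZMod 2) N4} (hF : 3 ≤ finrank (ZMod 2) F)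
    (h : ∀ y ∈ Y, F ≤ fixSp y) : Nat.card Y ≤ 2 :=
  card_le_two (fun y : Y => (y : O q4)) Subtype.val_injective hF fun y => h y y.2

/-- Weak closure. -/
theorem weak_lin (θ : PP → O q4) (μ : PP → PP) (hθ : ∀ x x', θ (x + x') = θ x * θ x')
    (hμ : ∀ x x', θ x = 1 → θ x' = 1 → μ x = μ x' → x = x')
    (hfix : ∀ x x', θ x' = 1 → dg (θ x) (μ x') = μ x') : ∀ x, θ x = 1 := by
  obtain ⟨Y, hY, hc⟩ := split ⊤ θ fun x _ x' _ => hθ x x'
  have h0 : θ 0 = 1 := theta_zero (S := ⊤) fun x _ x' _ => hθ x x'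
  let ν : {x // x ∈ (⊤ : AddSubgroup PP) ∧ θ x = 1} → PP := fun x => μ x
  have hνi : Function.Injective ν := fun a b h => Subtype.ext (hμ _ _ a.2.2 b.2.2 h)
  have h4 := ea_le Y fun y hy => by
    obtain ⟨x, -, rfl⟩ := (hY y).1 hy; rw [← hθ, add_selfP, h0]
  have hYc : ∀ y ∈ Y, cspan ν ≤ fixSp y := fun y hy => by
    obtain ⟨x, -, rfl⟩ := (hY y).1 hy
    exact cspan_le fun a => hfix x a a.2.2
  have hP : Nat.card (⊤ : AddSubgroup PP) = 256 := by
    rw [AddSubgroup.card_top, Nat.card_prod]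
    simp
  rw [hP] at hc
  have key : ∀ b, Nat.card Y ≤ b →
      256 ≤ Nat.card {x // x ∈ (⊤ : AddSubgroup PP) ∧ θ x = 1} * b := fun b hb =>
    hc.le.trans (Nat.mul_le_mul_left _ hb)
  have d3 := dim_ge ν hνi 2 (by have := key 4 h4; omega)
  have d4 := dim_ge ν hνi 3 (by have := key 2 (sub_le_two Y d3 hYc); omega)
  intro x
  have h1 := Submodule.finrank_mono (hYc _ ((hY _).2 ⟨x, trivial, rfl⟩))
  have h2 := finrank_movSp_add_finrank_fixSp (θ x)
  rw [finrank_N4] at h2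
  exact eq_one_of_mov (by omega)

/-- Strong closure. -/
theorem strong_lin (φ : O q4) (φ2 : φ * φ = 1) (φ1 : φ ≠ 1) (θ : PP → O q4)
    (μ : PP → PP) (η : PP)
    (hθ : ∀ x x', dg φ x = x → dg φ x' = x' → θ (x + x') = θ x * θ x')
    (hadd : ∀ x x', dg φ x = x → dg φ x' = x' → θ x = 1 → θ x' = 1 → μ (x + x') = μ x + μ x')
    (hμ : ∀ x, dg φ x = x → θ x = 1 → μ x = 0 → x = 0)
    (hη : ∀ x, dg φ x = x → θ x = 1 → μ x ≠ η)
    (hfix : ∀ x x', dg φ x = x → dg φ x' = x' → θ x' = 1 → dg (θ x) (μ x') = μ x')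
    (hfη : ∀ x, dg φ x = x → dg (θ x) η = η)
    (hψ : ∀ a, θ (dg φ a - a) = 1 → ∃ ψ, (∀ x, dg φ x = x → θ x = 1 → dg ψ (μ x) = μ x) ∧
      dg ψ η = η + μ (dg φ a - a)) :
    finrank (ZMod 2) (movSp φ) = 2 ∧ ∃ x, dg φ x = x ∧ finrank (ZMod 2) (movSp (θ x)) = 1 := by
  let S : AddSubgroup PP := (fixSp φ).toAddSubgroup.prod (fixSp φ).toAddSubgroup
  let R : AddSubgroup PP := (movSp φ).toAddSubgroup.prod (movSp φ).toAddSubgroup
  have hS : ∀ x, x ∈ S ↔ dg φ x = x := fun x =>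
    ⟨fun h => Prod.ext (mem_fixSp.1 h.1) (mem_fixSp.1 h.2),
      fun h => ⟨mem_fixSp.2 (congrArg Prod.fst h), mem_fixSp.2 (congrArg Prod.snd h)⟩⟩
  have hRS : ∀ x ∈ R, dg φ x = x := fun x hx =>
    (hS x).1 ⟨mov_le_fix φ2 hx.1, mov_le_fix φ2 hx.2⟩
  have hR : ∀ x ∈ R, ∃ a, dg φ a - a = x := fun x hx => by
    obtain ⟨a, ha⟩ := mem_movSp.1 hx.1
    obtain ⟨b, hb⟩ := mem_movSp.1 hx.2
    exact ⟨(a, b), Prod.ext ha hb⟩
  have cS : Nat.card S = _ := card_prod_sub _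
  have cR : Nat.card R = _ := card_prod_sub _
  have hθ' : ∀ x ∈ S, ∀ x' ∈ S, θ (x + x') = θ x * θ x' := fun x hx x' hx' =>
    hθ x x' ((hS x).1 hx) ((hS x').1 hx')
  obtain ⟨Y, hY, hc⟩ := split S θ hθ'
  have h0 : θ 0 = 1 := theta_zero hθ'
  let ν : {x // x ∈ S ∧ θ x = 1} → PP := fun x => μ x
  have hνadd : ∀ a b : {x // x ∈ S ∧ θ x = 1}, (a.1 + b.1 ∈ S ∧ θ (a.1 + b.1) = 1) ∧
      μ (a.1 + b.1) = ν a + ν b := fun a b =>
    ⟨⟨S.add_mem a.2.1 b.2.1, by rw [hθ' _ a.2.1 _ b.2.1, a.2.2, b.2.2, one_mul]⟩,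
      hadd _ _ ((hS _).1 a.2.1) ((hS _).1 b.2.1) a.2.2 b.2.2⟩
  have hνi : Function.Injective ν := fun a b h => by
    obtain ⟨⟨h1, h2⟩, h3⟩ := hνadd a b
    rw [h, add_selfP] at h3
    exact Subtype.ext (eq_of_add_eq_zeroP (hμ _ ((hS _).1 h1) h2 h3))
  have hY2 : ∀ y ∈ Y, y * y = 1 := fun y hy => by
    obtain ⟨x, hx, rfl⟩ := (hY y).1 hy; rw [← hθ' x hx x hx, add_selfP, h0]
  have h4 := ea_le Y hY2
  have hYc : ∀ y ∈ Y, cspan ν ≤ fixSp y := fun y hy => by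
    obtain ⟨x, hx, rfl⟩ := (hY y).1 hy
    exact cspan_le fun a => hfix x a ((hS x).1 hx) ((hS _).1 a.2.1) a.2.2
  have hYη : ∀ y ∈ Y, dg y η = η := fun y hy => by
    obtain ⟨x, hx, rfl⟩ := (hY y).1 hy
    exact hfη x ((hS x).1 hx)
  have hψ' : ∀ u, u ∈ R ∧ θ u = 1 → ∃ ψ, cspan ν ≤ fixSp ψ ∧ dg ψ η = η + μ u := by
    rintro u ⟨hu, h1⟩
    obtain ⟨a, rfl⟩ := hR u hu
    obtain ⟨ψ, e1, e2⟩ := hψ a h1
    exact ⟨ψ, cspan_le fun x => e1 x ((hS _).1 x.2.1) x.2.2, e2⟩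
  choose! ψ ψ1 ψ2 using hψ'
  have ψi : ∀ u u', u ∈ R ∧ θ u = 1 → u' ∈ R ∧ θ u' = 1 → ψ u = ψ u' → u = u' := by
    intro u u' hu hu' e
    have e1 := ψ2 u hu
    rw [e, ψ2 u' hu', add_right_inj] at e1
    exact congrArg Subtype.val (hνi (a₁ := ⟨u, (hS _).2 (hRS _ hu.1), hu.2⟩)
      (a₂ := ⟨u', (hS _).2 (hRS _ hu'.1), hu'.2⟩) e1.symm)
  let ν' : {x // x ∈ S ∧ θ x = 1} × Bool → PP := fun z => if z.2 then ν z.1 + η else ν z.1
  have hν'i : Function.Injective ν' := by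
    have hx : ∀ a b, ν a + η ≠ ν b := fun a b h => by
      obtain ⟨⟨h1, h2⟩, h3⟩ := hνadd a b
      apply hη _ ((hS _).1 h1) h2
      rw [h3, ← h, ← add_assoc, add_selfP, zero_add]
    rintro ⟨a, e⟩ ⟨b, e'⟩ h
    cases e <;> cases e' <;> simp only [ν', if_true, Bool.false_eq_true, if_false] at h
    · rw [hνi h]
    · exact absurd h.symm (hx _ _)
    · exact absurd h (hx _ _)
    · rw [hνi (add_right_cancel h)]
  have hYc' : ∀ y ∈ Y, cspan ν' ≤ fixSp y := fun y hy => cspan_le' fun z => by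
    obtain ⟨a, e⟩ := z
    have h1 := mem_cspan ν a
    have h2 := hYη y hy
    cases e
    · exact ⟨hYc y hy h1.1, hYc y hy h1.2⟩
    · exact ⟨Submodule.add_mem _ (hYc y hy h1.1) (mem_fixSp.2 (congrArg Prod.fst h2)),
        Submodule.add_mem _ (hYc y hy h1.2) (mem_fixSp.2 (congrArg Prod.snd h2))⟩
  have cν' : Nat.card ({x // x ∈ S ∧ θ x = 1} × Bool) = Nat.card {x // x ∈ S ∧ θ x = 1} * 2 := by
    rw [Nat.card_prod, Nat.card_eq_fintype_card (α := Bool), Fintype.card_bool]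
  have key : ∀ b, Nat.card Y ≤ b → Nat.card S ≤ Nat.card {x // x ∈ S ∧ θ x = 1} * b := fun b hb =>
    hc.le.trans (Nat.mul_le_mul_left _ hb)
  rcases rank_cases φ2 φ1 with ⟨r1, r3⟩ | ⟨r2, r2'⟩
  · exfalso
    rw [r3] at cS
    rw [r1] at cR
    have d3' := dim_ge ν' hν'i 2 (by have := key 4 h4; omega)
    have s2 := sub_le_two Y d3' hYc'
    have d3 := dim_ge ν hνi 2 (by have := key 2 s2; omega)
    by_cases hY1 : ∀ x ∈ S, θ x = 1
    · have hall : ∀ u : R, u.1 ∈ R ∧ θ u = 1 := fun u => ⟨u.2, hY1 _ ((hS _).2 (hRS _ u.2))⟩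
      have := card_le_two (fun u : R => ψ u)
        (fun u u' h => Subtype.ext (ψi _ _ (hall u) (hall u') h)) d3 fun u => ψ1 _ (hall u)
      omega
    · push Not at hY1
      obtain ⟨x, hx, hx1⟩ := hY1
      have hxY : θ x ∈ Y := (hY _).2 ⟨x, hx, rfl⟩
      have hinj : ∀ u ∈ R, θ u = 1 → u = 0 := by
        intro u hu h1
        have e3 : dg (ψ u) η = η := by
          by_cases h2 : ψ u = 1
          · rw [h2]; rfl
          · rw [eq_of_fix3 d3 (ψ1 u ⟨hu, h1⟩) (hYc _ hxY) h2 hx1]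
            exact hYη _ hxY
        have e2 := ψ2 u ⟨hu, h1⟩
        rw [e3, left_eq_add] at e2
        exact hμ u (hRS u hu) h1 e2
      have h16 : Nat.card R ≤ Nat.card Y := by
        refine Nat.card_le_card_of_injective
          (fun u : R => (⟨θ u, (hY _).2 ⟨u, (hS _).2 (hRS _ u.2), rfl⟩⟩ : Y)) fun u u' h => ?_
        have h1 : θ u = θ u' := congrArg Subtype.val h
        apply Subtype.ext
        apply eq_of_add_eq_zeroP
        apply hinj _ (R.add_mem u.2 u'.2)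
        rw [hθ _ _ (hRS _ u.2) (hRS _ u'.2), h1, ← hθ _ _ (hRS _ u'.2) (hRS _ u'.2), add_selfP, h0]
      omega
  · refine ⟨r2, ?_⟩
    rw [r2'] at cS
    have emf : movSp φ = fixSp φ := Submodule.eq_of_le_of_finrank_eq (mov_le_fix φ2) (by omega)
    have hSR : ∀ a : {x // x ∈ S ∧ θ x = 1}, a.1 ∈ R ∧ θ a = 1 := fun a =>
      ⟨⟨emf.ge a.2.1.1, emf.ge a.2.1.2⟩, a.2.2⟩
    have k4 : Nat.card {x // x ∈ S ∧ θ x = 1} ≤ 4 := by
      by_contra hk
      have d2 := dim_ge ν hνi 1 (by omega)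
      have hle : cspan ν ≤ perp q4 (cspan ν) := cspan_le' fun a => by
        have e1 := perp_anti (Q := q4) (ψ1 _ (hSR a))
        have e2 := ψ2 _ (hSR a)
        rw [perp_fixSp hq4] at e1
        refine ⟨e1 (mem_movSp.2 ⟨η.1, ?_⟩), e1 (mem_movSp.2 ⟨η.2, ?_⟩)⟩
        · have := congrArg Prod.fst e2
          exact sub_eq_of_eq_add' this
        · have := congrArg Prod.snd e2
          exact sub_eq_of_eq_add' this
      have h6 := finrank_add_finrank_perp hq4 (cspan ν)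
      rw [finrank_N4] at h6
      have he : cspan ν = perp q4 (cspan ν) := Submodule.eq_of_le_of_finrank_le hle (by omega)
      have h7 := card_stab he.ge
      have h8 : Nat.card {x // x ∈ S ∧ θ x = 1} ≤ Nat.card (stab (cspan ν)) :=
        Nat.card_le_card_of_injective (fun a => ⟨ψ a, ψ1 _ (hSR a)⟩) fun a b h =>
          Subtype.ext (ψi _ _ (hSR a) (hSR b) (congrArg Subtype.val h))
      omega
    have s3 : 2 < Nat.card Y := by
      by_contra h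
      have := key 2 (by omega)
      omega
    have d2 := dim_ge ν' hν'i 1 (by have := key 4 h4; omega)
    have : ∃ g ∈ Y, ∃ h ∈ Y, g ≠ 1 ∧ h ≠ 1 ∧ g ≠ h := by
      have := Fintype.ofFinite Y
      rw [Nat.card_eq_fintype_card] at s3
      obtain ⟨a, b, c, ab, ac, bc⟩ := Fintype.two_lt_card_iff.1 s3
      have ab' : (a : O q4) ≠ b := fun h => ab (Subtype.ext h)
      have ac' : (a : O q4) ≠ c := fun h => ac (Subtype.ext h)
      have bc' : (b : O q4) ≠ c := fun h => bc (Subtype.ext h)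
      refine ⟨a⁻¹ * b, (a⁻¹ * b).2, a⁻¹ * c, (a⁻¹ * c).2, fun h => ab' (inv_mul_eq_one.1 h),
        fun h => ac' (inv_mul_eq_one.1 h), fun h => bc' (mul_left_cancel h)⟩
    obtain ⟨g, hg, h, hh, g1, h1, gh⟩ := this
    have : ∃ y ∈ Y, finrank (ZMod 2) (movSp y) = 1 := by
      rcases four_rank_one (hY2 g hg) (hY2 h hh) (hY2 _ (Y.mul_mem hg hh)) g1 h1 gh d2
        (hYc' g hg) (hYc' h hh) with k | k | k
      · exact ⟨_, hg, k⟩
      · exact ⟨_, hh, k⟩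
      · exact ⟨_, Y.mul_mem hg hh, k⟩
    obtain ⟨y, hy, k⟩ := this
    obtain ⟨x, hx, rfl⟩ := (hY y).1 hy
    exact ⟨x, (hS x).1 hx, k⟩

end Cfsg.Agent.H39.ALA
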