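import Mathlib
import Cfsg.Agent.H39.ALLin2

/-!
# AL-ALPHA: `N(V) ≤ N(W)`
-/

set_option autoImplicit false

open scoped Pointwise

namespace Cfsg.Agent.H39.ALA

open Cfsg Subgroup Cfsg.Agent.H30 Cfsg.Agent.H42.AL QuadraticMap Module Cfsg.Agent.H8

universe u

variable {G : Type u} [Group G]

/-- The part of the data that is needed for closure arguments. -/
structure Dat (V W : Subgroup G) (π : G → PP) (Φ : G → O q4) : Prop where
  VW : V ≤ W
  WC : W ≤ centralizer (V : Set G)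
  two : IsPGroup 2 W
  π_mul : ∀ a ∈ W, ∀ b ∈ W, π (a * b) = π a + π b
  π_ker : ∀ a ∈ W, π a = 0 ↔ a ∈ V
  π_surj : ∀ x, ∃ a ∈ W, π a = x
  act : ∀ g ∈ centralizer (V : Set G), g ∈ normalizer (W : Set G) → ∀ a ∈ W,
    π (g * a * g⁻¹) = dg (Φ g) (π a)
  ker : ∀ g ∈ centralizer (V : Set G), g ∈ normalizer (W : Set G) → (∃ k : ℕ, g ^ 2 ^ k = 1) →
    Φ g = 1 → g ∈ W

theorem conj_mem {W : Subgroup G} {g a : G} (hg : g ∈ normalizer (W : Set G)) (ha : a ∈ W) :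
    g * a * g⁻¹ ∈ W := (mem_normalizer_iff.1 hg a).1 ha

theorem cen {V : Subgroup G} {g v : G} (hg : g ∈ centralizer (V : Set G)) (hv : v ∈ V) :
    g * v * g⁻¹ = v := by
  rw [← mem_centralizer_iff.1 hg v hv, mul_inv_cancel_right]

theorem two_elt {W : Subgroup G} (h : IsPGroup 2 W) {a : G} (ha : a ∈ W) :
    ∃ k : ℕ, a ^ 2 ^ k = 1 := by
  obtain ⟨k, hk⟩ := h ⟨a, ha⟩
  exact ⟨k, congrArg Subtype.val hk⟩

namespace Dat

variable {V W : Subgroup G} {π : G → PP} {Φ : G → O q4} (D : Dat V W π Φ)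
include D

theorem π_V {v : G} (hv : v ∈ V) : π v = 0 := (D.π_ker v (D.VW hv)).2 hv

theorem π_inv {a : G} (ha : a ∈ W) : π a⁻¹ = π a := by
  apply eq_of_add_eq_zeroP
  rw [← D.π_mul _ (W.inv_mem ha) _ ha, inv_mul_cancel, D.π_V V.one_mem]

theorem of_π_eq {a b : G} (ha : a ∈ W) (hb : b ∈ W) (h : π a = π b) : a * b⁻¹ ∈ V := by
  rw [← D.π_ker _ (W.mul_mem ha (W.inv_mem hb)), D.π_mul _ ha _ (W.inv_mem hb), D.π_inv hb, h,
    add_selfP]

theorem π_eq {a b : G} (hb : b ∈ W) (h : a * b⁻¹ ∈ V) : a ∈ W ∧ π a = π b := by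
  have e : a = a * b⁻¹ * b := by group
  refine ⟨e ▸ W.mul_mem (D.VW h) hb, ?_⟩
  rw [e, D.π_mul _ (D.VW h) _ hb, D.π_V h, zero_add]

theorem π_conj {a b : G} (ha : a ∈ W) (hb : b ∈ W) : π (a * b * a⁻¹) = π b := by
  rw [D.π_mul _ (W.mul_mem ha hb) _ (W.inv_mem ha), D.π_mul _ ha _ hb, D.π_inv ha, add_right_comm,
    add_selfP, zero_add]

theorem comm {a b : G} (ha : a ∈ W) (hb : b ∈ W) : a * b * a⁻¹ * b⁻¹ ∈ V :=
  D.of_π_eq (W.mul_mem (W.mul_mem ha hb) (W.inv_mem ha)) hb (D.π_conj ha hb)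

theorem sq {a : G} (ha : a ∈ W) : a * a ∈ V := by
  rw [← D.π_ker _ (W.mul_mem ha ha), D.π_mul _ ha _ ha, add_selfP]

theorem Φ_ext {φ ψ : O q4} (h : ∀ a ∈ W, dg φ (π a) = dg ψ (π a)) : φ = ψ := by
  refine O_ext fun x => ?_
  obtain ⟨a, ha, e⟩ := D.π_surj (x, x)
  have := h a ha
  rw [e] at this
  exact congrArg Prod.fst this

theorem Φ_mul {g h : G} (hg : g ∈ centralizer (V : Set G)) (hg' : g ∈ normalizer (W : Set G))
    (hh : h ∈ centralizer (V : Set G)) (hh' : h ∈ normalizer (W : Set G)) :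
    Φ (g * h) = Φ g * Φ h := by
  refine D.Φ_ext fun a ha => ?_
  rw [← D.act _ (mul_mem hg hh) (mul_mem hg' hh') a ha]
  have e : g * h * a * (g * h)⁻¹ = g * (h * a * h⁻¹) * g⁻¹ := by group
  rw [e, D.act _ hg hg' _ (conj_mem hh' ha), D.act _ hh hh' _ ha]
  rfl

theorem Φ_one {g : G} (hg : g ∈ centralizer (V : Set G)) (hg' : g ∈ normalizer (W : Set G))
    (h : ∀ a ∈ W, g * a * g⁻¹ * a⁻¹ ∈ V) : Φ g = 1 := by
  refine D.Φ_ext fun a ha => ?_
  rw [← D.act _ hg hg' a ha, (D.π_eq ha (h a ha)).2]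
  rfl

theorem of_Φ_one {g : G} (hg : g ∈ centralizer (V : Set G)) (hg' : g ∈ normalizer (W : Set G))
    (h : Φ g = 1) {a : G} (ha : a ∈ W) : g * a * g⁻¹ * a⁻¹ ∈ V := by
  apply D.of_π_eq (conj_mem hg' ha) ha
  rw [D.act _ hg hg' a ha, h]
  rfl

theorem Φ_W {a : G} (ha : a ∈ W) : Φ a = 1 :=
  D.Φ_one (D.WC ha) (le_normalizer ha) fun _ hb => D.comm ha hb

theorem Φ_congr {g h : G} (hh : h ∈ centralizer (V : Set G)) (hh' : h ∈ normalizer (W : Set G))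
    (e : g * h⁻¹ ∈ V) : Φ g = Φ h := by
  have e1 : g = g * h⁻¹ * h := by group
  rw [e1, D.Φ_mul (D.WC (D.VW e)) (le_normalizer (D.VW e)) hh hh', D.Φ_W (D.VW e), one_mul]

theorem conj {c : G} (hc : c ∈ normalizer (V : Set G)) :
    Dat V (MulAut.conj c • W) (fun a => π (c⁻¹ * a * c)) (fun g => Φ (c⁻¹ * g * c)) := by
  have hV : MulAut.conj c • V = V := mem_normalizer_iff_conj_smul_eq.1 hc
  have hv : ∀ a, c⁻¹ * a * c ∈ V ↔ a ∈ V := fun a => by rw [← mem_conj_smul, hV]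
  have hC : ∀ g, c⁻¹ * g * c ∈ centralizer (V : Set G) ↔ g ∈ centralizer (V : Set G) := fun g => by
    rw [← mem_conj_smul, ← centralizer_conj_smul, hV]
  have hN : ∀ g, c⁻¹ * g * c ∈ normalizer (W : Set G) ↔
      g ∈ normalizer ((MulAut.conj c • W : Subgroup G) : Set G) := fun g => by
    rw [← mem_conj_smul, normalizer_conj_smul]
  refine ⟨fun a ha => mem_conj_smul.2 (D.VW ((hv a).2 ha)),
    fun a ha => (hC a).1 (D.WC (mem_conj_smul.1 ha)), isPGroup_conj_smul D.two c,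
    fun a ha b hb => ?_, fun a ha => ?_, fun x => ?_, fun g hg hg' a ha => ?_,
    fun g hg hg' hk h1 => ?_⟩
  · rw [← D.π_mul _ (mem_conj_smul.1 ha) _ (mem_conj_smul.1 hb)]
    congr 1; group
  · rw [D.π_ker _ (mem_conj_smul.1 ha), hv]
  · obtain ⟨a, ha, e⟩ := D.π_surj x
    refine ⟨c * a * c⁻¹, conj_mem_conj_smul.2 ha, ?_⟩
    rw [← e]; congr 1; group
  · rw [← D.act _ ((hC g).2 hg) ((hN g).2 hg') _ (mem_conj_smul.1 ha)]
    congr 1; group
  · refine mem_conj_smul.2 (D.ker _ ((hC g).2 hg) ((hN g).2 hg') ?_ h1)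
    obtain ⟨k, hk⟩ := hk
    refine ⟨k, ?_⟩
    have := conj_pow (i := 2 ^ k) (a := c⁻¹) (b := g)
    rw [inv_inv, hk] at this
    rw [this]; group

end Dat

/-- `W` carries such data. -/
def IsW (V W : Subgroup G) : Prop := ∃ π Φ, Dat V W π Φ

theorem IsW.conj {V W : Subgroup G} (h : IsW V W) {c : G} (hc : c ∈ normalizer (V : Set G)) :
    IsW V (MulAut.conj c • W) := by
  obtain ⟨π, Φ, D⟩ := h
  exact ⟨_, _, D.conj hc⟩

theorem IsW.le_of_le {V W W' : Subgroup G} (h : IsW V W) (h' : IsW V W')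
    (hle : W' ≤ normalizer (W : Set G)) : W' ≤ W := by
  obtain ⟨π, Φ, D⟩ := h
  obtain ⟨π', Φ', D'⟩ := h'
  choose w hw hπ using D'.π_surj
  have hk : ∀ x, Φ (w x) = 1 → w x ∈ W := fun x =>
    D.ker _ (D'.WC (hw x)) (hle (hw x)) (two_elt D'.two (hw x))
  have key := weak_lin (fun x => Φ (w x)) (fun x => π (w x)) (fun x x' => ?_)
    (fun x x' h1 h2 e => ?_) (fun x x' h1 => ?_)
  · intro a ha
    exact (D.π_eq (hk _ (key (π' a))) (D'.of_π_eq ha (hw _) (hπ _).symm)).1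
  · have hm := W'.mul_mem (hw x) (hw x')
    rw [← D.Φ_mul (D'.WC (hw x)) (hle (hw x)) (D'.WC (hw x')) (hle (hw x'))]
    exact D.Φ_congr (D'.WC hm) (hle hm)
      (D'.of_π_eq (hw _) hm (by rw [D'.π_mul _ (hw x) _ (hw x'), hπ, hπ, hπ]))
  · rw [← hπ x, ← hπ x']
    exact (D'.π_eq (hw x') (D.of_π_eq (hk x h1) (hk x' h2) e)).2
  · rw [← D.act _ (D'.WC (hw x)) (hle (hw x)) _ (hk x' h1)]
    exact (D.π_eq (hk x' h1) (D'.comm (hw x) (hw x'))).2

theorem IsW.eq_of_le {V W W' : Subgroup G} (h : IsW V W) (h' : IsW V W')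
    (hle : W' ≤ normalizer (W : Set G)) : W' = W := by
  have h1 := h.le_of_le h' hle
  refine le_antisymm h1 (h'.le_of_le h fun a ha => ?_)
  obtain ⟨π, Φ, D⟩ := h
  obtain ⟨π', Φ', D'⟩ := h'
  have key : ∀ a ∈ W, ∀ b ∈ W', a * b * a⁻¹ ∈ W' := fun a ha b hb =>
    (D'.π_eq hb (D.comm ha (h1 hb))).1
  rw [mem_normalizer_iff]
  refine fun b => ⟨key a ha b, fun hb => ?_⟩
  have := key _ (W.inv_mem ha) _ hb
  simpa [mul_assoc] using this

variable [Finite G]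

theorem IsW.le_normalizer {V W S : Subgroup G} (h : IsW V W) (hS : IsPGroup 2 S) (hW : W ≤ S)
    (hC : S ≤ centralizer (V : Set G)) : S ≤ normalizer (W : Set G) := by
  by_contra hno
  have hlt : S ⊓ normalizer (W : Set G) < S :=
    lt_of_le_of_ne inf_le_left fun e => hno (e ▸ inf_le_right)
  obtain ⟨g, hg, hg'⟩ := SetLike.exists_of_lt (lt_inf_normalizer_of_lt hS hlt)
  refine hg' ⟨hg.1, mem_normalizer_iff_conj_smul_eq.2 ?_⟩
  apply h.eq_of_le (h.conj (centralizer_le_normalizer _ (hC hg.1)))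
  have h1 : W ≤ S ⊓ normalizer (W : Set G) := le_inf hW Subgroup.le_normalizer
  refine (pointwise_smul_le_pointwise_smul_iff.2 h1).trans ?_
  rw [mem_normalizer_iff_conj_smul_eq.1 hg.2]
  exact inf_le_right

theorem IsW.two {V W : Subgroup G} (h : IsW V W) : IsPGroup 2 W := by
  obtain ⟨π, Φ, D⟩ := h
  exact D.two

theorem IsW.exists_norm {V W P E : Subgroup G} (h : IsW V W) (hW : W ≤ P)
    (hC : P ≤ centralizer (V : Set G)) (hE : IsPGroup 2 E) (hEP : E ≤ P) :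
    ∃ k ∈ P, E ≤ normalizer ((MulAut.conj k • W : Subgroup G) : Set G) := by
  obtain ⟨S, hS, hES⟩ := exists_isSylowIn_ge hE hEP
  obtain ⟨k, hk, hle⟩ := hS.exists_conj_le h.two hW
  exact ⟨k, hk, hES.trans ((h.conj (centralizer_le_normalizer _ (hC hk))).le_normalizer
    hS.isPGroup hle (hS.le.trans hC))⟩

theorem IsW.exists_conj {V W W' P : Subgroup G} (h : IsW V W) (h' : IsW V W') (hW : W ≤ P)
    (hW' : W' ≤ P) (hC : P ≤ centralizer (V : Set G)) : ∃ k ∈ P, MulAut.conj k • W = W' := by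
  obtain ⟨k, hk, hle⟩ := h.exists_norm hW hC h'.two hW'
  exact ⟨k, hk, ((h.conj (centralizer_le_normalizer _ (hC hk))).eq_of_le h' hle).symm⟩

omit [Finite G] in
/-- The centralizer of `D` modulo `V` in `C(V)`. -/
def CV (V : Subgroup G) (D : Set G) : Subgroup G where
  carrier := {g | g ∈ centralizer (V : Set G) ∧ ∀ d ∈ D, g * d * g⁻¹ * d⁻¹ ∈ V}
  one_mem' := ⟨one_mem _, fun d _ => by simp⟩
  mul_mem' := by
    rintro g h ⟨hg, hg'⟩ ⟨hh, hh'⟩
    refine ⟨mul_mem hg hh, fun d hd => ?_⟩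
    have e : g * h * d * (g * h)⁻¹ * d⁻¹ =
        g * (h * d * h⁻¹ * d⁻¹) * g⁻¹ * (g * d * g⁻¹ * d⁻¹) := by group
    rw [e, cen hg (hh' d hd)]
    exact mul_mem (hh' d hd) (hg' d hd)
  inv_mem' := by
    rintro g ⟨hg, hg'⟩
    refine ⟨inv_mem hg, fun d hd => ?_⟩
    have e : g⁻¹ * d * g⁻¹⁻¹ * d⁻¹ = g⁻¹ * (g * d * g⁻¹ * d⁻¹)⁻¹ * g⁻¹⁻¹ := by group
    rw [e, cen (inv_mem hg) (inv_mem (hg' d hd))]
    exact inv_mem (hg' d hd)

theorem Dat.strong {V W W1 : Subgroup G} {π : G → PP} {Φ : G → O q4} (D : Dat V W π Φ)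
    (h1 : IsW V W1) {y : G} (hy1 : y ∈ W1) (hyN : y ∈ normalizer (W : Set G)) (hyW : y ∉ W) :
    finrank (ZMod 2) (movSp (Φ y)) = 2 ∧ ∃ W' π' Φ', Dat V W' π' Φ' ∧ ∃ b ∈ W,
      b ∈ normalizer (W' : Set G) ∧ finrank (ZMod 2) (movSp (Φ' b)) = 1 := by
  have h1' := h1
  obtain ⟨π1, Φ1, D1⟩ := h1'
  have hyC := D1.WC hy1
  obtain ⟨k, hk, hB⟩ := h1.exists_norm (P := CV V {y}) (E := W ⊓ CV V {y})
    (fun a ha => ⟨D1.WC ha, fun d hd => by rw [hd]; exact D1.comm ha hy1⟩) (fun g hg => hg.1)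
    D.two.to_inf_left inf_le_right
  have hW' := h1.conj (centralizer_le_normalizer _ hk.1)
  have hy' : y ∈ MulAut.conj k • W1 := by
    rw [mem_conj_smul]
    have := ((CV V {y}).inv_mem hk).2 y rfl
    rw [inv_inv] at this
    exact (D1.π_eq hy1 this).1
  generalize MulAut.conj k • W1 = W' at hB hW' hy'
  have hW'' := hW'
  obtain ⟨π', Φ', D'⟩ := hW''
  choose w hw hπ using D.π_surj
  have hyy : ∀ x, dg (Φ y) x = x → w x * y * (w x)⁻¹ * y⁻¹ ∈ V := fun x hx => by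
    have e : π (y * w x * y⁻¹) = π (w x) := by rw [D.act _ hyC hyN _ (hw x), hπ, hx]
    have := V.inv_mem (D.of_π_eq (conj_mem hyN (hw x)) (hw x) e)
    convert this using 1; group
  have hN : ∀ x, dg (Φ y) x = x → w x ∈ normalizer (W' : Set G) := fun x hx =>
    hB ⟨hw x, D.WC (hw x), fun d hd => by rw [hd]; exact hyy x hx⟩
  have hk' : ∀ x, dg (Φ y) x = x → Φ' (w x) = 1 → w x ∈ W' := fun x hx =>
    D'.ker _ (D.WC (hw x)) (hN x hx) (two_elt D.two (hw x))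
  have hadd : ∀ x x', w (x + x') * (w x * w x')⁻¹ ∈ V := fun x x' =>
    D.of_π_eq (hw _) (W.mul_mem (hw x) (hw x')) (by rw [D.π_mul _ (hw x) _ (hw x'), hπ, hπ, hπ])
  suffices hs : finrank (ZMod 2) (movSp (Φ y)) = 2 ∧
      ∃ x, dg (Φ y) x = x ∧ finrank (ZMod 2) (movSp (Φ' (w x))) = 1 by
    obtain ⟨r2, x, hx, r1⟩ := hs
    exact ⟨r2, W', π', Φ', D', w x, hw x, hN x hx, r1⟩
  refine strong_lin (Φ y) ?_ (fun e => hyW (D.ker _ hyC hyN (two_elt D1.two hy1) e))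
    (fun x => Φ' (w x)) (fun x => π' (w x)) (π' y) (fun x x' hx hx' => ?_)
    (fun x x' hx hx' e e' => ?_)
    (fun x hx e e0 => ?_) (fun x hx e e0 => ?_) (fun x x' hx hx' e' => ?_) (fun x hx => ?_)
    (fun x e => ?_)
  · rw [← D.Φ_mul hyC hyN hyC hyN, D.Φ_W (D.VW (D1.sq hy1))]
  · rw [← D'.Φ_mul (D.WC (hw x)) (hN x hx) (D.WC (hw x')) (hN x' hx')]
    exact D'.Φ_congr (mul_mem (D.WC (hw x)) (D.WC (hw x'))) (mul_mem (hN x hx) (hN x' hx'))
      (hadd x x')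
  · rw [← D'.π_mul _ (hk' x hx e) _ (hk' x' hx' e')]
    exact (D'.π_eq (mul_mem (hk' x hx e) (hk' x' hx' e')) (hadd x x')).2
  · rw [← hπ x]
    exact D.π_V ((D'.π_ker _ (hk' x hx e)).1 e0)
  · exact hyW (D.π_eq (hw x) (D'.of_π_eq hy' (hk' x hx e) e0.symm)).1
  · rw [← D'.act _ (D.WC (hw x)) (hN x hx) _ (hk' x' hx' e')]
    exact (D'.π_eq (hk' x' hx' e') (D.comm (hw x) (hw x'))).2
  · rw [← D'.act _ (D.WC (hw x)) (hN x hx) _ hy']
    exact (D'.π_eq hy' (hyy x hx)).2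
  · -- Frattini
    have φ2 : Φ y * Φ y = 1 := by rw [← D.Φ_mul hyC hyN hyC hyN, D.Φ_W (D.VW (D1.sq hy1))]
    have hfx : dg (Φ y) (dg (Φ y) x - x) = dg (Φ y) x - x :=
      Prod.ext (mem_fixSp.1 (mov_le_fix φ2 (mem_movSp.2 ⟨x.1, rfl⟩)))
        (mem_fixSp.1 (mov_le_fix φ2 (mem_movSp.2 ⟨x.2, rfl⟩)))
    have hu := hk' _ hfx e
    obtain ⟨a, ha⟩ : ∃ a, a = w x := ⟨_, rfl⟩
    have haW : a ∈ W := ha ▸ hw x
    have hcW : a * (y * a⁻¹ * y⁻¹) ∈ W := W.mul_mem haW (conj_mem hyN (W.inv_mem haW))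
    have hc : π (a * (y * a⁻¹ * y⁻¹)) = π (w (dg (Φ y) x - x)) := by
      rw [D.π_mul _ haW _ (conj_mem hyN (W.inv_mem haW)), D.act _ hyC hyN _ (W.inv_mem haW),
        D.π_inv haW, hπ, ha, hπ, add_comm]
      exact Prod.ext (sub4 _ _).symm (sub4 _ _).symm
    obtain ⟨hc1, hc2⟩ := D'.π_eq hu (D.of_π_eq hcW (hw _) hc)
    have hay : a * y * a⁻¹ ∈ W' := by
      have := W'.mul_mem hc1 hy'
      convert this using 1; group
    have haD : ∀ d ∈ ((W ⊓ W' : Subgroup G) : Set G) ∪ {y}, d ∈ W' ∧ a * d * a⁻¹ ∈ W' := by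
      rintro d (hd | hd)
      · exact ⟨hd.2, (D'.π_eq hd.2 (D.comm haW hd.1)).1⟩
      · rw [hd]; exact ⟨hy', hay⟩
    have haC := D.WC haW
    obtain ⟨k', hk1, hk2⟩ := hW'.exists_conj
      (hW'.conj (centralizer_le_normalizer _ (inv_mem haC)))
      (P := CV V (((W ⊓ W' : Subgroup G) : Set G) ∪ {y}))
      (fun u hu => ⟨D'.WC hu, fun d hd => D'.comm hu (haD d hd).1⟩)
      (fun u hu => by
        rw [mem_conj_smul, inv_inv] at hu
        refine ⟨?_, fun d hd => ?_⟩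
        · have := mul_mem (mul_mem (inv_mem haC) (D'.WC hu)) haC
          convert this using 1; group
        · have h3 := D'.comm hu (haD d hd).2
          rw [← cen (inv_mem haC) h3] at h3
          convert h3 using 1; group)
      (fun g hg => hg.1)
    have hnN : a * k' ∈ normalizer (W' : Set G) := by
      rw [mem_normalizer_iff_conj_smul_eq, ← conj_smul_conj_smul, hk2, conj_smul_conj_inv_smul]
    have hnC := mul_mem haC hk1.1
    have hact : ∀ d ∈ ((W ⊓ W' : Subgroup G) : Set G) ∪ {y},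
        dg (Φ' (a * k')) (π' d) = π' (a * d * a⁻¹) := fun d hd => by
      rw [← D'.act _ hnC hnN _ (haD d hd).1]
      refine (D'.π_eq (haD d hd).2 ?_).2
      have h3 := hk1.2 d hd
      rw [← cen haC h3] at h3
      convert h3 using 1; group
    refine ⟨Φ' (a * k'), fun z hz ez => ?_, ?_⟩
    · rw [hact _ (Or.inl ⟨hw z, hk' z hz ez⟩)]
      exact (D'.π_eq (hk' z hz ez) (D.comm haW (hw z))).2
    · rw [hact _ (Or.inr rfl), ← hc2, add_comm, ← D'.π_mul _ hc1 _ hy']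
      congr 1; group

/-- Strong closure. -/
theorem IsW.strong {V W W1 : Subgroup G} (h : IsW V W) (h1 : IsW V W1) {y : G} (hy1 : y ∈ W1)
    (hyN : y ∈ normalizer (W : Set G)) : y ∈ W := by
  by_contra hyW
  have h' := h
  obtain ⟨π, Φ, D⟩ := h'
  obtain ⟨-, W', π', Φ', D', b, hb, hbN, r1⟩ := D.strong h1 hy1 hyN hyW
  have r2 := (D'.strong h hb hbN fun hbW => by
    rw [D'.Φ_W hbW, mov_one] at r1; omega).1
  omega

omit [Finite G] in
theorem dat_of_wc {C : WD G} {W Od : Subgroup G} (h : WC C W Od) : Dat C.V W C.π C.Φ := by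
  have v0 : C.v 0 = 1 := by
    have := h.v_add 0 0
    rw [add_zero] at this
    exact mul_eq_left.1 this.symm
  have vv : ∀ s, C.v s * C.v s = 1 := fun s => by
    rw [← h.v_add, (QuadraticAlgebra.ext (CharTwo.add_self_eq_zero s.re)
      (CharTwo.add_self_eq_zero s.im) : s + s = 0), v0]
  have memV : ∀ a, a ∈ C.V ↔ ∃ s, C.v s = a := fun a => by
    refine ⟨fun ha => ?_, fun ha => subset_closure ha⟩
    induction ha using closure_induction with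
    | mem x hx => exact hx
    | one => exact ⟨0, v0⟩
    | mul x y _ _ hx hy =>
      obtain ⟨s, rfl⟩ := hx
      obtain ⟨t, rfl⟩ := hy
      exact ⟨s + t, h.v_add s t⟩
    | inv x _ hx =>
      obtain ⟨s, rfl⟩ := hx
      exact ⟨s, eq_inv_of_mul_eq_one_left (vv s)⟩
  refine ⟨fun a ha => ?_, fun a ha => ?_, fun a => ⟨2, Subtype.ext ?_⟩, h.π_mul,
    fun a ha => by rw [h.π_ker a ha, memV], h.π_surj, fun g hg hg' => h.phi.act g ⟨hg, hg'⟩,
    fun g hg hg' hk h1 => ?_⟩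
  · obtain ⟨s, rfl⟩ := (memV a).1 ha
    exact h.vW s
  · rw [mem_centralizer_iff]
    intro v hv
    obtain ⟨s, rfl⟩ := (memV v).1 hv
    rw [h.comm _ (h.vW s) _ ha, (h.π_ker _ (h.vW s)).2 ⟨s, rfl⟩]
    have : bq 0 (C.π a) = 0 := by
      simp only [bq, Prod.fst_zero, Prod.snd_zero, polar_zero_left, add_zero]
      rfl
    rw [this, v0, one_mul]
  · have : (a : G) ^ 2 ^ 2 = (a * a) * (a * a) := by
      rw [show 2 ^ 2 = 1 + 1 + (1 + 1) by norm_num, pow_add, pow_add, pow_one]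
    rw [Subgroup.coe_pow, this, h.sq _ a.2, vv]
    rfl
  · obtain ⟨a, ha, o, ho, rfl⟩ := h.phi.Φ_ker g ⟨hg, hg'⟩ h1
    obtain ⟨k, hk⟩ := hk
    have hc : Commute a o := (h.OW o ho a ha).symm
    have a4 : a ^ 2 ^ 2 = 1 := by
      rw [show 2 ^ 2 = 1 + 1 + (1 + 1) by norm_num, pow_add, pow_add, pow_one, h.sq _ ha, vv]
    have h3 : o ^ 2 ^ (k + 2) = 1 := by
      have e1 : (a * o) ^ 2 ^ (k + 2) = 1 := by rw [pow_add, pow_mul, hk, one_pow]
      have e2 : a ^ 2 ^ (k + 2) = 1 := by rw [pow_add, mul_comm, pow_mul, a4, one_pow]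
      rwa [hc.mul_pow, e2, one_mul] at e1
    have h4 : orderOf o ∣ Nat.card Od := Od.orderOf_dvd_natCard ho
    have h5 : (2 ^ (k + 2)).Coprime (Nat.card Od) :=
      Nat.Coprime.pow_left _ ((Nat.coprime_two_left).2 h.odd)
    have h6 : orderOf o = 1 :=
      Nat.eq_one_of_dvd_coprimes h5 (orderOf_dvd_of_pow_eq_one h3) h4
    rw [orderOf_eq_one_iff.1 h6, mul_one]
    exact ha

theorem alpha (hGL : Cfsg.Agent.H42.AS.GLStmt.{u}) : AlphaStmt.{u} := by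
  intro G _ _ C W Od h
  have D := dat_of_wc h
  have hW : IsW C.V W := ⟨_, _, D⟩
  have htC : C.t ∈ centralizer (C.V : Set G) := h.tM.1
  have htN : C.t ∈ normalizer (W : Set G) := h.tM.2
  have ht2 : IsPGroup 2 (zpowers C.t) := by
    apply IsPGroup.of_card (n := 1)
    rw [Nat.card_zpowers, pow_one]
    exact orderOf_eq_prime (by rw [pow_two, h.t2]) fun e => h.tW (e ▸ W.one_mem)
  have hP : IsPGroup 2 ↥(zpowers C.t ⊔ W) :=
    IsPGroup.to_sup_of_normal_right' ht2 D.two (zpowers_le.2 htN)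
  obtain ⟨T, hT, hle⟩ := exists_isSylowIn_ge hP (sup_le (zpowers_le.2 htC) D.WC)
  have hWT : W ≤ T := le_sup_right.trans hle
  have hTN := hW.le_normalizer hT.isPGroup hWT hT.le
  have main := hGL G (centralizer (C.V : Set G)) T W C.V C.t hT hWT D.VW
    (fun x hx z hz => (mem_centralizer_iff.1 hx z hz).symm) (fun a ha => D.sq ha)
    (fun a ha x hx hy => hW.strong (hW.conj (centralizer_le_normalizer _ hx))
      (conj_mem_conj_smul.2 ha) (hTN hy))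
    (fun s hs hc => D.ker s (hT.le hs) (hTN hs) (two_elt hT.isPGroup hs)
      (D.Φ_one (hT.le hs) (hTN hs) hc))
    (hle (mem_sup_left (mem_zpowers _))) h.tW (h.t2 ▸ one_mem _) (fun B hB hBn => ?_)
    (fun B hB hBn hodd b hb a ha => h.OW b (h.oddn B hB hBn hodd hb) a ha)
  · intro g hg
    exact mem_normalizer_iff_conj_smul_eq.2 (hW.eq_of_le (hW.conj hg)
      ((D.conj hg).WC.trans main))
  · let f : B →* O q4 := MonoidHom.mk' (fun b => C.Φ b) fun a b =>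
      D.Φ_mul (hB a.2).1 (hB a.2).2 (hB b.2).1 (hB b.2).2
    have hinv : ∀ g ∈ centralizer (C.V : Set G), g ∈ normalizer (W : Set G) →
        C.Φ g⁻¹ = (C.Φ g)⁻¹ := fun g hg hg' => by
      apply eq_inv_of_mul_eq_one_left
      rw [← D.Φ_mul (inv_mem hg) (inv_mem hg') hg hg', inv_mul_cancel, D.Φ_W W.one_mem]
    rcases dichotomy f.range (by
      rintro κ hκ _ ⟨b, rfl⟩
      obtain ⟨g, hg, rfl, -⟩ := h.phi.Φ_surj κ hκ
      refine ⟨⟨g * b * g⁻¹, conj_mem (hBn hg) b.2⟩, ?_⟩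
      change C.Φ (g * b * g⁻¹) = C.Φ g * C.Φ b * (C.Φ g)⁻¹
      rw [D.Φ_mul (mul_mem hg.1 (hB b.2).1) (mul_mem hg.2 (hB b.2).2) (inv_mem hg.1) (inv_mem hg.2),
        D.Φ_mul hg.1 hg.2 (hB b.2).1 (hB b.2).2, hinv g hg.1 hg.2]) with h1 | h1
    · left
      intro b hb a ha
      exact D.of_Φ_one (hB hb).1 (hB hb).2 (h1 _ ⟨⟨b, hb⟩, rfl⟩) ha
    · right
      obtain ⟨b, hb⟩ := h1 h.tev
      refine ⟨b, b.2, fun a ha => D.of_Φ_one (mul_mem (inv_mem (hB b.2).1) htC)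
        (mul_mem (inv_mem (hB b.2).2) htN) ?_ ha⟩
      rw [D.Φ_mul (inv_mem (hB b.2).1) (inv_mem (hB b.2).2) htC htN, hinv _ (hB b.2).1 (hB b.2).2,
        ← hb]
      exact inv_mul_cancel _

end Cfsg.Agent.H39.ALA
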