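import Cfsg.Agent.H42.ASDefs
import Cfsg.Agent.H21.AsTQ
import Cfsg.Agent.H49.XS
import Cfsg.Agent.H52.Ambient
import Cfsg.Agent.H52.FStar

/-!
Project AS: the end game (the core is trivial; the hypotheses of the recognition theorems).
-/

set_option autoImplicit false
set_option linter.unusedSectionVars false

namespace Cfsg.Agent.H39.ASE

open Cfsg Subgroup Cfsg.Agent.H30 Cfsg.Agent.H42.AS QuadraticMap Module Cfsg.Agent.H52
open Cfsg.Agent.H8 (IsSylowIn)
open Cfsg.Agent.H21.TQ (B)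
open scoped Pointwise

universe u

variable {ι : Type} [Fintype ι] [DecidableEq ι] {q : QuadraticForm (ZMod 2) (ι → ZMod 2)}

/-- `Omega` is `kerDS`. -/
noncomputable def omK (hq : (polarBilin q).Nondegenerate) (h6 : 6 ≤ Fintype.card ι) :
    Omega (ZMod 2) ⇑q ≃* kerDS hq :=
  (omegaEquivO q).trans (MulEquiv.subgroupCongr (commutator_eq_kerDS hq
    (not_isExc_of_finrank (by rw [finrank_fintype_fun_eq_card]; omega))))

theorem ker_simple (hq : (polarBilin q).Nondegenerate) (h6 : 6 ≤ Fintype.card ι) :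
    IsSimpleGroup (kerDS hq) ∧ center (kerDS hq) = ⊥ := by
  classical
  have hc : center (Omega (ZMod 2) ⇑q) = ⊥ := by
    have := card_center_Omega hq (not_isExc_of_finrank (Q := q)
      (by rw [finrank_fintype_fun_eq_card]; omega)) (by omega)
    rw [if_neg (fun h => h.1 (by decide))] at this
    exact card_eq_one.1 this
  have h1 := isSimpleGroup_POmega hq (by omega)
  have h2 : IsSimpleGroup (Omega (ZMod 2) ⇑q) :=
    ((QuotientGroup.quotientMulEquivOfEq hc).trans QuotientGroup.quotientBot).symm.isSimpleGroup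
  refine ⟨(omK hq h6).symm.isSimpleGroup, ?_⟩
  rw [eq_bot_iff]
  intro x hx
  have : (omK hq h6).symm x ∈ center (Omega (ZMod 2) ⇑q) := by
    rw [mem_center_iff] at hx ⊢
    intro g
    apply (omK hq h6).injective
    rw [map_mul, map_mul, MulEquiv.apply_symm_apply, hx]
  rw [hc, mem_bot] at this
  rw [mem_bot]
  exact (MulEquiv.map_eq_one_iff _).1 this

theorem two_normal (hq : (polarBilin q).Nondegenerate) (h6 : 6 ≤ Fintype.card ι)
    (N : Subgroup (kerDS hq)) (hN : N.Normal) (h2 : IsPGroup 2 N) : N = ⊥ := by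
  have : Fact (Nat.Prime 2) := ⟨Nat.prime_two⟩
  have : Finite (O q) := finite_O
  obtain ⟨hs, hc⟩ := ker_simple hq h6
  refine hN.eq_bot_or_eq_top.resolve_right fun e => ?_
  subst e
  have h3 : IsPGroup 2 (kerDS hq) := h2.of_equiv topEquiv
  have := h3.center_nontrivial
  rw [hc] at this
  exact not_nontrivial _ this

variable {G : Type u} [Group G] [Finite G] {hq : (polarBilin q).Nondegenerate} {z v0 : G}
  {Q Od : Subgroup G} {π : G → ι → ZMod 2} {Ψ : G → O q}

theorem toB (h : QC hq z v0 Q Od π Ψ) : B q z Q π :=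
  ⟨h.z2, h.zQ, h.π_mul, h.π_ker, h.π_surj, h.sq, h.comm⟩

theorem Q_le (h : QC hq z v0 Q Od π Ψ) : Q ≤ centralizer {z} := fun _ ha =>
  mem_centralizer_singleton_iff.2 ((toB h).cz ha)

theorem z_ne (h : QC hq z v0 Q Od π Ψ) : z ≠ 1 := by
  rintro rfl
  have := h.z2
  simp at this

theorem comm_iff (h : QC hq z v0 Q Od π Ψ) {a b : G} (ha : a ∈ Q) (hb : b ∈ Q) :
    a * b = b * a ↔ polar q (π a) (π b) = 0 := by
  rw [h.comm a ha b hb, mul_eq_right, ← orderOf_dvd_iff_pow_eq_one, h.z2]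
  generalize polar q (π a) (π b) = t
  revert t; decide

theorem cenQ (h : QC hq z v0 Q Od π Ψ) {a : G} (ha : a ∈ Q) (hc : ∀ b ∈ Q, a * b = b * a) :
    a = 1 ∨ a = z := by
  refine (h.π_ker a ha).1 (hq.1 _ fun y => ?_)
  obtain ⟨b, hb, rfl⟩ := h.π_surj y
  exact (comm_iff h ha hb).1 (hc b hb)

theorem xs (h : QC hq z v0 Q Od π Ψ) : H49.XS Q z := by
  refine ⟨h.zQ, z_ne h, (toB h).zz, fun x hx => (toB h).cz hx, fun x hx => cenQ h hx,
    fun x hx y hy => ?_, ?_⟩
  · rcases (toB h).conj_Q hx hy with e | e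
    · exact .inl (mul_inv_eq_iff_eq_mul.1 e)
    · refine .inr ?_
      rw [mul_inv_eq_iff_eq_mul.1 e, mul_assoc, mul_assoc, (toB h).cz hx]
  · by_contra hh
    push Not at hh
    rcases cenQ h h.vQ (hh v0 h.vQ) with e | e
    · exact h.v_ne ((h.π_ker _ h.vQ).2 (.inl e))
    · exact h.v_ne ((h.π_ker _ h.vQ).2 (.inr e))

theorem card_Q (h : QC hq z v0 Q Od π Ψ) : Nat.card Q = 2 ^ (Fintype.card ι + 1) := by
  let f : Q →* Multiplicative (ι → ZMod 2) := MonoidHom.mk' (fun a => Multiplicative.ofAdd (π a))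
    fun a b => congrArg Multiplicative.ofAdd (h.π_mul a a.2 b b.2)
  have fs : Function.Surjective f := fun y => by
    obtain ⟨a, ha, e⟩ := h.π_surj y.toAdd
    exact ⟨⟨a, ha⟩, congrArg Multiplicative.ofAdd e⟩
  have fk : f.ker = (zpowers z).subgroupOf Q := by
    ext a
    rw [mem_subgroupOf, H49.mem_zpowers_invol (toB h).zz, ← h.π_ker a a.2]
    rfl
  have e1 := f.ker.card_mul_index
  rw [index_ker, MonoidHom.range_eq_top.2 fs, card_top, fk,
    Nat.card_congr (subgroupOfEquivOfLe (zpowers_le.2 h.zQ)).toEquiv, Nat.card_zpowers, h.z2] at e1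
  rw [← e1, pow_succ', Nat.card_congr Multiplicative.toAdd, Nat.card_fun, Nat.card_zmod,
    Nat.card_eq_fintype_card]

/-- The action of `C(z)` on `Q / ⟨z⟩`. -/
noncomputable def psi (h : QC hq z v0 Q Od π Ψ) (hC : centralizer {z} ≤ normalizer (Q : Set G)) :
    centralizer ({z} : Set G) →* kerDS hq :=
  MonoidHom.mk' (fun g => ⟨Ψ g, h.Ψ_mem g ⟨g.2, hC g.2⟩⟩)
    fun a b => Subtype.ext (h.Ψ_mul a ⟨a.2, hC a.2⟩ b ⟨b.2, hC b.2⟩)

theorem psi_surj (h : QC hq z v0 Q Od π Ψ) (hC : centralizer {z} ≤ normalizer (Q : Set G)) :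
    Function.Surjective (psi h hC) := fun φ => by
  obtain ⟨g, hg, e⟩ := h.Ψ_surj φ φ.2
  exact ⟨⟨g, hg.1⟩, Subtype.ext e⟩

theorem psi_one (h : QC hq z v0 Q Od π Ψ) (hC : centralizer {z} ≤ normalizer (Q : Set G))
    {g : G} (hg : g ∈ centralizer ({z} : Set G)) (e : ∀ a ∈ Q, π (g * a * g⁻¹) = π a) : Ψ g = 1 :=
  O_ext fun v => by
    obtain ⟨a, ha, rfl⟩ := h.π_surj v
    rw [← h.act g ⟨hg, hC hg⟩ a ha, e a ha, O_one_apply]

theorem psi_Q (h : QC hq z v0 Q Od π Ψ) (hC : centralizer {z} ≤ normalizer (Q : Set G))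
    {g : G} (hg : g ∈ Q) : Ψ g = 1 :=
  psi_one h hC (Q_le h hg) fun _ ha =>
    ((toB h).π_eq (mul_mem (mul_mem hg ha) (inv_mem hg)) ha).2 ((toB h).conj_Q hg ha)

theorem cQ (h : QC hq z v0 Q Od π Ψ) (hC : centralizer {z} ≤ normalizer (Q : Set G))
    {g : G} (hg : g ∈ centralizer (Q : Set G)) : ∃ o ∈ Od, g = o ∨ g = z * o := by
  have gz : g ∈ centralizer ({z} : Set G) := mem_centralizer_singleton_iff.2 (hg z h.zQ).symm
  obtain ⟨a, ha, o, ho, rfl⟩ := h.Ψ_ker g ⟨gz, hC gz⟩ (psi_one h hC gz fun a ha => by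
    rw [← hg a ha, mul_inv_cancel_right])
  refine ⟨o, ho, ?_⟩
  rcases cenQ h ha (fun b hb => by
    have := hg b hb
    rw [mul_assoc, h.OQ o ho b hb, ← mul_assoc, ← mul_assoc] at this
    exact (mul_right_cancel this).symm) with e | e
  · exact .inl (by rw [e, one_mul])
  · exact .inr (by rw [e])

theorem fin : FinStmt.{u} := by
  intro G _ _ ι _ _ q hq z v0 Q π Ψ h6 h hC
  have : Fact (Nat.Prime 2) := ⟨Nat.prime_two⟩
  have le := Q_le h
  have nn : (Q.subgroupOf (centralizer {z})).Normal := (normal_subgroupOf_iff_le_normalizer le).2 hC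
  have ker : (psi h hC).ker = Q.subgroupOf (centralizer {z}) := by
    ext g
    refine ⟨fun hg => ?_, fun hg => Subtype.ext (psi_Q h hC hg)⟩
    obtain ⟨a, ha, o, ho, e⟩ := h.Ψ_ker g ⟨g.2, hC g.2⟩ (congrArg Subtype.val hg)
    rw [mem_bot.1 ho, mul_one] at e
    exact mem_subgroupOf.2 (e ▸ ha)
  have two : IsPGroup 2 (Q.subgroupOf (centralizer {z})) := (xs h).isPGroup.comap_subtype
  refine ⟨_, nn, ?_, H49.isExtraspecial_of_mulEquiv (xs h).isExtraspecial
    (subgroupOfEquivOfLe le).symm, by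
      rw [Nat.card_congr (subgroupOfEquivOfLe le).toEquiv, card_Q h],
    ⟨((QuotientGroup.quotientMulEquivOfEq ker.symm).trans
      (QuotientGroup.quotientKerEquivOfSurjective _ (psi_surj h hC))).trans (omK hq h6).symm⟩, ?_⟩
  · rw [fstar_eq_pCore_of_centralizer_le two fun g hg => ?_]
    · refine le_antisymm ?_ (le_pCore two)
      rw [← ker, ← Subgroup.map_eq_bot_iff]
      exact two_normal hq h6 _ ((pCore_normal 2 _).map _ (psi_surj h hC)) (pCore_isPGroup.map _)
    · obtain ⟨o, ho, e⟩ := cQ h hC (g := g) fun a ha =>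
        congrArg Subtype.val (hg ⟨a, le ha⟩ ha)
      rw [mem_bot.1 ho, mul_one] at e
      rcases e with e | e
      · exact mem_subgroupOf.2 (e ▸ one_mem _)
      · exact mem_subgroupOf.2 (by rw [e]; exact h.zQ)
  · obtain ⟨g, e⟩ := isConj_iff.1 h.nwc
    refine ⟨g, ⟨e ▸ le h.vQ, mem_subgroupOf.2 (e ▸ h.vQ)⟩, fun k => h.v_ne ?_⟩
    rw [← e, k]
    exact (toB h).πz

theorem pow_mem_odd {O : Subgroup G} (hO : Odd (Nat.card O)) {o : G} (ho : o ∈ O) (k : ℕ) :
    ∃ m : ℕ, (o ^ 2 ^ k) ^ m = o := by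
  have : (2 ^ k).Coprime (orderOf o) :=
    ((Nat.coprime_two_left.2 hO).pow_left k).coprime_dvd_right (O.orderOf_dvd_natCard ho)
  exact exists_pow_eq_self_of_coprime this

theorem Od_le (h : QC hq z v0 Q Od π Ψ) : Od ≤ centralizer (Q : Set G) := fun o ho a ha =>
  (h.OQ o ho a ha).symm

/-- the squares in `C(Q)` lie in `Od` -/
theorem sq_mem (h : QC hq z v0 Q Od π Ψ) (hC : centralizer {z} ≤ normalizer (Q : Set G))
    {g : G} (hg : g ∈ centralizer (Q : Set G)) : g * g ∈ Od := by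
  obtain ⟨o, ho, e | e⟩ := cQ h hC hg
  · exact e ▸ mul_mem ho ho
  · rw [e, mul_assoc, ← mul_assoc o, h.OQ o ho z h.zQ, ← mul_assoc, ← mul_assoc, (toB h).zz, one_mul]
    exact mul_mem ho ho

/-- an element which conjugates `Od` into `C(Q)` normalizes `Od` -/
theorem nrm_Od (h : QC hq z v0 Q Od π Ψ) (hC : centralizer {z} ≤ normalizer (Q : Set G))
    {g : G} (hg : ∀ o ∈ Od, g * o * g⁻¹ ∈ centralizer (Q : Set G)) : g ∈ normalizer (Od : Set G) := by
  refine mem_normalizer_fintype fun o ho => ?_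
  obtain ⟨m, hm⟩ := pow_mem_odd h.odd ho 1
  have := sq_mem h hC (hg _ (pow_mem ho m))
  rwa [show g * o ^ m * g⁻¹ * (g * o ^ m * g⁻¹) = g * (o ^ 2 ^ 1) ^ m * g⁻¹ by
    rw [pow_one, ← pow_mul, two_mul, pow_add]; group, hm] at this

theorem C_le (h : QC hq z v0 Q Od π Ψ) (hC : centralizer {z} ≤ normalizer (Q : Set G)) :
    centralizer {z} ≤ normalizer (Od : Set G) := fun g hg =>
  nrm_Od h hC fun o ho a ha => by
    have := Od_le h ho _ ((mem_normalizer_iff.1 (inv_mem (hC hg)) a).1 ha)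
    calc a * (g * o * g⁻¹) = g * (g⁻¹ * a * g⁻¹⁻¹ * o) * g⁻¹ := by group
      _ = _ := by rw [this]; group

theorem psi_r (h6 : 6 ≤ Fintype.card ι) (h : QC hq z v0 Q Od π Ψ) {r : G}
    (hr : r ∈ centralizer {z} ⊓ normalizer (Q : Set G)) (rQ : r ∉ Q) (rr : r * r = 1) : Ψ r ≠ 1 :=
  fun e => rQ ((H21.TQ.s_of h6 h).1.ker r (mem_centralizer_singleton_iff.1 hr.1) hr.2 rr e)

/-- the `2`-elements of `C(z)` centralize `Od` -/
theorem two_cent (h6 : 6 ≤ Fintype.card ι) (h : QC hq z v0 Q Od π Ψ)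
    (hC : centralizer {z} ≤ normalizer (Q : Set G)) {g : G} (hg : g ∈ centralizer ({z} : Set G))
    {k : ℕ} (hk : g ^ 2 ^ k = 1) : g ∈ centralizer (Od : Set G) := by
  obtain ⟨r, hr, rQ, rr, rO⟩ := h.inv
  have nD : ((centralizer (Od : Set G)).subgroupOf (centralizer {z})).Normal := ⟨fun d hd c o ho => by
    have := hd _ ((mem_normalizer_iff.1 (inv_mem (C_le h hC c.2)) o).1 ho)
    calc o * ((c : G) * d * (c : G)⁻¹) = c * ((c : G)⁻¹ * o * (c : G)⁻¹⁻¹ * d) * (c : G)⁻¹ := by group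
      _ = (c : G) * d * (c : G)⁻¹ * o := by
        rw [show (c : G)⁻¹ * o * (c : G)⁻¹⁻¹ * d = d * ((c : G)⁻¹ * o * (c : G)⁻¹⁻¹) from this]; group⟩
  have := (ker_simple hq h6).1
  have top := (nD.map _ (psi_surj h hC)).eq_bot_or_eq_top.resolve_left fun e => by
    have : psi h hC ⟨r, hr.1⟩ ∈ ((centralizer (Od : Set G)).subgroupOf (centralizer {z})).map
      (psi h hC) := ⟨⟨r, hr.1⟩, rO, rfl⟩
    rw [e, mem_bot] at this
    exact psi_r h6 h hr rQ rr (congrArg Subtype.val this)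
  obtain ⟨d, hd, e⟩ : psi h hC ⟨g, hg⟩ ∈ ((centralizer (Od : Set G)).subgroupOf
    (centralizer {z})).map (psi h hC) := top ▸ mem_top _
  have e1 : psi h hC (d⁻¹ * ⟨g, hg⟩) = 1 := by rw [map_mul, map_inv, e, inv_mul_cancel]
  obtain ⟨a, ha, o, ho, e2⟩ := h.Ψ_ker _ ⟨(d⁻¹ * ⟨g, hg⟩).2, hC (d⁻¹ * ⟨g, hg⟩).2⟩
    (congrArg Subtype.val e1)
  have hd' : (d : G) * a ∈ centralizer (Od : Set G) := mul_mem hd fun o ho => h.OQ o ho a ha
  have e3 : g = (d : G) * a * o := by
    rw [mul_assoc, ← e2]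
    simp
  have c : Commute ((d : G) * a) o := (hd' o ho).symm
  have o1 : o ^ 2 ^ k ∈ centralizer (Od : Set G) := by
    rw [e3, c.mul_pow] at hk
    rw [eq_inv_of_mul_eq_one_right hk]
    exact inv_mem (pow_mem hd' _)
  obtain ⟨m, hm⟩ := pow_mem_odd h.odd ho k
  rw [e3, ← hm]
  exact mul_mem hd' (pow_mem o1 m)

theorem two_central (h : QC hq z v0 Q Od π Ψ) (hC : centralizer {z} ≤ normalizer (Q : Set G)) :
    ∃ S : Subgroup G, IsSylowIn 2 S ⊤ ∧ z ∈ S ∧ S ≤ centralizer {z} := by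
  have : Fact (Nat.Prime 2) := ⟨Nat.prime_two⟩
  obtain ⟨S, hS, QS⟩ := H8.exists_isSylowIn_ge (xs h).isPGroup (Q_le h)
  refine ⟨S, H8.isSylowIn_of_maximal le_top hS.isPGroup fun T hT _ hle => ?_, QS h.zQ, hS.le⟩
  by_contra hn
  have lt := H8.lt_inf_normalizer_of_lt hT (lt_of_le_of_ne hle fun e => hn e.ge)
  refine lt.not_ge (hS.le_of_le_normalizer' (hT.to_le inf_le_left) (fun g hg => ?_) inf_le_right)
  have c : g * z * g⁻¹ ∈ centralizer (Q : Set G) := fun a ha => by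
    have := mem_centralizer_singleton_iff.1 (hS.le
      ((mem_normalizer_iff.1 (inv_mem hg.2) a).1 (QS ha)))
    calc a * (g * z * g⁻¹) = g * (g⁻¹ * a * g⁻¹⁻¹ * z) * g⁻¹ := by group
      _ = _ := by rw [this]; group
  have zz := (toB h).zz
  have sq : g * z * g⁻¹ * (g * z * g⁻¹) = 1 := by
    rw [show g * z * g⁻¹ * (g * z * g⁻¹) = g * (z * z) * g⁻¹ by group, zz]; group
  obtain ⟨o, ho, e⟩ := cQ h hC c
  obtain ⟨m, hm⟩ := pow_mem_odd h.odd ho 1
  have o1 : o = 1 := by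
    rw [← hm, pow_one, pow_two]
    rcases e with e | e
    · rw [← e, sq, one_pow]
    · rw [e, mul_assoc, ← mul_assoc o, h.OQ o ho z h.zQ, ← mul_assoc, ← mul_assoc, zz, one_mul] at sq
      rw [sq, one_pow]
  rw [o1, mul_one] at e
  rcases e with e | e
  · exact absurd (by simpa using e) (z_ne h)
  · exact mem_centralizer_singleton_iff.2 (mul_inv_eq_iff_eq_mul.1 e)

theorem fusion (h6 : 6 ≤ Fintype.card ι) (h : QC hq z v0 Q Od π Ψ)
    (hC : centralizer {z} ≤ normalizer (Q : Set G)) {g : G}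
    (hg : g * z * g⁻¹ ∈ centralizer ({z} : Set G)) : g ∈ normalizer (Od : Set G) := by
  have : Fact (Nat.Prime 2) := ⟨Nat.prime_two⟩
  have zz := (toB h).zz
  have aO : g * z * g⁻¹ ∈ centralizer (Od : Set G) := two_cent h6 h hC hg (k := 1) (by
    rw [pow_one, pow_two, show g * z * g⁻¹ * (g * z * g⁻¹) = g * (z * z) * g⁻¹ by group, zz]; group)
  have nr : ∀ x, x * (g * z * g⁻¹) = g * z * g⁻¹ * x →
      x ∈ normalizer ((MulAut.conj g • Q : Subgroup G) : Set G) := fun x hx => by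
    rw [H8.normalizer_conj_smul, H8.mem_conj_smul]
    refine hC (mem_centralizer_singleton_iff.2 ?_)
    calc g⁻¹ * x * g * z = g⁻¹ * (x * (g * z * g⁻¹)) * g := by group
      _ = _ := by rw [hx]; group
  have two := H8.isPGroup_conj_smul (xs h).isPGroup g
  have key := (isGenCoprime_of_coprime (p := 2) (Nat.coprime_two_right.2 h.odd)).commutator_eq_bot_of_AxB
    (P := zpowers z) ((xs h).isPGroup.to_le (zpowers_le.2 h.zQ)) two
    (commutator_eq_bot_iff_le_centralizer'.2 (zpowers_le.2 fun o ho => h.OQ o ho z h.zQ))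
    (zpowers_le.2 (nr z (mem_centralizer_singleton_iff.1 hg).symm))
    (fun o ho => nr o (aO o ho))
    (commutator_eq_bot_iff_le_centralizer'.2 fun x hx => by
      obtain ⟨k, hk⟩ := two ⟨x, hx.1⟩
      exact two_cent h6 h hC (mem_centralizer_singleton_iff.2 (hx.2 z (mem_zpowers z)).symm)
        (k := k) (by simpa using congrArg Subtype.val hk))
  rw [← inv_mem_iff]
  refine nrm_Od h hC fun o ho a ha => ?_
  have := commutator_eq_bot_iff_forall.1 key o ho _ (H8.conj_mem_conj_smul.2 ha)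
  calc a * (g⁻¹ * o * g⁻¹⁻¹) = g⁻¹ * (g * a * g⁻¹ * o) * g := by group
    _ = _ := by rw [← this]; group

theorem kill (H : HoltStmt.{u}) : KillStmt.{u} := by
  intro G _ _ _ ι _ _ q hq z v0 Q Od π Ψ h6 h hC
  have : Fact (Nat.Prime 2) := ⟨Nat.prime_two⟩
  have CP := C_le h hC
  have zC : z ∈ centralizer ({z} : Set G) := Q_le h h.zQ
  have zO : z ∉ Od := fun hz => by
    have := Od.orderOf_dvd_natCard hz
    rw [h.z2] at this
    exact (Nat.not_even_iff_odd.2 h.odd) (even_iff_two_dvd.2 this)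
  by_cases hP : normalizer (Od : Set G) = ⊤
  · exact (normalizer_eq_top_iff.1 hP).eq_bot_or_eq_top.resolve_right fun e => zO (e ▸ mem_top _)
  obtain ⟨S, hS, zS, SC⟩ := two_central h hC
  have nc : ¬ IsMulCommutative G := fun hc => by
    obtain ⟨x, -, y, -, hxy⟩ := (xs h).nonab
    exact hxy (hc.is_comm.comm x y)
  have two : ∀ g : G, IsPGroup 2 (zpowers (g * z * g⁻¹)) := fun g =>
    IsPGroup.of_card (n := 1) (by
      rw [Nat.card_zpowers, pow_one, ← h.z2]
      exact orderOf_injective (MulAut.conj g).toMonoidHom (MulAut.conj g).injective z)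
  rcases H G nc _ hP z (CP zC) ⟨h.z2, hS.toSylowTop, zS,
      fun x hx => mem_centralizer_singleton_iff.1 (SC hx)⟩ CP (fun g hg => ⟨g, by
        obtain ⟨p, hp, le⟩ := (hS.mono (SC.trans CP) le_top).exists_conj_le (two g) (zpowers_le.2 hg)
        have m := SC (le (H8.conj_mem_conj_smul.2 (mem_zpowers _)))
        have := fusion h6 h hC (g := p * g) (by
          rwa [show p * g * z * (p * g)⁻¹ = p * (g * z * g⁻¹) * p⁻¹ by group])
        simpa using mul_mem (inv_mem hp) this, rfl⟩) with ⟨T, eT⟩ | ⟨n, h5, ⟨e⟩⟩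
  · exfalso
    obtain ⟨r, hr, rQ, rr, -⟩ := h.inv
    have nT : ((T : Subgroup G).subgroupOf (centralizer {z})).Normal := ⟨fun t ht c =>
      (mem_normalizer_iff.1 (eT.le (CP c.2)) (t : G)).1 ht⟩
    have b := two_normal hq h6 _ (nT.map _ (psi_surj h hC)) (T.2.comap_subtype.map _)
    have rT : r ∈ (T : Subgroup G) := by
      have h2 : IsPGroup 2 (zpowers r) := by
        rintro ⟨_, k, rfl⟩
        refine ⟨1, Subtype.ext ?_⟩
        simp only [SubgroupClass.coe_pow, OneMemClass.coe_one]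
        rw [← zpow_natCast, ← zpow_mul, mul_comm, zpow_mul, zpow_natCast]
        norm_num [pow_two, rr]
      exact (H8.isSylowIn_top T).le_of_le_normalizer' h2 le_top (zpowers_le.2 (eT ▸ CP hr.1))
        (mem_zpowers r)
    have : psi h hC ⟨r, hr.1⟩ ∈ ((T : Subgroup G).subgroupOf (centralizer {z})).map (psi h hC) :=
      ⟨_, rT, rfl⟩
    rw [b, mem_bot] at this
    exact psi_r h6 h hr rQ rr (congrArg Subtype.val this)
  · by_cases h4 : n = 5
    · exfalso
      subst h4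
      have c1 := Nat.card_congr e.toEquiv
      have c2 := card_le_of_le ((Q_le h).trans CP)
      have c3 : Nat.card (alternatingGroup (Fin (5 - 1))) ≤ Nat.card (Equiv.Perm (Fin 4)) :=
        card_le_card_group _
      rw [Nat.card_perm, Nat.card_fin] at c3
      rw [card_Q h] at c2
      have : 2 ^ 7 ≤ 2 ^ (Fintype.card ι + 1) := Nat.pow_le_pow_right (by norm_num) (by omega)
      have e4 : Nat.factorial 4 = 24 := rfl
      omega
    · have := alternatingGroup.isSimpleGroup (α := Fin (n - 1)) (by simp; omega)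
      have := e.isSimpleGroup
      rcases (normal_in_normalizer (H := Od)).eq_bot_or_eq_top with k | k
      · rw [eq_bot_iff]
        intro o ho
        have : (⟨o, le_normalizer ho⟩ : normalizer (Od : Set G)) ∈
          Od.subgroupOf (normalizer (Od : Set G)) := ho
        rw [k, mem_bot] at this
        exact congrArg Subtype.val this
      · exact absurd (subgroupOf_eq_top.1 k (CP zC)) zO

end Cfsg.Agent.H39.ASE
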