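import Cfsg.Agent.H25.CUKit
import Cfsg.Agent.H36.C6H3b

/-!
# Project C6U, piece H3B: three homologies do not normalise `3^{1+2}` (port of `C6H3b`)
-/

set_option autoImplicit false

namespace Cfsg.Agent.H39.CuH3b

open Matrix Cfsg.Geo H26
open Cfsg.Agent.H25 Cfsg.Agent.H25.CU
open Cfsg.Agent.H25.C6 hiding Fld Mod Bc Low Ar Tri StdStmt NrmStmt EsStmt GeoStmt TpStmt TvStmt OddStmt ZsStmt H3bStmt
  H3cStmt H3dStmt H3Stmt A1Stmt K0Stmt SwStmt PrimStmt RealStmt BigStmt SmallStmt ClsStmt A2Stmt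
  LiftStmt KbStmt KoddStmt UqStmt One
open Cfsg.Agent.H36.C6H3b hiding c_ne bl0 bl1 pow_mem dvd_of_cast r_ne two_ne seven_ne h3b
open scoped MatrixGroups

universe u

variable {K : Type u} [Field K]

section Tri

variable {r p : ℕ} {γ l c : K} {s : Fin 3 → GL (Fin 3) K} (T : Tri r p γ l c s)
include T

theorem c_ne : c ≠ 0 := fun h => by simpa [h] using T.c3

theorem bl0 : Bl (s 0) l (l - 1) 0 1 :=
  ⟨c, c_ne T, l - 1, 0, by
    rw [T.eq]
    congr 1
    ext i j
    fin_cases i <;> fin_cases j <;> simp [sM, aM, mM, vecMulVec]⟩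

theorem bl1 : Bl (s 1) 1 0 ((l - 1) * (r : K)⁻¹) l :=
  ⟨c, c_ne T, 0, (l - 1) * (γ * (r : K)⁻¹), by
    rw [T.eq]
    congr 1
    ext i j
    fin_cases i <;> fin_cases j <;> simp [sM, aM, mM, vecMulVec]⟩

theorem pow_mem {m : ℕ} (hm : l ^ m = 1) (i : Fin 3) : s i ^ m ∈ scalars (Fin 3) K :=
  (mem_scalars_iff _).2 ⟨Units.mk0 (c ^ m) (pow_ne_zero _ (c_ne T)), by
    rw [Units.val_pow_eq_pow_val, T.eq, _root_.smul_pow, sM_pow, hm]
    simp⟩

theorem dvd_of_cast {n : ℕ} (h : (n : K) = 0) : p ∣ n :=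
  haveI := T.char
  (CharP.cast_eq_zero_iff K p n).1 h

theorem r_ne : (r : K) ≠ 0 := fun h => by
  have h1 := dvd_of_cast T h
  have h2 := T.prime
  obtain ⟨rfl, h⟩ := T.pr
  obtain rfl := (Nat.prime_dvd_prime_iff_eq h2 (by norm_num)).1 h1
  omega

theorem two_ne : (2 : K) ≠ 0 := fun h =>
  T.two ((Nat.prime_dvd_prime_iff_eq T.prime Nat.prime_two).1 (dvd_of_cast T (by exact_mod_cast h)))

theorem seven_ne : (7 : K) ≠ 0 := fun h => by
  have h1 := (Nat.prime_dvd_prime_iff_eq T.prime (by norm_num : Nat.Prime 7)).1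
    (dvd_of_cast T (by exact_mod_cast h))
  have := T.pr
  omega

end Tri

theorem h3b : H3bStmt.{u} := by
  intro K _ _ r p γ l c s T x y z hz1 hxy hN
  obtain ⟨ψ, hψ⟩ := exists_es_hom hz1 hxy hN
  have h3 := three_ne hz1 hxy
  have h2 := two_ne T
  have h7 := seven_ne T
  have hr := r_ne T
  have hl1 : l - 1 ≠ 0 := sub_ne_zero.2 T.ne
  have hl0 : l ≠ 0 := fun h => by simpa [h] using T.c3
  obtain ⟨L, hL⟩ : ∃ L, l * L = 1 := ⟨l⁻¹, mul_inv_cancel₀ hl0⟩
  have b0 := bl0 T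
  have b1 := bl1 T
  obtain ⟨v, hv, e⟩ : ∃ v : K, (r : K) * v = 1 ∧ (r : K)⁻¹ = v := ⟨_, mul_inv_cancel₀ hr, rfl⟩
  rw [e] at b1
  have hv0 : v ≠ 0 := right_ne_zero_of_mul_eq_one hv
  have c0 : Bl (s 0)⁻¹ L (L - 1) 0 1 :=
    b0.inv (by linear_combination hL) (by linear_combination hL) (by ring) (by ring)
  have c1 : Bl (s 1)⁻¹ 1 0 ((L - 1) * v) L :=
    b1.inv (by ring) (by ring) (by linear_combination v * hL) (by linear_combination hL)
  have key : ∀ {g : GL (Fin 3) K} {a b c d a' b' c' d' : K}, g ∈ hz x y → Bl g a b c d →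
      Bl g⁻¹ a' b' c' d' →
      (a = 1 ∧ b = 0 ∧ c = 0 ∧ d = 1) ∨ (a + d + 1 = 0 ∧ a' + d' + 1 = 0) := fun hg h h' =>
    (tr_of_mem_hz hz1 hxy hg).imp h.scal fun t => ⟨h.tr t.1, h'.tr t.2⟩
  have key1 : ∀ {g : GL (Fin 3) K} {a b c d : K}, g ∈ hz x y → Bl g a b c d →
      (a = 1 ∧ b = 0 ∧ c = 0 ∧ d = 1) ∨ a + d + 1 = 0 := fun hg h =>
    (tr_of_mem_hz hz1 hxy hg).imp h.scal fun t => h.tr t.1
  let S : Fin 3 → Subgroup.closure (Set.range s) := fun i => ⟨s i, Subgroup.subset_closure ⟨i, rfl⟩⟩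
  have n0 : ψ (S 0) ≠ 1 := fun h => by
    rcases key ((hψ _).1 h) b0 c0 with h | ⟨h, h'⟩
    · exact T.ne h.1
    · exact h3 (by linear_combination hL + (2 - L) * h + (4 - 2) * h' - 2 * h)
  have n1 : ψ (S 1) ≠ 1 := fun h => by
    rcases key ((hψ _).1 h) b1 c1 with h | ⟨h, h'⟩
    · exact T.ne h.2.2.2
    · exact h3 (by linear_combination hL + (2 - L) * h + (4 - 2) * h' - 2 * h)
  obtain ⟨m, hm, hlm⟩ := T.ord
  have hp : ∀ i, ψ (S i) ^ m = 1 := fun i => by
    rw [← map_pow]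
    exact (hψ _).2 (scalars_le_hz x y (pow_mem T hlm i))
  have hrr : (r : K) = 7 ∨ (r : K) = 11 := Or.inl (by rw [T.pr.1]; norm_num)
  by_cases m2 : m = 2
  · subst m2
    have hl : l = -1 := by
      have : (l - 1) * (l + 1) = 0 := by linear_combination hlm
      exact eq_neg_of_add_eq_zero_left ((mul_eq_zero.1 this).resolve_left hl1)
    rcases sl23_facts.2.2 _ _ (hp 0) (hp 1) with h | h | h
    · exact n0 h
    · exact n1 h
    rw [← map_mul] at h
    rcases key1 ((hψ _).1 h) (b0.mul b1) with h | h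
    · exact mul_ne_zero hl1 hv0 (by linear_combination h.2.2.1)
    · subst hl
      have h4 : (r : K) = 4 := by linear_combination 4 * hv - r * h
      rcases hrr with h5 | h5
      · exact h3 (by linear_combination h4 - h5)
      · exact h7 (by linear_combination h4 - h5)
  by_cases m3 : m = 3
  · subst m3
    have hl : l ^ 2 + l + 1 = 0 := by
      have : (l - 1) * (l ^ 2 + l + 1) = 0 := by linear_combination hlm
      exact (mul_eq_zero.1 this).resolve_left hl1
    obtain rfl : L = l ^ 2 := by linear_combination (l ^ 2) * hL - L * hlm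
    rcases sl23_three _ _ (hp 0) (hp 1) with h | h | h | h | ⟨h, h'⟩ | h
    · exact n0 h
    · exact n1 h
    · simp only [← map_inv, ← map_mul] at h
      rcases key1 ((hψ _).1 h) (b0.mul c1) with h | h
      · have h := h.2.2.1
        clear * - hl h3 hv0 h
        grind
      · clear * - hl h3 hv0 h
        grind
    · simp only [← map_mul] at h
      rcases key ((hψ _).1 h) (b0.mul b1) (by simpa using c1.mul c0) with h | h
      · exact mul_ne_zero hl1 hv0 (by linear_combination h.2.2.1)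
      · clear * - hl h3 hv0 h
        grind
    · simp only [← map_inv, ← map_mul] at h h'
      have g1 : Bl (s 0 * (s 1)⁻¹) (l + 3 * v) (2 + l) ((-2 - l) * v) (-1 - l) :=
        (b0.mul c1).congr (by clear * - hl; grind)
      have g2 := g1.mul g1
      have t1 : 1 - 3 * v = 0 ∨ 7 - 15 * v + 9 * v ^ 2 = 0 :=
        (key1 ((hψ _).1 h) (((((b0.mul b1).mul b0).mul c1).mul c0).mul c1)).imp
          (fun h => by clear * - hl h3 h; grind) fun h => by clear * - hl h3 hv0 h; grind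
      have t2 : (3 * v - 1) ^ 2 * (3 * v + 1) * (v - 1) = 0 ∨
          4 + 6 * v - 36 * v ^ 2 + 27 * v ^ 3 = 0 :=
        (key1 ((hψ _).1 h') (g2.mul g2)).imp
          (fun h => by clear * - hl h3 h; grind) fun h => by clear * - hl h3 hv0 h; grind
      exact al10 h2 hrr hv t1 t2
    · simp only [← map_inv, ← map_mul] at h
      rcases key ((hψ _).1 h) (((((b0.mul c1).mul b0).mul b1).mul c0).mul b1)
        (by simpa [mul_assoc] using ((((c1.mul b0).mul c1).mul c0).mul b1).mul c0) with h | h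
      · clear * - hl h3 h
        grind
      · clear * - hl h3 h
        grind
  · have hc : m.Coprime 12 := by
      rw [show 12 = 2 ^ 2 * 3 by norm_num]
      exact Nat.Coprime.mul_right (Nat.Coprime.pow_right _ ((Nat.coprime_primes hm Nat.prime_two).2 m2))
        ((Nat.coprime_primes hm Nat.prime_three).2 m3)
    refine n0 ?_
    have := pow_gcd_eq_one.2 ⟨hp 0, sl23_facts.2.1 (ψ (S 0))⟩
    rwa [hc.gcd_eq_one, pow_one] at this

end Cfsg.Agent.H39.CuH3b
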