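import Cfsg.Agent.H17.TwB

/-! The Sylow subgroup of the component: `T0 / ⟨t⟩ ≅ TQ 2`. -/

set_option autoImplicit false
set_option maxRecDepth 100000
set_option exponentiation.threshold 10000

namespace Cfsg.Agent.H39.A12Tq

open Equiv Subgroup Cfsg.Agent.H89.TG Cfsg.Agent.H89.Rec Cfsg.Agent.H17.Ya Cfsg.Agent.H17.Tw
open Cfsg.Agent.H8.GHM (TW LS KS TQ kap kap_sq)

/-- the position of a point on its square -/
def lb (p : ℕ) : ℕ := Nat.land (Nat.shiftRight 216 (Nat.mul 2 (Nat.mod p 4))) 3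

/-- the square `B` is reflected -/
def rfB (c B : ℕ) : Bool :=
  Nat.beq (Nat.mod (Nat.succ (lb (ap c (Nat.add (Nat.mul 4 B) 2)))) 4) (lb (ap c (Nat.mul 4 B)))

/-- the rotation of the square `B` -/
def rot (c B : ℕ) : ZMod (2 ^ 2) :=
  ((cond (rfB c B) (lb (ap c (Nat.add (Nat.mul 4 B) 2))) (lb (ap c (Nat.mul 4 B))) : ℕ) : ZMod (2 ^ 2))

/-- the coordinates of a code -/
noncomputable def fc (c : ℕ) : TW (2 ^ 2) :=
  Nat.rec (motive := fun _ => TW (2 ^ 2)) 1 (fun c _ =>
    cond (Nat.beq (Nat.div (ap c 0) 4) 1) ⟨rot c 1, rot c 0, rot c 2, rfB c 1, rfB c 0, true⟩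
      ⟨rot c 0, rot c 1, rot c 2, rfB c 0, rfB c 1, false⟩) (Nat.succ c)

/-- the even elements of the elementary abelian group -/
noncomputable def par (i : ℕ) : Bool := bt (nat_lit 0x33cc33cccc33cc33) i

theorem par_iff : ∀ i < 64, (par i = true ↔ (aw i).length % 2 = 0) := by decide +kernel

theorem sgn_ew {w : List ℕ} (h : ∀ x ∈ w, 1 ≤ x ∧ x ≤ 6) :
    Perm.sign (hp (ew w)) = (-1) ^ w.length := by
  induction w with
  | nil => simp [ew]
  | cons x w ih =>
    have e : ew (x :: w) = gn x * ew w := by simp [ew]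
    rw [e, map_mul, map_mul, ih fun y hy => h y (by simp [hy]), sgn_gn (h x (by simp)),
      List.length_cons, pow_succ']

theorem sgn_av {a : ℕ} (ha : a < 64) : Perm.sign (hp (av a)) = 1 ↔ par a = true := by
  obtain ⟨h1, -, -, h3⟩ := aw_spec a ha
  rw [← h1, sgn_ew fun x hx => ?_, par_iff a ha, neg_one_pow_eq_one_iff_even (by decide),
    Nat.even_iff]
  have := allL_iff.2 h3 x hx
  rwa [← band_iff, ← nle_iff, ← nle_iff] at this

theorem sgn_rho {q : ℕ} (hq : q < 8) : Perm.sign (hp (rho q)) = 1 := by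
  have k : ∀ q < 8, (∀ i : Fin 6, ap (rhoc q) (2 * i.val) / 2 = ((1 : Perm (Fin 6)) i).val) ∨
      ∀ i : Fin 6, ap (rhoc q) (2 * i.val) / 2 = ((swap 0 2 * swap 1 3 : Perm (Fin 6)) i).val := by
    decide +kernel
  rcases k q hq with h | h
  · rw [hp_eq (w := rho q) h, map_one]
  · rw [hp_eq (w := rho q) h, map_mul, Perm.sign_swap (by decide), Perm.sign_swap (by decide)]; simp

theorem rho_T : ∀ q < 8, rho q ∈ T := by kd

theorem mem_T0 {u : T} : u ∈ T0 ↔ ∃ a < 64, ∃ q < 8, par a = true ∧ (u : El) = av a * rho q := by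
  have e : u ∈ T0 ↔ Perm.sign (hp (u : El)) = 1 := Iff.rfl
  rw [e]
  constructor
  · intro h
    obtain ⟨q, hq, k⟩ := decT u u.2
    refine ⟨_, idx_lt _, q, hq, (sgn_av (idx_lt _)).1 ?_, k.symm⟩
    rwa [← k, map_mul, map_mul, sgn_rho hq, mul_one] at h
  · rintro ⟨a, ha, q, hq, h, k⟩
    rw [k, map_mul, map_mul, sgn_rho hq, mul_one, (sgn_av ha).2 h]

theorem mul0 : allW (fun w => bimp (tB w) (band
    (allF (fun a => bimp (par a) (decide (fc (mu (avc a) w) = fc (avc a) * fc w))) 64)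
    (allF (fun q => decide (fc (mu (rhoc q) w) = fc (rhoc q) * fc w)) 8))) = true := by
  decide +kernel

theorem mul_av {a : ℕ} (ha : a < 64) (h : par a = true) {w : El} (hw : w ∈ T) :
    fc (av a * w).val = fc (av a).val * fc w.val := by
  have := (band_iff.2 (bimp_iff.2 (of_allW mul0 w.val w.ok) (mem_T.1 hw))).1
  rw [val_mul]
  exact of_decide_eq_true (bimp_iff.2 (allF_iff.2 this a ha) h)

theorem mul_rho {q : ℕ} (hq : q < 8) {w : El} (hw : w ∈ T) :
    fc (rho q * w).val = fc (rho q).val * fc w.val := by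
  have := (band_iff.2 (bimp_iff.2 (of_allW mul0 w.val w.ok) (mem_T.1 hw))).2
  rw [val_mul]
  exact of_decide_eq_true (allF_iff.2 this q hq)

set_option synthInstance.maxSize 2000 in
theorem ls0 : ∀ a < 64, ∀ q < 8, par a = true →
    (∃ c, (fc (mu (avc a) (rhoc q))).i + (fc (mu (avc a) (rhoc q))).k +
      (fc (mu (avc a) (rhoc q))).l = 2 * c) ∧
    (fc (mu (avc a) (rhoc q)) = 1 ↔ mu (avc a) (rhoc q) = ec) ∧
    (fc (mu (avc a) (rhoc q)) = kap 2 ↔ mu (avc a) (rhoc q) = avc 21) := by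
  decide +kernel

/-- the isomorphism onto the model -/
noncomputable def ψ : T0 →* LS (2 ^ 2) := MonoidHom.mk'
  (fun u => ⟨fc (u.1 : El).val, by
    obtain ⟨a, ha, q, hq, h, k⟩ := mem_T0.1 u.2
    rw [k, val_mul]
    exact (ls0 a ha q hq h).1⟩) fun u v => Subtype.ext (by
    obtain ⟨a, ha, q, hq, h, k⟩ := mem_T0.1 u.2
    change fc ((u.1 : El) * (v.1 : El)).val = fc (u.1 : El).val * fc (v.1 : El).val
    rw [k, mul_assoc, mul_av ha h (mul_mem (rho_T q hq) v.1.2), mul_rho hq v.1.2,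
      mul_av ha h (rho_T q hq), mul_assoc])

/-- the inverse table -/
noncomputable def tq (i k l : ZMod (2 ^ 2)) (a b s : Bool) : ℕ :=
  fld 9 511 (nat_lit 0x69c01a6b6802d8000068c01a2b4802d000ea803a8000047c011ee8803a0000046c011a006dc01b6be802f800006cc01b2bc802f000e280388000043c010ee080380000042c010a006540194af002be00006440190ad002b600fb003ee00004f4013cf9003e600004e40138006140184a70029e00006040180a50029600f3003ce00004b4012cf1003c600004a401280066c019aaa802a8000067c019ea8802a000fc803f000004dc0136fe803f800004cc01320062c018aa280288000063c018ea08028000f4803d0000049c0126f6803d8000048c0122006a401a8b3002ce00006b401acb1002c600ed003b600004540114ef003be00004440110006e401b8bb002ee00006f401bcb9002e600e50039600004140104e70039e000040401000019c00665680158000018c00625480150006a801a8000007c001e68801a0000006c001a001dc00765e8017800001cc00725c80170006280188000003c000e6080180000002c000a0015400544f0013e000014400504d00136007b001ee00000f4003c79001e600000e40038001140044470011e0000104004045001160073001ce00000b4002c71001c600000a400280016c005a4a80128000017c005e4880120007c801f000000dc00367e801f800000cc00320012c004a4280108000013c004e40801000074801d0000009c002676801d8000008c0022001a40068530014e00001b4006c5100146006d001b6000005400146f001be00000440010001e400785b0016e00001f4007c590016600650019600000140004670019e00000040000)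
    (i.val + 4 * k.val + 16 * l.val + 64 * a.toNat + 128 * b.toNat + 256 * s.toNat)

theorem su0 : ∀ (i k l : ZMod (2 ^ 2)) (a b s : Bool), (∃ c, i + k + l = 2 * c) →
    tq i k l a b s / 64 < 8 ∧ par (tq i k l a b s % 64) = true ∧
    fc (mu (avc (tq i k l a b s % 64)) (rhoc (tq i k l a b s / 64))) = ⟨i, k, l, a, b, s⟩ := by
  decide +kernel

theorem ψ_surj : Function.Surjective ψ := by
  rintro ⟨⟨i, k, l, a, b, s⟩, h⟩
  obtain ⟨h1, h2, h3⟩ := su0 i k l a b s h
  have h0 : tq i k l a b s % 64 < 64 := Nat.mod_lt _ (by norm_num)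
  refine ⟨⟨⟨_, mul_mem (av_T _ h0) (rho_T _ h1)⟩, mem_T0.2 ⟨_, h0, _, h1, h2, rfl⟩⟩, Subtype.ext ?_⟩
  change fc (av _ * rho _).val = _
  rw [val_mul]
  exact h3

theorem mem_KS {x : LS (2 ^ 2)} : x ∈ KS 2 ↔ x.1 = 1 ∨ x.1 = kap 2 := by
  rw [KS, mem_subgroupOf, mem_zpowers_iff]
  constructor
  · rintro ⟨k, hk⟩
    have h2 : kap 2 ^ (2 : ℤ) = 1 := by rw [zpow_two, kap_sq]
    rcases Int.even_or_odd' k with ⟨c, rfl | rfl⟩
    · left; rw [zpow_mul, h2, one_zpow] at hk; exact hk.symm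
    · right; rw [zpow_add, zpow_mul, h2, one_zpow, one_mul, zpow_one] at hk; exact hk.symm
  · rintro (h | h)
    · exact ⟨0, h.symm⟩
    · exact ⟨1, (zpow_one _).trans h.symm⟩

theorem tqStmt : TQStmt := by
  refine ⟨(QuotientGroup.mk' (KS 2)).comp ψ, (QuotientGroup.mk'_surjective _).comp ψ_surj,
    fun u => ?_⟩
  obtain ⟨a, ha, q, hq, h, k⟩ := mem_T0.1 u.2
  obtain ⟨-, h1, h2⟩ := ls0 a ha q hq h
  have e : (u.1 : El).val = mu (avc a) (rhoc q) := by rw [k, val_mul]; rfl
  rw [MonoidHom.comp_apply, QuotientGroup.mk'_apply, QuotientGroup.eq_one_iff, mem_KS]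
  change fc (u.1 : El).val = 1 ∨ fc (u.1 : El).val = kap 2 ↔ _
  rw [e, h1, h2, ← e]
  exact or_congr ⟨fun k => Subtype.ext (El.ext' (k.trans val_one.symm)),
      fun k => by rw [k]; exact val_one⟩
    ⟨fun k => Subtype.ext (El.ext' k), fun k => by rw [k]; rfl⟩

end Cfsg.Agent.H39.A12Tq
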