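import Cfsg.Agent.H96.D4Defs

/-! `³D₄(q)`, `q` even: an essential subgroup of `U C` contains no mixed element. -/

set_option autoImplicit false

namespace Cfsg.Agent.H39.D4Mt

open Cfsg.Agent.H97 Cfsg.Agent.H96.VB Cfsg.Agent.H96.CP Cfsg.Agent.H96.DF Subgroup
open scoped commutatorElement

universe u

variable {F K : Type u} [Field F] [Field K] [Algebra F K] {C : Tri F K}

theorem cJ (g h : U C) : ⁅g, h⁆ ∈ H96.DF.J C := ⟨comm_t _ _, comm_u _ _⟩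

theorem cY (g : U C) {h : U C} (hh : h ∈ H96.DF.J C) : ⁅g, h⁆ ∈ Y C := by
  obtain ⟨h1, h2⟩ := mem_J.1 hh
  simp [mem_Y, comm_y, h1, h2]

theorem cW (g : U C) {h : U C} (hh : h ∈ Y C) : ⁅g, h⁆ ∈ W C := by
  obtain ⟨h1, h2, h3⟩ := mem_Y.1 hh
  simp [mem_W, comm_y, comm_x, h1, h2, h3]

theorem cZ (g : U C) {h : U C} (hh : h ∈ W C) : ⁅g, h⁆ ∈ Z C := by
  obtain ⟨h1, h2, h3, h4⟩ := mem_W.1 hh
  simp [mem_Z, comm_y, comm_x, comm_a, h1, h2, h3, h4]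

theorem cWz (g : U C) {h : U C} (hh : h ∈ W C) : ⁅g, h⁆.z = -(h.a * g.u) := by
  obtain ⟨h1, h2, h3, h4⟩ := mem_W.1 hh
  rw [comm_z, comm_a, comm_x]
  simp [h1, h2, h3, h4]
  ring

theorem eq_one {g : U C} (hg : g ∈ Z C) (h : g.z = 0) : g = 1 := by
  obtain ⟨h1, h2, h3, h4, h5⟩ := mem_Z.1 hg
  exact U.ext h1 h2 h3 h4 h5 h

theorem cE {g h : U C} (hg : g ∈ E C) (hh : h ∈ W C) : ⁅g, h⁆ = 1 :=
  eq_one (cZ g hh) (by rw [cWz g hh, mem_E.1 hg]; simp)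

theorem c1 (g : U C) {h : U C} (hh : h ∈ Z C) : ⁅g, h⁆ = 1 := by
  obtain ⟨h1, h2, h3, h4, h5⟩ := mem_Z.1 hh
  exact eq_one (cZ g ⟨h1, h2, h3, h4⟩) (by rw [cWz g ⟨h1, h2, h3, h4⟩, h5]; simp)

theorem cQ {g h : U C} (hg : g ∈ Q C) (hh : h ∈ Q C) : ⁅g, h⁆ ∈ Z C := by
  rw [comm_Q hg hh]; exact ⟨rfl, rfl, rfl, rfl, rfl⟩

theorem swap {H : Subgroup (U C)} {g h : U C} (e : ⁅g, h⁆ ∈ H) : ⁅h, g⁆ ∈ H := by
  rw [← commutatorElement_inv]; exact inv_mem e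

theorem ZW : Z C ≤ W C := fun _ ⟨a, b, c, d, _⟩ => ⟨a, b, c, d⟩
theorem WY : W C ≤ Y C := fun _ ⟨a, b, c, _⟩ => ⟨a, b, c⟩
theorem YJ : Y C ≤ H96.DF.J C := fun _ h => ⟨(mem_Y.1 h).1, (mem_Y.1 h).2.1⟩

theorem sqW (h2 : (2 : F) = 0) {w : U C} (hw : w ∈ W C) : w * w = 1 := by
  obtain ⟨h1, h3, h4, h5⟩ := mem_W.1 hw
  have e : ∀ a : F, a + a = 0 := fun a => by rw [← two_mul, h2, zero_mul]
  ext <;> simp [h1, h3, h4, h5, e]

/-- An involution which centralizes a mixed element modulo `Z` lies in `Y`. -/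
theorem key (h2 : (2 : F) = 0) {g j : U C} (ht : g.t ≠ 0) (hu : g.u ≠ 0) (hj : j * j = 1)
    (hc : ⁅j, g⁆ ∈ Z C) : j ∈ Y C := by
  have k2 : (2 : K) = 0 := by rw [← map_ofNat (algebraMap F K) 2, h2, map_zero]
  obtain ⟨-, -, e1, e2, e3⟩ := mem_Z.1 hc
  have s1 : j.u • j.t = 0 := by
    have := congrArg U.y hj
    rw [U.mul_y, U.one_y, ← two_mul, k2, zero_mul, zero_add] at this
    exact this
  rw [comm_y] at e1
  have hJ : j.t = 0 ∧ j.u = 0 := by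
    rcases smul_eq_zero.1 s1 with h | h
    · rw [h, zero_smul, sub_zero] at e1
      exact ⟨(smul_eq_zero.1 e1).resolve_left hu, h⟩
    · rw [h, smul_zero, zero_sub, neg_eq_zero] at e1
      exact ⟨h, (smul_eq_zero.1 e1).resolve_right ht⟩
  obtain ⟨t0, u0⟩ := hJ
  rw [comm_x, t0, u0] at e2
  simp only [Tri.zero_cr, zero_sub, Tri.sh_zero, smul_zero, add_zero, zero_smul, sub_zero,
    neg_eq_zero] at e2
  obtain ⟨c, hy, -⟩ := C.cr_eq_zero ht e2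
  rw [comm_a, t0, u0, hy] at e3
  simp only [zero_mul, map_zero, zero_sub, Tri.sh_zero, add_zero, Tri.N_zero, mul_zero, sub_zero,
    smul_mul_assoc, map_smul, smul_eq_mul, mul_comm (C.sh g.t), Tri.T_mul_sh] at e3
  have s2 := congrArg U.z hj
  rw [U.mul_z, t0, u0, hy] at s2
  simp only [zero_mul, map_zero, Tri.sh_zero, add_zero, Tri.N_zero, mul_zero, sub_zero, zero_smul,
    smul_mul_assoc, map_smul, smul_eq_mul, mul_comm j.x, U.one_z] at s2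
  have hN : C.N g.t ≠ 0 := by simpa using ht
  have s3 : c * c * C.N g.t = 0 := by
    linear_combination s2 - c * e3 - (j.z + c * c * C.N g.t) * h2
  have hc0 : c = 0 := by simpa [hN] using s3
  exact ⟨t0, u0, by rw [hy, hc0, zero_smul]⟩

variable (C) in
/-- `J₀ = {g ∈ J | y ∈ F t}` -/
def J0 (t : K) : Subgroup (U C) where
  carrier := {g | g.t = 0 ∧ g.u = 0 ∧ C.cr t g.y = 0}
  one_mem' := ⟨rfl, rfl, by simp⟩
  mul_mem' := fun {g k} ⟨_, _, _⟩ ⟨_, _, _⟩ => by simp [Tri.cr_add, *]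
  inv_mem' := fun {g} ⟨_, _, _⟩ => by simp [*]

variable (C) in
/-- `Y₁ = W t^⊥` -/
def Y1 (t : K) : Subgroup (U C) where
  carrier := {g | g.t = 0 ∧ g.u = 0 ∧ g.y = 0 ∧ C.T (t * g.x) = 0}
  one_mem' := ⟨rfl, rfl, rfl, by simp⟩
  mul_mem' := fun {g k} ⟨_, _, _, _⟩ ⟨_, _, _, _⟩ => by simp [mul_add, *]
  inv_mem' := fun {g} ⟨_, _, _, _⟩ => by simp [*]

theorem YJ0 (t : K) : Y C ≤ J0 C t := fun _ h => by
  obtain ⟨h1, h2, h3⟩ := mem_Y.1 h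
  exact ⟨h1, h2, by simp [h3]⟩

theorem mt [Finite K] {p : ℕ} [Fact p.Prime] [CharP F p] : MTStmt C p := by
  rintro rfl P hq g hg ht hu
  obtain ⟨A, B, h⟩ := hq.ex
  have h2 : (2 : F) = 0 := by simpa using CharP.cast_eq_zero F 2
  have k2 : (2 : K) = 0 := by rw [← map_ofNat (algebraMap F K) 2, h2, map_zero]
  have top : ∀ L : List (Subgroup (U C)), (∀ X ∈ L, X ≤ P ∧ Iv A X) → (∀ s, St s P L) → False :=
    fun L hL hs => h.ne (eq_top_iff.2 fun s _ => h.chain L hL s (hs s))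
  have ZP : Z C ≤ P := fun z hz => h.cen z fun x _ =>
    (commutatorElement_eq_one_iff_mul_comm.1 (c1 x hz)).symm
  -- the images of involutions of `W`
  have img : ∀ α ∈ A, ∀ w ∈ P, w ∈ W C → ⁅ext α w, g⁆ ∈ Z C → ext α w ∈ W C := fun α hα w hw hW e =>
    h.g1 w hW _ (key h2 ht hu (by rw [← ext_map_mul α hw hw, sqW h2 hW, ext_map_one]) e)
      (Rel.ext hα hw)
  have iZ : Iv A (Z C) := fun α hα z hz hZ => by
    have e : ⁅ext α z, g⁆ = 1 :=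
      (Iv.one (A := A)).commP α hα z hz (fun x _ => mem_bot.1 (swap (mem_bot.2 (c1 x hZ)))) g hg
    have hW := img α hα z hz (ZW hZ) (e ▸ one_mem _)
    have e' : ⁅g, ext α z⁆ = 1 := mem_bot.1 (swap (mem_bot.2 e))
    have := cWz g hW
    rw [e', U.one_z, eq_comm, neg_eq_zero] at this
    obtain ⟨a, b, c, d⟩ := mem_W.1 hW
    exact ⟨a, b, c, d, (mul_eq_zero.1 this).resolve_right hu⟩
  have WP : W C ≤ P := fun w hw => h.chain [Z C] (by simpa using ⟨ZP, iZ⟩) w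
    ⟨fun x _ => swap (cZ x hw), fun x hx => c1 w hx⟩
  have iW : Iv A (W C) := fun α hα w hw hW =>
    img α hα w hw hW (iZ.commP α hα w hw (fun x _ => swap (cZ x hW)) g hg)
  have YP : Y C ≤ P := fun y hy => h.chain [W C] (by simpa using ⟨WP, iW⟩) y
    ⟨fun x _ => swap (cW x hy), fun x hx => cE (YJ hy).2 hx⟩
  have iE : Iv A (E C) := (Iv.one.comm iW).congr fun s _ =>
    ⟨fun e x _ hx => cE e hx, fun e => by
      have hx : xa C 1 ∈ W C := ⟨rfl, rfl, rfl, rfl⟩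
      have := cWz s hx
      rw [show ⁅s, xa C 1⁆ = 1 from e _ (WP hx) hx, U.one_z, eq_comm, neg_eq_zero] at this
      simpa [xa, mem_E] using this⟩
  have tz : ∀ s : U C, s ∈ E C → ⁅s, g⁆.y = 0 → s.t = 0 := fun s hs e => by
    rw [comm_y, mem_E.1 hs, zero_smul, sub_zero] at e
    exact (smul_eq_zero.1 e).resolve_left hu
  have iD := iE.inter iW.commP
  by_cases hD : ∀ d ∈ P, d ∈ E C → (∀ x ∈ P, ⁅d, x⁆ ∈ W C) → d.y = 0
  · have iY : Iv A (Y C) := iD.congr fun s hs =>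
      ⟨fun e => ⟨(YJ e).2, fun x _ => swap (cW x e)⟩,
        fun e => ⟨tz s e.1 (e.2 g hg).2.2.1, e.1, hD s hs e.1 e.2⟩⟩
    have JP : H96.DF.J C ≤ P := fun j hj => h.chain [Y C, W C] (by simpa using ⟨⟨YP, iY⟩, WP, iW⟩) j
      ⟨fun x _ => swap (cY x hj), fun x hx => cW j hx, fun x hx => cE hj.2 hx⟩
    have iJ : Iv A (H96.DF.J C) := (iE.inter iY.commP).congr fun s _ =>
      ⟨fun e => ⟨e.2, fun x _ => swap (cY x e)⟩,
        fun e => ⟨tz s e.1 (mem_Y.1 (e.2 g hg)).2.2, e.1⟩⟩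
    exact top [H96.DF.J C, Y C, W C, Z C] (by simpa using ⟨⟨JP, iJ⟩, ⟨YP, iY⟩, ⟨WP, iW⟩, ZP, iZ⟩) fun s =>
      ⟨fun x _ => cJ s x, fun x hx => cY s hx, fun x hx => cW s hx, fun x hx => cZ s hx,
        fun x hx => c1 s hx⟩
  push Not at hD
  obtain ⟨d, hd, dE, dW, dy⟩ := hD
  have xz0 : ∀ s ∈ P, s ∈ E C → (∀ x ∈ P, ⁅s, x⁆ ∈ W C) → ∀ x ∈ P, C.cr x.t s.y = 0 :=
    fun s _ sE sW x hx => by
      have e := (sW x hx).2.2.2
      rw [comm_x, tz s sE (sW g hg).2.2.1, mem_E.1 sE] at e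
      simpa using e
  obtain ⟨c, hc, -⟩ := C.cr_eq_zero ht (xz0 d hd dE dW g hg)
  have hc0 : c ≠ 0 := by rintro rfl; exact dy (by rw [hc, zero_smul])
  have tP : ∀ x ∈ P, ∃ k : F, x.t = k • g.t := fun x hx => by
    have e := xz0 d hd dE dW x hx
    rw [hc, Tri.cr_smul, Tri.cr_comm] at e
    obtain ⟨k, hk, -⟩ := C.cr_eq_zero ht ((smul_eq_zero.1 e).resolve_left hc0)
    exact ⟨k, hk⟩
  have J0W : ∀ j ∈ J0 C g.t, ∀ x ∈ P, ⁅j, x⁆ ∈ W C := fun j ⟨j1, j2, j3⟩ x hx => by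
    obtain ⟨k, hk⟩ := tP x hx
    simp [mem_W, comm_y, comm_x, j1, j2, hk, Tri.smul_cr, j3]
  have J0P : J0 C g.t ≤ P := fun j hj => h.chain [W C] (by simpa using ⟨WP, iW⟩) j
    ⟨J0W j hj, fun x hx => cE hj.2.1 hx⟩
  have iJ0 : Iv A (J0 C g.t) := iD.congr fun s hs =>
    ⟨fun e => ⟨e.2.1, J0W s e⟩, fun e => ⟨tz s e.1 (e.2 g hg).2.2.1, e.1, xz0 s hs e.1 e.2 g hg⟩⟩
  have crs : C.cr g.t g.t = 0 := by rw [Tri.cr_self, k2, zero_mul]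
  have hxx : ∀ x, xx C x ∈ J0 C g.t := fun x => YJ0 _ ⟨rfl, rfl, rfl⟩
  have iY1 : Iv A (Y1 C g.t) := (iJ0.inter (Iv.one.comm iJ0)).congr fun s _ =>
    ⟨fun ⟨e1, e2, e3, e4⟩ => ⟨YJ0 _ ⟨e1, e2, e3⟩, fun x _ ⟨x1, x2, x3⟩ => by
      obtain ⟨k, hk, -⟩ := C.cr_eq_zero ht x3
      refine eq_one (cQ e1 x1) ?_
      rw [comm_z_Q e1 x1, e2, x2, e3, hk, mul_smul_comm, map_smul, mul_comm s.x, e4]
      simp⟩, fun ⟨⟨e1, e2, e3⟩, e4⟩ => by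
      have hy : xy C g.t ∈ J0 C g.t := ⟨rfl, rfl, crs⟩
      have a1 : s.y = 0 := C.T_nd fun b => by
        have := congrArg U.z (e4 _ (J0P (hxx b)) (hxx b))
        rw [comm_z_Q e1 rfl, e2] at this
        simpa [xx] using this
      have := congrArg U.z (e4 _ (J0P hy) hy)
      rw [comm_z_Q e1 rfl, e2] at this
      exact ⟨e1, e2, a1, by simpa [xy, mul_comm] using this⟩⟩
  have Y1P : Y1 C g.t ≤ P := fun s ⟨e1, e2, e3, _⟩ => YP ⟨e1, e2, e3⟩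
  have JP : H96.DF.J C ≤ P := fun j hj => h.chain [J0 C g.t, Z C] (by simpa using ⟨⟨J0P, iJ0⟩, ZP, iZ⟩) j
    ⟨fun x _ => YJ0 _ (swap (cY x hj)), fun x hx => cQ hj.1 hx.1, fun x hx => c1 j hx⟩
  have iQ : Iv A (Q C) := (iZ.comm iJ0).congr fun s _ =>
    ⟨fun e x _ hx => cQ e hx.1, fun e => C.T_nd fun b => by
      have := (e _ (J0P (hxx b)) (hxx b)).2.2.2.2
      rw [comm_a] at this
      simpa [xx] using this⟩
  have iJ : Iv A (H96.DF.J C) := iQ.inter iE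
  refine top [H96.DF.J C, J0 C g.t, Y1 C g.t, W C, Z C]
    (by simpa using ⟨⟨JP, iJ⟩, ⟨J0P, iJ0⟩, ⟨Y1P, iY1⟩, ⟨WP, iW⟩, ZP, iZ⟩) fun s =>
    ⟨fun x _ => cJ s x, fun x hx => YJ0 _ (cY s hx), fun x ⟨x1, x2, x3⟩ => ?_,
      fun x ⟨x1, x2, x3, _⟩ => cW s ⟨x1, x2, x3⟩, fun x hx => cZ s hx, fun x hx => c1 s hx⟩
  obtain ⟨a, b, e⟩ := mem_Y.1 (cY s (show x ∈ H96.DF.J C from ⟨x1, x2⟩))
  refine ⟨a, b, e, ?_⟩
  rw [comm_x, x1, x2]
  simp only [Tri.zero_cr, sub_zero, zero_smul, add_zero, Tri.sh_zero, smul_zero]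
  rw [Tri.cr_comm, Tri.T_cr, x3, zero_mul, map_zero]

end Cfsg.Agent.H39.D4Mt
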