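import Mathlib
import Cfsg.Agent.H63.Defs
import Cfsg.Agent.H40.Collect

/-!
# An involution acting freely on the layers of a filtration

Type free lemmas: cocycles are coboundaries, and the order of the centralizer is at most the square
root of the order of the group.
-/

set_option autoImplicit false
set_option linter.style.haveILetI false

namespace Cfsg.Agent.H39.FL

open Cfsg Cfsg.Agent.H63 Cfsg.Agent.H40 Subgroup
open scoped commutatorElement

universe u

section Count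

variable {V : Type u} [Group V] [Finite V]

theorem relIndex_sq_le (W : Subgroup V) [W.Normal] (θ : V →* V) (hθ : ∀ w ∈ W, θ w ∈ W)
    (hc : ∀ a b : V, ⁅a, b⁆ ∈ W) (hs : ∀ a : V, a * a ∈ W)
    (h90 : ∀ u, u * θ u ∈ W → ∃ v, v * u * (θ v)⁻¹ ∈ W) (A : Subgroup V)
    (hA : ∀ a ∈ A, θ a = a) : W.relIndex A ^ 2 ≤ W.index := by
  letI : CommGroup (V ⧸ W) :=
    { (inferInstance : Group (V ⧸ W)) with
      mul_comm := fun a b => by
        obtain ⟨a, rfl⟩ := QuotientGroup.mk_surjective a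
        obtain ⟨b, rfl⟩ := QuotientGroup.mk_surjective b
        rw [← QuotientGroup.mk_mul, ← QuotientGroup.mk_mul, QuotientGroup.eq]
        have := hc b⁻¹ a⁻¹
        rw [commutatorElement_def] at this
        convert this using 1; group }
  let m : V →* V ⧸ W := QuotientGroup.mk' W
  have hm : ∀ g, m g = 1 ↔ g ∈ W := fun g => QuotientGroup.eq_one_iff g
  have hk : m.ker = W := QuotientGroup.ker_mk' W
  let f : V →* V ⧸ W := m * m.comp θ
  have hf : ∀ g, f g = m (g * θ g) := fun g => by simp [f]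
  have hWK : W ≤ f.ker := fun w hw => by
    rw [MonoidHom.mem_ker, hf, hm]; exact mul_mem hw (hθ w hw)
  have hAK : A ≤ f.ker := fun a ha => by
    rw [MonoidHom.mem_ker, hf, hm, hA a ha]; exact hs a
  have h1 : W.relIndex A ≤ W.relIndex f.ker :=
    relIndex_le_of_le_right hAK index_ne_zero_of_finite
  have h2 : W.relIndex f.ker ≤ f.ker.index := by
    have e := relIndex_ker (K := f.ker) m
    rw [hk] at e
    rw [index_ker, e]
    refine card_le_of_le ?_
    rintro _ ⟨u, hu, rfl⟩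
    rw [SetLike.mem_coe, MonoidHom.mem_ker, hf, hm] at hu
    obtain ⟨v, hv⟩ := h90 u hu
    refine ⟨v, ?_⟩
    rw [← hm, map_mul, map_mul, map_inv, mul_inv_eq_one] at hv
    have h3 : m v * m v = 1 := by rw [← map_mul, hm]; exact hs v
    rw [hf, map_mul, ← hv, ← mul_assoc, h3, one_mul]
  calc W.relIndex A ^ 2 ≤ W.relIndex f.ker * W.relIndex f.ker := by
        rw [sq]; exact Nat.mul_le_mul h1 h1
    _ ≤ W.relIndex f.ker * f.ker.index := Nat.mul_le_mul_left _ h2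
    _ = W.index := relIndex_mul_index hWK

end Count

variable {G : Type u} [Group G]

theorem relIndex_mul_card_inf (W M : Subgroup G) :
    W.relIndex M * Nat.card ↥(W ⊓ M) = Nat.card M := by
  rw [← inf_relIndex_right, relIndex, ← Nat.card_congr (subgroupOfEquivOfLe inf_le_right).toEquiv]
  exact index_mul_card _

/-- Conjugation by a normalizing element. -/
def cjOn (d : G) (M : Subgroup G) (h : d ∈ N[M]) : M →* M where
  toFun a := ⟨d * a * d⁻¹, conj_mem_of_mem_normalizer h a.2⟩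
  map_one' := Subtype.ext (by simp)
  map_mul' a b := Subtype.ext (by simp only [coe_mul]; group)

/-- `d` acts freely on the elementary abelian section `M / W`. -/
structure Lay (d : G) (M W : Subgroup G) : Prop where
  le : W ≤ M
  nM : d ∈ N[M]
  nW : d ∈ N[W]
  com : ∀ a ∈ M, ∀ b ∈ M, ⁅a, b⁆ ∈ W
  sq : ∀ a ∈ M, a * a ∈ W
  h90 : ∀ u ∈ M, u * (d * u * d⁻¹) ∈ W → ∃ v ∈ M, v * u * (d * v * d⁻¹)⁻¹ ∈ W

theorem Lay.card [Finite G] {d : G} {M W : Subgroup G} (h : Lay d M W) :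
    Nat.card ↥(M ⊓ C1[d]) ^ 2 * Nat.card W ≤ Nat.card ↥(W ⊓ C1[d]) ^ 2 * Nat.card M := by
  haveI : (W.subgroupOf M).Normal := ⟨fun w hw g => by
    have := mul_mem (h.com g g.2 w (h.le hw)) (mem_subgroupOf.1 hw)
    rw [mem_subgroupOf]
    convert this using 1
    simp only [coe_mul, coe_inv, commutatorElement_def]; group⟩
  have h1 := relIndex_sq_le (W.subgroupOf M) (cjOn d M h.nM)
    (fun w hw => conj_mem_of_mem_normalizer h.nW hw) (fun a b => h.com a a.2 b b.2)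
    (fun a => h.sq a a.2)
    (fun u hu => by
      obtain ⟨v, hv, e⟩ := h.h90 u u.2 hu
      exact ⟨⟨v, hv⟩, e⟩)
    ((M ⊓ C1[d]).subgroupOf M)
    (fun a ha => Subtype.ext (by
      have := mem_centralizer_singleton_iff.1 (mem_subgroupOf.1 ha).2
      show d * a * d⁻¹ = a
      rw [← this]; group))
  rw [relIndex_subgroupOf inf_le_left] at h1
  have h2 := relIndex_mul_card_inf W (M ⊓ C1[d])
  rw [← inf_assoc, inf_eq_left.2 h.le] at h2
  have h3 := relIndex_mul_card_inf W M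
  rw [inf_eq_left.2 h.le] at h3
  rw [← h2, ← h3, mul_pow]
  have h4 : W.relIndex (M ⊓ C1[d]) ^ 2 ≤ W.relIndex M := h1
  calc _ = Nat.card ↥(W ⊓ C1[d]) ^ 2 * (W.relIndex (M ⊓ C1[d]) ^ 2 * Nat.card W) := by ring
    _ ≤ _ := Nat.mul_le_mul_left _ (Nat.mul_le_mul_right _ h4)

theorem chain_card [Finite G] {d : G} {V : ℕ → Subgroup G} {n : ℕ} (h0 : V n = ⊥)
    (h : ∀ i < n, Lay d (V i) (V (i + 1))) : Nat.card ↥(V 0 ⊓ C1[d]) ^ 2 ≤ Nat.card (V 0) := by
  have key : ∀ j, j ≤ n → Nat.card ↥(V (n - j) ⊓ C1[d]) ^ 2 ≤ Nat.card (V (n - j)) := by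
    intro j
    induction j with
    | zero => intro _; simp [h0]
    | succ j ih =>
      intro hj
      have h1 := (h (n - (j + 1)) (by omega)).card
      have e : n - (j + 1) + 1 = n - j := by omega
      rw [e] at h1
      have h2 := h1.trans (Nat.mul_le_mul_right _ (ih (by omega)))
      rw [mul_comm (Nat.card (V (n - j)))] at h2
      exact Nat.le_of_mul_le_mul_right h2 Nat.card_pos
  simpa using key n le_rfl

theorem chain_conj {d : G} {V : ℕ → Subgroup G} {n : ℕ} (h0 : V n = ⊥)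
    (h : ∀ i < n, Lay d (V i) (V (i + 1))) (hd : d * d ∈ C[V 0]) {u : G} (hu : u ∈ V 0)
    (e : u * (d * u * d⁻¹) = 1) : ∃ v ∈ V 0, v * (u * d) * v⁻¹ = d := by
  have key : ∀ j, j ≤ n → V j ≤ V 0 ∧ ∃ v ∈ V 0, v * u * (d * v * d⁻¹)⁻¹ ∈ V j := by
    intro j
    induction j with
    | zero => intro _; exact ⟨le_rfl, 1, one_mem _, by simpa using hu⟩
    | succ j ih =>
      intro hj
      obtain ⟨hle, v, hv, hm⟩ := ih (by omega)
      have hl := h j (by omega)
      refine ⟨hl.le.trans hle, ?_⟩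
      have hc : v * (d * d) = d * d * v := mem_centralizer_iff.1 hd v hv
      have e1 : v * u * (d * v * d⁻¹)⁻¹ * (d * (v * u * (d * v * d⁻¹)⁻¹) * d⁻¹) = 1 := by
        calc _ = v * (u * (d * u * d⁻¹)) * (d * d * v⁻¹ * (d * d)⁻¹) := by group
          _ = 1 := by
            rw [e, mul_one]
            calc _ = v * (d * d) * v⁻¹ * (d * d)⁻¹ := by group
              _ = 1 := by rw [hc]; group
      obtain ⟨v', hv', hm'⟩ := hl.h90 _ hm (by rw [e1]; exact one_mem _)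
      refine ⟨v' * v, mul_mem (hle hv') hv, ?_⟩
      convert hm' using 1; group
  obtain ⟨-, v, hv, hm⟩ := key n le_rfl
  rw [h0, mem_bot] at hm
  refine ⟨v, hv, ?_⟩
  calc _ = v * u * (d * v * d⁻¹)⁻¹ * d := by group
    _ = d := by rw [hm, one_mul]

/-- Computation modulo a subgroup inside its normalizer. -/
theorem exists_mod (W : Subgroup G) : ∃ (Q : Type u) (_ : Group Q) (κ : G → Q),
    (∀ a ∈ N[W], ∀ b ∈ N[W], κ (a * b) = κ a * κ b) ∧ (∀ a ∈ N[W], κ a⁻¹ = (κ a)⁻¹) ∧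
      ∀ a ∈ N[W], κ a = 1 ↔ a ∈ W := by
  classical
  refine ⟨N[W] ⧸ W.subgroupOf N[W], inferInstance,
    fun g => if h : g ∈ N[W] then QuotientGroup.mk ⟨g, h⟩ else 1, fun a ha b hb => ?_,
    fun a ha => ?_, fun a ha => ?_⟩
  · simp only [dif_pos ha, dif_pos hb, dif_pos (mul_mem ha hb)]
    rfl
  · simp only [dif_pos ha, dif_pos (inv_mem ha)]
    rfl
  · simp only [dif_pos ha]
    rw [QuotientGroup.eq_one_iff, mem_subgroupOf]

theorem lay_of {A : Type*} [AddCommGroup A] {d : G} {M W : Subgroup G} (p : A → G) (s : A → A)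
    (hle : W ≤ M) (hM : M ≤ N[W]) (nM : d ∈ N[M]) (nW : d ∈ N[W]) (two : ∀ a : A, a + a = 0)
    (mem : ∀ a, p a ∈ M) (add : ∀ a b, (p (a + b))⁻¹ * (p a * p b) ∈ W)
    (sur : ∀ u ∈ M, ∃ a, (p a)⁻¹ * u ∈ W) (inj : ∀ a, p a ∈ W → a = 0)
    (act : ∀ a, (p (s a))⁻¹ * (d * p a * d⁻¹) ∈ W) (h : ∀ a, a + s a = 0 → ∃ e, e + a = s e) :
    Lay d M W := by
  obtain ⟨Q, _, κ, km, ki, k1⟩ := exists_mod W
  have kq : ∀ a ∈ N[W], ∀ b ∈ N[W], a⁻¹ * b ∈ W → κ b = κ a := fun a ha b hb e => by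
    rw [← k1 _ (mul_mem (inv_mem ha) hb), km _ (inv_mem ha) _ hb, ki _ ha, inv_mul_eq_one] at e
    exact e.symm
  have pN : ∀ a, p a ∈ N[W] := fun a => hM (mem a)
  have kadd : ∀ a b, κ (p a) * κ (p b) = κ (p (a + b)) := fun a b => by
    rw [← km _ (pN a) _ (pN b)]
    exact kq _ (pN _) _ (mul_mem (pN a) (pN b)) (add a b)
  have k0 : κ (p 0) = 1 := by
    have := kadd 0 0
    rwa [add_zero, mul_eq_left] at this
  have ksur : ∀ u ∈ M, ∃ a, κ u = κ (p a) := fun u hu => by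
    obtain ⟨a, ha⟩ := sur u hu
    exact ⟨a, kq _ (pN a) _ (hM hu) ha⟩
  have cN : ∀ u ∈ N[W], d * u * d⁻¹ ∈ N[W] := fun u hu => mul_mem (mul_mem nW hu) (inv_mem nW)
  have kc : ∀ u ∈ N[W], κ (d * u * d⁻¹) = κ d * κ u * (κ d)⁻¹ := fun u hu => by
    rw [km _ (mul_mem nW hu) _ (inv_mem nW), km _ nW _ hu, ki _ nW]
  have kact : ∀ a, κ d * κ (p a) * (κ d)⁻¹ = κ (p (s a)) := fun a => by
    rw [← kc _ (pN a)]
    exact kq _ (pN _) _ (cN _ (pN a)) (act a)
  refine ⟨hle, nM, nW, fun a ha b hb => ?_, fun a ha => ?_, fun u hu e => ?_⟩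
  · obtain ⟨a', ea⟩ := ksur a ha
    obtain ⟨b', eb⟩ := ksur b hb
    have ha := hM ha
    have hb := hM hb
    have e : ⁅a, b⁆ = a * b * (b * a)⁻¹ := by rw [commutatorElement_def]; group
    rw [e, ← k1 _ (mul_mem (mul_mem ha hb) (inv_mem (mul_mem hb ha))),
      km _ (mul_mem ha hb) _ (inv_mem (mul_mem hb ha)), ki _ (mul_mem hb ha), km _ ha _ hb,
      km _ hb _ ha, ea, eb, kadd, kadd, add_comm, mul_inv_cancel]
  · obtain ⟨a', ea⟩ := ksur a ha
    have ha := hM ha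
    rw [← k1 _ (mul_mem ha ha), km _ ha _ ha, ea, kadd, two, k0]
  · obtain ⟨a, ea⟩ := ksur u hu
    have hu := hM hu
    rw [← k1 _ (mul_mem hu (cN _ hu)), km _ hu _ (cN _ hu), kc _ hu, ea, kact, kadd,
      k1 _ (pN _)] at e
    obtain ⟨c, hc⟩ := h a (inj _ e)
    refine ⟨p c, mem c, ?_⟩
    rw [← k1 _ (mul_mem (mul_mem (pN c) hu) (inv_mem (cN _ (pN c)))),
      km _ (mul_mem (pN c) hu) _ (inv_mem (cN _ (pN c))), ki _ (cN _ (pN c)), km _ (pN c) _ hu,
      kc _ (pN c), ea, kact, kadd, hc, mul_inv_cancel]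

/-- An involution acting on an elementary abelian group has a large centralizer. -/
theorem card_le_sq [Finite G] {r : G} {E : Subgroup G} (hr : r ∈ N[E]) (h2 : r * r ∈ C[E])
    (hE : ∀ e ∈ E, e * e = 1) : Nat.card E ≤ Nat.card ↥(E ⊓ C1[r]) ^ 2 := by
  have hi : ∀ e : E, e⁻¹ = e := fun e => inv_eq_of_mul_eq_one_right (Subtype.ext (hE e e.2))
  letI : CommGroup E :=
    { (inferInstance : Group E) with
      mul_comm := fun a b => by rw [← hi (a * b), mul_inv_rev, hi, hi] }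
  let θ := cjOn r E hr
  let f : E →* E := MonoidHom.id E * θ
  have hf : ∀ e, f e = e * θ e := fun e => rfl
  have hθ : ∀ e, θ (θ e) = e := fun e => Subtype.ext (by
    have := mem_centralizer_iff.1 h2 e e.2
    show r * (r * e * r⁻¹) * r⁻¹ = e
    calc _ = r * r * e * (r * r)⁻¹ := by group
      _ = e := by rw [← this]; group)
  have hC : ∀ e, θ e = e → e ∈ (E ⊓ C1[r]).subgroupOf E := fun e he => by
    refine ⟨e.2, mem_centralizer_singleton_iff.2 ?_⟩
    have : r * e * r⁻¹ = e := congrArg Subtype.val he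
    show (e : G) * r = r * e
    conv_lhs => rw [← this]
    group
  have h1 : f.ker ≤ (E ⊓ C1[r]).subgroupOf E := fun e he => hC e (by
    rw [MonoidHom.mem_ker, hf, mul_eq_one_iff_inv_eq, hi] at he
    exact he.symm)
  have h3 : f.range ≤ (E ⊓ C1[r]).subgroupOf E := by
    rintro _ ⟨e, rfl⟩
    exact hC _ (by rw [hf, map_mul, hθ, mul_comm])
  have h4 := f.ker.card_mul_index
  rw [index_ker] at h4
  rw [← h4, sq, ← Nat.card_congr (subgroupOfEquivOfLe (inf_le_left : E ⊓ C1[r] ≤ E)).toEquiv]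
  exact Nat.mul_le_mul (card_le_of_le h1) (card_le_of_le h3)

/-- The `2`-part of an element whose square lies in `K`. -/
theorem exists_two_part [Finite G] {K : Subgroup G} {r : G} (h : r * r ∈ K) :
    ∃ k ∈ K, ∃ m : ℕ, r = k * r ^ m ∧ IsPGroup 2 (zpowers (r ^ m)) := by
  obtain ⟨a, m, hm, e⟩ := Nat.exists_eq_two_pow_mul_odd (orderOf_pos r).ne'
  obtain ⟨j, rfl⟩ := hm
  refine ⟨((r * r) ^ j)⁻¹, inv_mem (pow_mem h j), 2 * j + 1, by rw [← sq, ← pow_mul]; group, ?_⟩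
  have : orderOf (r ^ (2 * j + 1)) ∣ 2 ^ a := by
    rw [orderOf_dvd_iff_pow_eq_one, ← pow_mul, mul_comm, ← e, pow_orderOf_eq_one]
  obtain ⟨b, -, hb⟩ := (Nat.dvd_prime_pow Nat.prime_two).1 this
  exact IsPGroup.of_card (n := b) (by rw [Nat.card_zpowers, hb])

theorem eq_one_of_odd [Finite G] {U : Subgroup G} (hU : IsPGroup 2 U) {u : G} (hu : u ∈ U)
    (h : Odd (orderOf u)) : u = 1 := by
  haveI : Fact (Nat.Prime 2) := ⟨Nat.prime_two⟩
  obtain ⟨k, hk⟩ := hU ⟨u, hu⟩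
  have h1 : orderOf u ∣ 2 ^ k := orderOf_dvd_iff_pow_eq_one.2 (congrArg Subtype.val hk)
  rw [← orderOf_eq_one_iff]
  exact Nat.Coprime.eq_one_of_dvd ((Nat.coprime_two_right.2 h).pow_right k) h1

/-- An element of odd order inverted by `d` modulo `K`. -/
theorem conj_of_odd {K : Subgroup G} {h d : G} (ho : Odd (orderOf h)) (hK : h ∈ C[K])
    (e : h * (d * h * d⁻¹) ∈ K) : ∃ m : ℕ, h ^ m * (h * d) * (h ^ m)⁻¹ * d⁻¹ ∈ K := by
  obtain ⟨m, hm⟩ := ho
  refine ⟨m, ?_⟩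
  have c : Commute (h * (d * h * d⁻¹)) h := mem_centralizer_iff.1 hK _ e
  have e1 : d * h * d⁻¹ = h⁻¹ * (h * (d * h * d⁻¹)) := by group
  have e2 : d * h ^ m * d⁻¹ = (h ^ m)⁻¹ * (h * (d * h * d⁻¹)) ^ m := by
    rw [← conj_pow, ← inv_pow, ← c.symm.inv_left.mul_pow, ← e1]
  have e3 : h ^ m * h * h ^ m = 1 := by
    rw [← pow_orderOf_eq_one h, hm]; group
  have e4 : h ^ m * (h * d) * (h ^ m)⁻¹ * d⁻¹ = h ^ m * h * (d * h ^ m * d⁻¹)⁻¹ := by group
  have c' : Commute ((h * (d * h * d⁻¹)) ^ m)⁻¹ (h ^ m) := (c.pow_pow m m).inv_left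
  rw [e4, e2, mul_inv_rev, inv_inv, c'.eq, ← mul_assoc, e3, one_mul]
  exact inv_mem (pow_mem e m)

/-- Transport of a subgroup of a centralizer. -/
theorem cj_inv_le {L P : Subgroup G} {l r : G} (hl : l ∈ L) (h : P ≤ L ⊓ C1[l * r * l⁻¹]) :
    cj l⁻¹ P ≤ L ⊓ C1[r] := by
  rintro _ ⟨g, hg, rfl⟩
  refine ⟨L.mul_mem (L.mul_mem (L.inv_mem hl) (h hg).1) (L.inv_mem (L.inv_mem hl)),
    mem_centralizer_singleton_iff.2 ?_⟩
  have := mem_centralizer_singleton_iff.1 (h hg).2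
  show l⁻¹ * g * l⁻¹⁻¹ * r = r * (l⁻¹ * g * l⁻¹⁻¹)
  calc _ = l⁻¹ * (g * (l * r * l⁻¹)) * l := by group
    _ = _ := by rw [this]; group

theorem card_cj (g : G) (P : Subgroup G) : Nat.card (cj g P) = Nat.card P :=
  (Nat.card_congr (P.equivMapOfInjective _ (MulAut.conj g).injective).toEquiv).symm

end Cfsg.Agent.H39.FL
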