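import Cfsg.Agent.H39.FPB
import Cfsg.Agent.H85.FPPa
import Cfsg.Agent.H53.FMDefs

/-!
# Project FPM: the final contradictions of the local analysis
-/

set_option autoImplicit false
set_option linter.unusedSectionVars false

namespace Cfsg.Agent.H39.FMFin

open Subgroup Cfsg Cfsg.Agent.H83 Cfsg.Agent.H53.OC Cfsg.Agent.H39.FPB
open scoped commutatorElement

universe u

variable {Γ : Type u} [Group Γ] [Finite Γ]

theorem finA : H53.FM.FinAStmt.{u} := by
  intro Γ _ _ G B S E U u x t hB hG hS h0 h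
  have o := locA Γ G S E U (S ⊔ B) u x t h le_sup_left (sup_le le_normalizer hS)
    (sup_le (h.SG.trans le_normalizer) hG)
  obtain ⟨h1, s, -, -, -, s4, s5⟩ := FPK.pa Γ S _ U u o
  have od : ∀ a ∈ B, Odd (orderOf a) := fun a ha => hB.of_dvd_nat (orderOf_dvd_natCard _ ha)
  have xU : x ∈ normalizer (U : Set Γ) := norm_of_comm le_rfl fun a ha => h.xE a (h.UE ha)
  have xR : x ∈ resOf 2 G := mem_resOf h.xG (Nat.coprime_two_right.2 h.xo)
  have UR : U ≤ resOf 2 G := fun v hv => by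
    by_cases v1 : v = 1
    · rw [v1]; exact one_mem _
    have m : ⁅u, x⁆ ∈ resOf 2 G := by
      rw [commutatorElement_def, mul_assoc _ _ x⁻¹, ← mul_assoc]
      exact mul_mem (conj_mem (le_norm_resOf G) (h.SG (o.le o.mem)) xR) (inv_mem xR)
    obtain ⟨k, hk, rfl⟩ := four_orb o.card o.el h.xo xU h.xU (h.xE u (h.UE o.mem)) (fun e =>
      o.ne (four_fpf o.card o.el h.xo xU h.xU o.mem (mul_inv_eq_iff_eq_mul.2
        (commutatorElement_eq_one_iff_mul_comm.1 e).symm))) hv v1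
    exact mul_mem (mul_mem (zpowers_le.2 xR hk) m) (inv_mem (zpowers_le.2 xR hk))
  have c0 : U ≤ centralizer ((B ⊓ normalizer (U : Set Γ) : Subgroup Γ) : Set Γ) := by
    refine le_centralizer_iff.1 fun a ha => by_contra fun k => ?_
    obtain ⟨g, hg, nc⟩ := o.nc
    refine nc (le_centralizer_iff.1 fun v hv => ?_)
    by_cases v1 : v = 1
    · rw [v1]; exact one_mem _
    obtain ⟨k, hk, rfl⟩ := four_orb o.card o.el (od a ha.1) ha.2 k o.mem o.ne hv v1
    rw [← cj_centralizer, mem_cj]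
    convert o.cen _ (mul_mem (inv_mem hg) (mem_sup_right (zpowers_le.2 ha.1 hk))) using 1
    group
  obtain ⟨f, hf⟩ := H53.OpK.exists_norm (A := B) (B := B ⊓ normalizer (U : Set Γ)) (D := U)
    (S := S ⊓ resOf 2 G) (le_inf o.le UR) (le_norm_inf hS (norm_resOf hG))
    fun a ha _ => le_centralizer_iff.1 (h1 a (mem_sup_right ha) (od a ha))
  refine s4 fun v hv => ?_
  have := hf (centralizer {s}) (fun a ha hn => ((s5 a (mem_sup_right ha) (od a ha)).resolve_left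
    fun e => hn ⟨ha, cj_eq_self_iff.1 e⟩) |> fun e w hw => mem_centralizer_singleton_iff.2 (e w hw))
    ⟨v, hv, c0 hv⟩
  rw [mem_bot.1 (h0.le (f ⟨v, hv, c0 hv⟩).2), mul_one, inv_mem_iff] at this
  exact mem_centralizer_singleton_iff.1 this

theorem comm_eq {Y : Subgroup Γ} {a b : ℕ} {d d' : Dt Γ} (h : Mb Y a b d) (h' : Mb Y a b d')
    (nc : ¬ d'.W ≤ centralizer (d.W : Set Γ)) : ⁅d.W, d.T₀⁆ = ⁅d.W, d'.W⁆ := by
  refine le_antisymm (commutator_le.2 fun v hv t ht => ?_)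
    (commutator_mono le_rfl (h'.WY.trans h.YT))
  obtain ⟨y, hy, e, he, rfl⟩ := (l1 h h' nc).2 t ht
  convert commutator_mem_commutator hv hy using 1
  calc _ = v * y * (e * v⁻¹) * e⁻¹ * y⁻¹ := by simp only [commutatorElement_def]; group
    _ = _ := by rw [← he.2 _ (inv_mem hv)]; simp only [commutatorElement_def]; group

theorem comm_eq' {Y : Subgroup Γ} {a b : ℕ} {d d' : Dt Γ} (h : Mb Y a b d) (h' : Mb Y a b d')
    (nc : ¬ d'.W ≤ centralizer (d.W : Set Γ)) : ⁅d'.W, d'.T₀⁆ = ⁅d.W, d.T₀⁆ := by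
  rw [comm_eq h h' nc, comm_eq h' h fun k => nc (le_centralizer_iff.1 k), commutator_comm]

theorem ea_orb {A J : Subgroup Γ} (h1 : ∀ a ∈ A, cj a J ≤ centralizer (J : Set Γ))
    (h2 : ∀ v ∈ J, v * v = 1) : IsElementaryAbelian 2 (orb A J) :=
  EA_of_le_comm (A := orb A J) (orb_le fun a ha => le_centralizer_iff.1 (orb_le fun b hb => by
    rw [← cj_centralizer, ← cj_cj_inv a (cj b J), ← cj_mul a⁻¹]
    exact cj_mono a (h1 _ (mul_mem (inv_mem ha) hb)))) (fun a => cj_le_orb a.2) fun a v hv => by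
      have := h2 _ (mem_cj.1 hv)
      rw [pow_two, ← conj_eq_one_iff (a := (a : Γ)⁻¹), ← this]; group

theorem cent_J {Y : Subgroup Γ} {a b : ℕ} {d d' : Dt Γ} (h : Mb Y a b d) (h' : Mb Y a b d')
    (nc : ¬ d'.W ≤ centralizer (d.W : Set Γ)) :
    d.T₀ ≤ centralizer ((⁅d.W, d.T₀⁆ : Subgroup Γ) : Set Γ) := fun t ht => by
  obtain ⟨y, hy, z, hz, rfl⟩ := (l1 h h' nc).2 t ht
  exact mul_mem (cent_anti ((comm_eq' h h' nc).ge.trans (comm_le_left (h'.le.trans inf_le_right)))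
    (h'.ab hy)) (cent_anti (comm_le_left (h.le.trans inf_le_right)) hz.2)

theorem cj_J (d : Dt Γ) (x : Γ) : cj x ⁅d.W, d.T₀⁆ = ⁅(d.cj x).W, (d.cj x).T₀⁆ := cj_comm ..

theorem cj_J_le {Y : Subgroup Γ} {a b : ℕ} {d d' : Dt Γ} (h : Mb Y a b d) (h' : Mb Y a b d')
    (nc : ¬ d'.W ≤ centralizer (d.W : Set Γ)) {x : Γ} (hx : x ∈ normalizer (Y : Set Γ)) :
    cj x ⁅d.W, d.T₀⁆ ≤ ⁅d.W, d.T₀⁆ ⊔ sq (d.T ⊓ centralizer (d.W : Set Γ)) := by
  have p := h.cj' hx
  have p' := h'.cj' hx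
  have YT : Y ≤ d.T := h.YT.trans (h.le.trans inf_le_left)
  by_cases k1 : (d.cj x).W ≤ centralizer (d.W : Set Γ)
  · by_cases k2 : (d'.cj x).W ≤ centralizer (d.W : Set Γ)
    · refine le_sup_of_le_right ((cj_mono x (comm_eq h h' nc).le).trans ?_)
      rw [cj_comm]
      exact commutator_le.2 fun v hv w hw => comm_mem_sq
        ⟨YT (p.WY hv), k1 hv⟩ ⟨YT (p'.WY hw), k2 hw⟩
    · have e := comm_eq' h p' k2
      rw [← cj_J, comm_eq' h h' nc] at e
      exact le_sup_of_le_left e.le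
  · have e := comm_eq' h p k1
    rw [← cj_J] at e
    exact le_sup_of_le_left e.le

theorem finB : H53.FM.FinBStmt.{u} := by
  intro Γ _ _ G A S T T₀ E U I hA sol k4 loc
  have o := loc.toLocB.toOrbB
  have hG := (pb Γ S T T₀ E U I (S ⊔ A) o le_sup_left (sup_le le_normalizer hA)).1
  have hT : ∀ a ∈ A, cj a U ≤ T₀ := fun a ha => hG a (mem_sup_right ha)
  have T₀T : T₀ ≤ T := o.le.trans inf_le_left
  by_cases k : ∀ a ∈ A, cj a U ≤ centralizer (U : Set Γ)
  · have l : orb A U ≤ T ⊓ centralizer (U : Set Γ) :=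
      orb_le fun a ha => le_inf ((hT a ha).trans T₀T) (k a ha)
    refine loc.ns _ (le_orb A U) l (sol _ (l.trans (inf_le_left.trans o.TS.le)) (fun e => ?_)
      (norm_orb A U))
    obtain ⟨v, v1, -, -, v2, -⟩ := o.q2
    exact v2 (mem_bot.1 (e ▸ le_orb A U v1) ▸ one_mem _)
  push Not at k
  obtain ⟨g, hg, nc⟩ := k
  have m := mb o hG
  have n : A ≤ normalizer (orb (S ⊔ A) U : Set Γ) := le_sup_right.trans (norm_orb _ U)
  have j1 : ⁅U, T₀⁆ ≤ U := comm_le_left (o.le.trans inf_le_right)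
  have c : T₀ ≤ centralizer ((⁅U, T₀⁆ : Subgroup Γ) : Set Γ) := cent_J m (m.cj' (n hg)) nc
  have l : orb A ⁅U, T₀⁆ ≤ ⁅U, T₀⁆ ⊔ sq (T ⊓ centralizer (U : Set Γ)) :=
    orb_le fun a ha => cj_J_le m (m.cj' (n hg)) nc (n ha)
  obtain ⟨H, h1, h2, h3⟩ := loc.tor _ (le_orb A _) l
  exact k4 _ H (orb_le fun a ha => (cj_mono a j1).trans ((hT a ha).trans (T₀T.trans o.TS.le)))
    (ea_orb (fun a ha => (cj_mono a j1).trans ((hT a ha).trans c)) fun v hv => m.el v (j1 hv))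
    (norm_orb A _) h1 h2 h3

end Cfsg.Agent.H39.FMFin
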