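import Cfsg.Agent.H85.FPDefs
import Cfsg.Agent.H1.Card
import Cfsg.Agent.H7.PBasic

/-!
# Project FPF: families of natural modules in a `2`-group
-/

set_option autoImplicit false
set_option linter.unusedSectionVars false

namespace Cfsg.Agent.H39.FPB

open Subgroup Cfsg Cfsg.Agent.H83 Cfsg.Agent.H53.OC Cfsg.Agent.H85.FP
open scoped commutatorElement

universe u

variable {Γ : Type u} [Group Γ]

local notation:max "En " S:max W:max => (S ⊓ centralizer (SetLike.coe W))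

/-- The data attached to a module. -/
structure Dt (Γ : Type u) [Group Γ] where
  W : Subgroup Γ
  T : Subgroup Γ
  T₀ : Subgroup Γ
  I : Subgroup Γ

/-- Conjugate data. -/
def Dt.cj (g : Γ) (d : Dt Γ) : Dt Γ := ⟨H83.cj g d.W, H83.cj g d.T, H83.cj g d.T₀, H83.cj g d.I⟩

/-- A member of a family of modules generating `Y`. -/
structure Mb (Y : Subgroup Γ) (a b : ℕ) (d : Dt Γ) : Prop where
  el : ∀ v ∈ d.W, v * v = 1
  ab : d.W ≤ centralizer (d.W : Set Γ)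
  WY : d.W ≤ Y
  YT : Y ≤ d.T₀
  ge : En d.T d.W ≤ d.T₀
  le : d.T₀ ≤ d.T ⊓ normalizer (d.W : Set Γ)
  ca : Nat.card d.W = a
  cb : Nat.card d.I = b
  card : Nat.card d.T₀ * b = a * Nat.card ↥(En d.T d.W)
  quad : ∀ t ∈ d.T₀, t ∉ centralizer (d.W : Set Γ) → ∀ v ∈ d.W, ⁅v, t⁆ ∈ sq (En d.T d.W) → v ∈ d.I
  ex : ∃ v ∈ d.W, v ∉ d.I

variable {Y : Subgroup Γ} {a b : ℕ} {d d' d₁ d₂ d₃ : Dt Γ}

theorem conj_comm (g x y : Γ) : g⁻¹ * ⁅x, y⁆ * g = ⁅g⁻¹ * x * g, g⁻¹ * y * g⁆ := by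
  simp only [commutatorElement_def]; group

theorem Mb.cj (h : Mb Y a b d) (g : Γ) : Mb (cj g Y) a b (d.cj g) := by
  have e : En (d.cj g).T (d.cj g).W = H83.cj g (En d.T d.W) := by
    rw [cj_inf, cj_centralizer]; rfl
  refine ⟨fun v hv => ?_, ?_, cj_mono g h.WY, cj_mono g h.YT, e ▸ cj_mono g h.ge, ?_,
    (card_cj g _).trans h.ca, (card_cj g _).trans h.cb, ?_, fun t ht ht' v hv k => ?_, ?_⟩
  · have := h.el _ (mem_cj.1 hv)
    calc v * v = g * (g⁻¹ * v * g * (g⁻¹ * v * g)) * g⁻¹ := by group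
      _ = 1 := by rw [this]; group
  · exact (cj_mono g h.ab).trans (cj_centralizer g _).le
  · exact (cj_mono g h.le).trans (by rw [cj_inf, cj_normalizer]; exact le_rfl)
  · rw [e, card_cj, ← h.card]
    exact congrArg (· * b) (card_cj g _)
  · rw [e, ← cj_sq, mem_cj, conj_comm] at k
    exact mem_cj.2 (h.quad _ (mem_cj.1 ht) (fun c => ht' ((cj_centralizer g d.W).le (mem_cj.2 c))) _
      (mem_cj.1 hv) k)
  · obtain ⟨v, h1, h2⟩ := h.ex
    exact ⟨_, conj_mem_cj h1, fun k => h2 (by simpa [mul_assoc] using mem_cj.1 k)⟩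

theorem Mb.cj' (h : Mb Y a b d) {g : Γ} (hg : g ∈ normalizer (Y : Set Γ)) : Mb Y a b (d.cj g) :=
  cj_eq_self hg ▸ h.cj g

theorem Mb.sq_le (h : Mb Y a b d) : sq (En Y d.W) ≤ sq (En d.T d.W) :=
  sq_mono (inf_le_inf_right _ (h.YT.trans (h.le.trans inf_le_left)))

theorem Mb.q (h : Mb Y a b d) {t v : Γ} (ht : t ∈ Y) (hc : t ∉ centralizer (d.W : Set Γ))
    (hv : v ∈ d.W) (k : ⁅v, t⁆ ∈ sq (En Y d.W)) : v ∈ d.I := h.quad t (h.YT ht) hc v hv (h.sq_le k)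

theorem comm_inv {x y : Γ} (hx : x * x = 1) (hy : y * y = 1) : ⁅x, y⁆ = x * y * (x * y) := by
  rw [commutatorElement_def, inv_eq_of_mul_eq_one_right hx, inv_eq_of_mul_eq_one_right hy, mul_assoc]

variable [Finite Γ]

/-- (L1) -/
theorem l1 (h : Mb Y a b d) (h' : Mb Y a b d') (nc : ¬ d'.W ≤ centralizer (d.W : Set Γ)) :
    En d'.W d.W = d'.I ∧ ∀ t ∈ d.T₀, ∃ w ∈ d'.W, ∃ c ∈ En d.T d.W, w * c = t := by
  have i1 : En d'.W d.W ≤ d'.I := fun y hy => by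
    obtain ⟨w, w1, w2⟩ := SetLike.not_le_iff_exists.1 fun k => nc (le_centralizer_iff.1 k)
    refine h'.q (h.WY w1) w2 hy.1 ?_
    rw [commutatorElement_eq_one_iff_mul_comm.2 (hy.2 w w1).symm]
    exact one_mem _
  have n : d'.W ≤ normalizer ((En d.T d.W : Subgroup Γ) : Set Γ) :=
    ((h'.WY.trans h.YT).trans h.le).trans
      (le_norm_inf (le_norm_of_le inf_le_left) (le_norm_cent inf_le_right))
  have c := H1.card_sup_mul_card_inf_of_le_normalizer n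
  have e : d'.W ⊓ En d.T d.W = En d'.W d.W := by
    rw [← inf_assoc, inf_eq_left.2 (((h'.WY.trans h.YT).trans h.le).trans inf_le_left)]
  rw [e, h'.ca, ← h.card] at c
  have l1 := card_le_of_le (sup_le (h'.WY.trans h.YT) h.ge)
  have l2 := card_le_of_le i1
  rw [h'.cb] at l2
  have p1 : 0 < Nat.card d.T₀ := Nat.card_pos
  have p2 : 0 < b := h'.cb ▸ Nat.card_pos
  refine ⟨eq_of_le_of_card_ge i1 (by rw [h'.cb]; nlinarith), fun t ht => (mem_sup_right_norm n).1 ?_⟩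
  rwa [eq_of_le_of_card_ge (sup_le (h'.WY.trans h.YT) h.ge) (by nlinarith)]

theorem dec (h : Mb Y a b d) (h' : Mb Y a b d') (nc : ¬ d'.W ≤ centralizer (d.W : Set Γ)) {y : Γ}
    (hy : y ∈ Y) : ∃ w ∈ d'.W, ∃ e ∈ En Y d.W, w * e = y := by
  obtain ⟨w, w1, c, c1, rfl⟩ := (l1 h h' nc).2 y (h.YT hy)
  exact ⟨w, w1, c, ⟨(mul_mem_cancel_left (h'.WY w1)).1 hy, c1.2⟩, rfl⟩

theorem not_cent (h : Mb Y a b d) (h' : Mb Y a b d') (nc : ¬ d'.W ≤ centralizer (d.W : Set Γ))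
    {y : Γ} (hy : y ∈ d'.W) (hI : y ∉ d'.I) : y ∉ centralizer (d.W : Set Γ) := fun k =>
  hI ((l1 h h' nc).1.le ⟨hy, k⟩)

/-- (L2) -/
theorem l2 (h : Mb Y a b d) (h' : Mb Y a b d') (nc : ¬ d'.W ≤ centralizer (d.W : Set Γ)) :
    sq (En Y d.W) ≤ sq (En Y d'.W) := by
  refine (closure_le _).2 ?_
  rintro _ ⟨e, he, rfl⟩
  obtain ⟨v, v1, e', e1, rfl⟩ := dec h' h (fun k => nc (le_centralizer_iff.1 k)) he.1
  have c : v * e' = e' * v := mul_left_cancel (a := v) (by rw [he.2 v v1, mul_assoc])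
  have : v * e' * (v * e') = e' * e' := by
    calc _ = v * (e' * v) * e' := by group
      _ = v * v * (e' * e') := by rw [← c]; group
      _ = _ := by rw [h.el v v1, one_mul]
  rw [this]
  exact sq_mem e1

/-- (L3): no triangles. -/
theorem l3 (h₁ : Mb Y a b d₁) (h₂ : Mb Y a b d₂) (h₃ : Mb Y a b d₃)
    (n₂ : ¬ d₂.W ≤ centralizer (d₁.W : Set Γ)) (n₃ : ¬ d₃.W ≤ centralizer (d₁.W : Set Γ)) :
    d₃.W ≤ centralizer (d₂.W : Set Γ) := by
  by_contra n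
  obtain ⟨y, y1, y2⟩ := h₂.ex
  obtain ⟨z, z1, e, e1, rfl⟩ := dec h₁ h₃ n₃ (h₂.WY y1)
  refine y2 (h₂.q (h₃.WY z1) (fun k => ?_) y1 (l2 h₁ h₂ n₂ ?_))
  · have := ((l1 h₁ h₃ n₃).1.ge ((l1 h₂ h₃ n).1.le ⟨z1, k⟩)).2
    exact not_cent h₁ h₂ n₂ y1 y2 (mul_mem this e1.2)
  · rw [comm_inv (h₂.el _ y1) (h₃.el _ z1), show z * e * z = e⁻¹ by
      rw [eq_inv_iff_mul_eq_one, mul_assoc, h₂.el _ y1]]
    exact sq_mem (inv_mem e1)

theorem l3_le (h₁ : Mb Y a b d₁) (h₂ : Mb Y a b d₂) (h₃ : Mb Y a b d₃)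
    (n₂ : ¬ d₂.W ≤ centralizer (d₁.W : Set Γ)) (n₃ : ¬ d₃.W ≤ centralizer (d₁.W : Set Γ)) :
    En Y d₂.W ≤ En Y d₃.W := fun x hx => by
  refine ⟨hx.1, ?_⟩
  by_contra k
  obtain ⟨w, w1, w2⟩ := h₃.ex
  exact w2 (h₃.q hx.1 k w1 (l2 h₁ h₃ n₃ (l2 h₂ h₁ (fun k => n₂ (le_centralizer_iff.1 k))
    (comm_mem_sq ⟨h₃.WY w1, l3 h₁ h₂ h₃ n₂ n₃ w1⟩ hx))))

/-- (L3): two neighbours of a member have the same centralizer. -/
theorem l3_eq (h₁ : Mb Y a b d₁) (h₂ : Mb Y a b d₂) (h₃ : Mb Y a b d₃)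
    (n₂ : ¬ d₂.W ≤ centralizer (d₁.W : Set Γ)) (n₃ : ¬ d₃.W ≤ centralizer (d₁.W : Set Γ)) :
    En Y d₂.W = En Y d₃.W := le_antisymm (l3_le h₁ h₂ h₃ n₂ n₃) (l3_le h₁ h₃ h₂ n₃ n₂)

theorem cj_En {g : Γ} (hg : g ∈ normalizer (Y : Set Γ)) (W : Subgroup Γ) :
    cj g (En Y W) = En Y (cj g W) := by rw [cj_inf, cj_eq_self hg, cj_centralizer]

/-- (L5) -/
theorem l5 (h : Mb Y a b d) (h₁ : Mb Y a b d₁) (nc : ¬ d₁.W ≤ centralizer (d.W : Set Γ)) {y n : Γ}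
    (hy : y ∈ normalizer (Y : Set Γ)) (hn : n ∈ d.T₀) (hn' : n ∉ centralizer (d.W : Set Γ))
    (hc : ∀ v ∈ d.W, y * ⁅v, n⁆ = ⁅v, n⁆ * y) (k : cj y d.W ≤ centralizer (d.W : Set Γ)) :
    y ∈ normalizer ((En Y d.W : Subgroup Γ) : Set Γ) := by
  have h' := h.cj' hy
  by_cases k₁ : cj y d.W ≤ centralizer (d₁.W : Set Γ)
  · exfalso
    obtain ⟨v, v1, v2⟩ := h.ex
    obtain ⟨w, w1, c, c1, rfl⟩ := (l1 h h₁ nc).2 n hn
    have e : ⁅v, w * c⁆ = ⁅v, w⁆ := by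
      calc _ = v * w * (c * v⁻¹) * c⁻¹ * w⁻¹ := by simp only [commutatorElement_def]; group
        _ = _ := by rw [← c1.2 _ (inv_mem v1)]; simp only [commutatorElement_def]; group
    have m : ⁅v, w * c⁆ ∈ sq (En Y (cj y d.W)) := e ▸ comm_mem_sq
      ⟨h.WY v1, le_centralizer_iff.1 k v1⟩ ⟨h₁.WY w1, le_centralizer_iff.1 k₁ w1⟩
    rw [← cj_En hy, ← cj_sq, mem_cj, mul_assoc, ← hc v v1, inv_mul_cancel_left] at m
    exact v2 (h.quad _ hn hn' v v1 (h.sq_le m))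
  · rw [← cj_eq_self_iff, cj_En hy]
    exact l3_eq h₁ h' h k₁ fun k => nc (le_centralizer_iff.1 k)

/-- The commutator computation of the step. -/
theorem ncomm (h : Mb Y a b d) {y v : Γ} (hy : y ∈ normalizer (Y : Set Γ)) (hy2 : y * y = 1)
    (nc : ¬ cj y d.W ≤ centralizer (d.W : Set Γ)) (v1 : v ∈ d.W) (v2 : v ∉ d.I) :
    v * y * v⁻¹ * y ≠ y * (v * y * v⁻¹) := fun e => by
  have h' := h.cj' hy
  have m : y * v * y⁻¹ ∈ (d.cj y).W := conj_mem_cj v1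
  refine v2 (h.q (h'.WY m) (not_cent h h' nc m fun k => v2 ?_) v1 ?_)
  · simpa [mul_assoc] using mem_cj.1 k
  · have i : y⁻¹ = y := inv_eq_of_mul_eq_one_right hy2
    have j : v⁻¹ = v := inv_eq_of_mul_eq_one_right (h.el v v1)
    rw [j] at e
    have : ⁅v, y * v * y⁻¹⁆ = 1 := by
      rw [comm_inv (h.el v v1) (h'.el _ m), i]
      calc _ = (v * y * v * y) * (v * y * v * y) := by group
        _ = v * y * v * (y * y) * v * y * v := by conv_lhs => enter [2]; rw [e]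
                                                  group
        _ = v * y * (v * v) * y * v := by rw [hy2]; group
        _ = v * (y * y) * v := by rw [h.el v v1]; group
        _ = 1 := by rw [hy2, mul_one, h.el v v1]
    rw [this]
    exact one_mem _

section Orb

variable {S T T₀ E U I L R : Subgroup Γ} (o : OrbB S T T₀ E U I)
include o

omit [Finite Γ] in
theorem U_le_E : U ≤ E := o.UV.trans (OZ_le E)

omit [Finite Γ] in
theorem orbT_le : orb T U ≤ OZ 2 E := orb_le fun _ hg => cj_le_of_norm o.UV (norm_OZ o.TE hg)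

theorem cent_le : En S (orb T U) ≤ E := fun s hs => o.cT s
  (o.m1 _ (le_orb T U) ((orbT_le o).trans (OZ_le E)) (norm_orb T U)
    ⟨hs.1, centralizer_le_normalizer _ hs.2⟩) fun _ hg => cent_anti (cj_le_orb hg) hs.2

theorem mb (hG : ∀ r ∈ R, cj r U ≤ T₀) :
    Mb (orb R U) (Nat.card U) (Nat.card I) ⟨U, T, T₀, I⟩ :=
  ⟨fun v hv => by rw [← pow_two]; exact (EA_OZ E).2 v (o.UV hv),
    o.UV.trans ((OZ_le_cent E).trans (cent_anti (U_le_E o))), le_orb R U, orb_le hG, o.ge, o.le, rfl,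
    rfl, o.card, o.quad, by obtain ⟨v, h1, -, -, h2, -⟩ := o.q2; exact ⟨v, h1, h2⟩⟩

/-- Step (0). -/
theorem exists_n (hSL : S ≤ L) (hLS : L ≤ normalizer (S : Set Γ)) :
    ∃ n ∈ T₀, n ∉ centralizer (U : Set Γ) ∧ ∀ v ∈ U, ⁅v, n⁆ ∈ centralizer (orb L U : Set Γ) := by
  have TL := o.TS.le.trans hSL
  have c1 : En S (orb L U) ≤ E := (inf_le_inf_left _ (cent_anti (orb_le fun _ hg =>
    cj_le_orb (TL hg)))).trans (cent_le o)
  have c2 : L ≤ normalizer ((En S (orb L U) : Subgroup Γ) : Set Γ) :=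
    le_norm_inf hLS (le_norm_cent (norm_orb L U))
  have US : U ≤ S := (U_le_E o).trans (o.ET.trans o.TS.le)
  obtain ⟨m, m1, m2, m3⟩ := exists_cent_mod o.two inf_le_left (hSL.trans c2)
    fun k => o.TS.not_ge (k.trans (c1.trans o.ET))
  obtain ⟨g, hg, k⟩ : ∃ g ∈ L, m ∉ centralizer (cj g U : Set Γ) := by
    by_contra! k
    exact m2 ⟨m1, le_centralizer_iff.1 (orb_le fun g hg => le_centralizer_iff.1 (zpowers_le.2 (k g hg)))
      (mem_zpowers m)⟩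
  rw [← cj_centralizer, mem_cj] at k
  have n1 : g⁻¹ * m * g ∈ S := conj_mem' hLS hg m1
  have n3 : ∀ s ∈ S, ⁅s, g⁻¹ * m * g⁆ ∈ En S (orb L U) := fun s hs => by
    have := conj_mem' c2 hg (m3 _ (conj_mem hLS hg hs))
    rwa [conj_comm, show g⁻¹ * (g * s * g⁻¹) * g = s by group] at this
  generalize g⁻¹ * m * g = n at k n1 n3
  have l : En S (orb L U) ⊔ orb T U ≤ E := sup_le c1 ((orbT_le o).trans (OZ_le E))
  have nT : n ∈ T := o.m1 _ ((le_orb T U).trans le_sup_right) l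
    (le_norm_sup (TL.trans c2) (norm_orb T U))
    ⟨n1, norm_of_comm le_sup_left fun s hs => n3 s ((l.trans (o.ET.trans o.TS.le)) hs)⟩
  by_cases hN : n ∈ normalizer (U : Set Γ)
  · exact ⟨n, o.a2 n ⟨nT, hN⟩ fun t ht => cent_anti (le_orb L U) (n3 t (o.TS.le ht)).2, k,
      fun v hv => (n3 v (US hv)).2⟩
  · obtain ⟨t, t1, t2, t3⟩ := o.a1 n nT hN
    refine ⟨t, t1, t2, fun v hv => ?_⟩
    have e : ⁅v, t⁆ = ⁅v, n⁆ * (t * ⁅v, n⁆ * t⁻¹)⁻¹ := by
      have := t3 _ (conj_mem_cj (g := n) hv)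
      calc _ = v * (n * v * n⁻¹)⁻¹ * ((n * v * n⁻¹) * t) * v⁻¹ * t⁻¹ := by
            simp only [commutatorElement_def]; group
        _ = _ := by rw [this]; simp only [commutatorElement_def]; group
    rw [e]
    exact mul_mem (n3 v (US hv)).2
      (inv_mem (conj_mem c2 (TL (o.le t1).1) (n3 v (US hv))).2)

/-- (L4) -/
theorem l4 (h1 : T < R) (h2 : R ≤ S) : ∃ r ∈ R, ¬ cj r U ≤ centralizer (U : Set Γ) := by
  by_contra! k
  have US : U ≤ R := (U_le_E o).trans (o.ET.trans h1.le)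
  refine h1.not_ge (le_trans (le_inf h2 (norm_orb R U)) (o.m1 _ (le_orb R U) (le_trans (le_inf
    ((orb_le fun _ hg => cj_le_of_mem US hg).trans h2) ?_) (cent_le o)) (h1.le.trans (norm_orb R U))))
  refine le_centralizer_iff.1 (orb_le fun t ht => ?_)
  rw [← cj_eq_self (norm_orb R U (h1.le ht)), ← cj_centralizer]
  exact cj_mono t (le_centralizer_iff.1 (orb_le k))

theorem key (hSL : S ≤ L) (hLS : L ≤ normalizer (S : Set Γ)) (h1 : T < R) (h2 : R ≤ S)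
    (hG : ∀ r ∈ R, cj r U ≤ T₀) {g y : Γ} (hg : g ∈ L) (hgR : g ∈ normalizer (R : Set Γ))
    (hy : y ∈ cj g U) : y ∈ normalizer ((En (orb R U) U : Subgroup Γ) : Set Γ) := by
  have m := mb o hG
  have UR : U ≤ R := (U_le_E o).trans (o.ET.trans h1.le)
  have yY := norm_orb R U (cj_le_of_norm UR hgR hy)
  obtain ⟨n, n1, n2, n3⟩ := exists_n o hSL hLS
  obtain ⟨r, r1, r2⟩ := l4 o h1 h2
  by_cases k : cj y U ≤ centralizer (U : Set Γ)
  · exact l5 m (m.cj' (norm_orb R U r1)) r2 yY n1 n2 (fun v hv => n3 v hv y (cj_le_orb hg hy)) k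
  exfalso
  have m' := m.cj g
  have nY : R ≤ normalizer ((cj g (orb R U) : Subgroup Γ) : Set Γ) := by
    rw [← cj_normalizer]
    exact (cj_eq_self hgR).ge.trans (cj_mono g (norm_orb R U))
  have nc : ∀ v ∈ U, v ∉ I → ¬ cj v (cj g U) ≤ centralizer (cj g U : Set Γ) := fun v v1 v2 c =>
    ncomm m yY (m'.el y hy) k v1 v2 (c (conj_mem_cj hy) y hy).symm
  obtain ⟨v, v1, w, w1, v2, w2, vw⟩ := o.q2
  have t := l3 m' (m'.cj' (nY (UR v1))) (m'.cj' (nY (UR w1))) (nc v v1 v2) (nc w w1 w2)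
  refine nc _ (mul_mem v1 w1) vw ?_
  have := cj_mono v t
  rw [cj_centralizer] at this
  change cj v (cj w (cj g U)) ≤ centralizer (cj v (cj v (cj g U)) : Set Γ) at this
  rwa [← cj_mul, ← cj_mul v v, m.el v v1, cj_one] at this

theorem step (hSL : S ≤ L) (hLS : L ≤ normalizer (S : Set Γ)) (h1 : T ≤ R) (h2 : R ≤ S)
    (hG : ∀ r ∈ R, cj r U ≤ T₀) {g : Γ} (hg : g ∈ L) (hgR : g ∈ normalizer (R : Set Γ)) :
    cj g U ≤ T₀ := fun y hy => by
  have UR : U ≤ R := (U_le_E o).trans (o.ET.trans h1)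
  have yR := cj_le_of_norm UR hgR hy
  obtain ⟨n, n1, n2, n3⟩ := exists_n o hSL hLS
  refine o.a3 n n1 n2 y ?_ fun v hv => n3 v hv y (cj_le_orb hg hy)
  rcases h1.eq_or_lt with rfl | h1'
  · exact yR
  have YS : orb R U ≤ S := (orb_le fun _ hg => cj_le_of_mem UR hg).trans h2
  refine o.m1 (En (orb R U) (orb T U)) (le_inf (le_orb R U) ((U_le_E o).trans
    ((le_cent_OZ E).trans (cent_anti (orbT_le o))))) ((inf_le_inf_right _ YS).trans (cent_le o))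
    (le_norm_inf (h1.trans (norm_orb R U)) (le_norm_cent (norm_orb T U))) ⟨h2 yR, ?_⟩
  refine zpowers_le.1 (le_trans (zpowers_le.2 (mem_zpowers y)) (le_normalizer_of_cj fun z hz => ?_))
  refine le_inf (cj_le_of_norm inf_le_left (zpowers_le.2 (norm_orb R U yR) hz))
    (le_centralizer_iff.1 (orb_le fun t ht => le_centralizer_iff.1 ?_))
  have k := key o hSL hLS h1' h2 hG (mul_mem (inv_mem (hSL (o.TS.le ht))) hg)
    (mul_mem (inv_mem (le_normalizer (h1 ht))) hgR) (y := t⁻¹ * y * t)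
    (by rw [cj_mul]; simpa using conj_mem_cj (g := t⁻¹) hy)
  rw [← mem_cj, cj_normalizer, cj_En (norm_orb R U (h1 ht))] at k
  exact (cj_le_of_norm (inf_le_inf_left _ (cent_anti (cj_le_orb ht))) (zpowers_le.2 k hz)).trans
    inf_le_right

theorem good_S (hSL : S ≤ L) (hLS : L ≤ normalizer (S : Set Γ)) : ∀ r ∈ S, cj r U ≤ T₀ := by
  obtain ⟨R, ⟨h2, hG⟩, h1, hmax⟩ := H7.exists_max_ge
    (fun R : Subgroup Γ => R ≤ S ∧ ∀ r ∈ R, cj r U ≤ T₀) (A := T) ⟨o.TS.le, fun r hr =>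
      le_trans (le_inf (cj_le_of_mem ((U_le_E o).trans o.ET) hr) (((cj_le_orb hr).trans
        (orbT_le o)).trans ((OZ_le_cent E).trans (cent_anti (U_le_E o))))) o.ge⟩
  rcases h2.eq_or_lt with rfl | h
  · exact hG
  · exact absurd (hmax _ ⟨inf_le_left, fun g hg => step o hSL hLS h1 h2 hG (hSL hg.1) hg.2⟩
      (lt_inf_normalizer o.two h).le) (lt_inf_normalizer o.two h).ne'

end Orb

theorem pb : H85.FP.PBStmt.{u} := by
  intro Γ _ _ S T T₀ E U I L o hSL hLS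
  have hG : ∀ g ∈ L, cj g U ≤ T₀ := fun g hg =>
    step o hSL hLS o.TS.le le_rfl (good_S o hSL hLS) hg (hLS hg)
  refine ⟨hG, fun x hx ho => ?_⟩
  by_contra nc
  have m := mb o hG
  have n := norm_orb L U hx
  have m₁ := m.cj' n
  have e := l3_eq m₁ m (m₁.cj' n) (fun k => nc (le_centralizer_iff.1 k)) fun k => nc (by
    change cj x (cj x U) ≤ centralizer (cj x U : Set Γ) at k
    rwa [← cj_centralizer, cj_le_cj_iff] at k)
  change En (orb L U) U = En (orb L U) (cj x (cj x U)) at e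
  rw [← cj_mul, ← cj_En (mul_mem n n), eq_comm, cj_eq_self_iff, ← pow_two] at e
  have e' := cj_eq_self (mem_of_pow_mem_of_coprime e (Nat.coprime_two_right.2 ho))
  rw [cj_En n] at e'
  exact nc ((le_inf m₁.WY m₁.ab).trans (e'.le.trans inf_le_right))

theorem finB : H85.FP.FinBStmt.{u} := by
  intro Γ _ _ G A S T T₀ E U I env loc
  have o := loc.toOrbB
  obtain ⟨h1, h2⟩ := pb Γ S T T₀ E U I (S ⊔ A) o le_sup_left (sup_le le_normalizer env.AS)
  have l : orb A U ≤ T ⊓ centralizer (U : Set Γ) := orb_le fun x hx => le_inf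
    ((h1 x (mem_sup_right hx)).trans (o.le.trans inf_le_left))
    (h2 x (mem_sup_right hx) (env.odd.of_dvd_nat (A.orderOf_dvd_natCard hx)))
  refine loc.ns _ (le_orb A U) l (env.sol _ (l.trans (inf_le_left.trans o.TS.le)) (fun e => ?_)
    (norm_orb A U))
  obtain ⟨v, v1, -, -, v2, -⟩ := o.q2
  exact v2 (mem_bot.1 (e ▸ le_orb A U v1) ▸ one_mem _)

end Cfsg.Agent.H39.FPB
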