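import Cfsg.Agent.H42.HtDefs

/-!
# S3124, project HT, piece CO: the core configuration
-/

set_option autoImplicit false

namespace Cfsg.Agent.H39.HtCO

open Cfsg Cfsg.Agent.H63 Cfsg.Agent.H63.SL Cfsg.Agent.H63.AN Cfsg.Agent.H42.HT Subgroup
open Cfsg.Agent.H7.AA
open Cfsg.Agent.H78 (c3 altOn symOn)
open Equiv (swap Perm)
open Equiv.Perm (sign)

universe u

theorem sign_w : sign w = 1 := by decide

theorem sign_v : sign v = 1 := by decide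

theorem sign_x3 : sign x3 = 1 := by decide

theorem x3_mem : x3 ∈ off 0 1 := H78.mem_altOn.2 (by decide)

theorem sw_comm {σ : P} (hσ : σ ∈ off 0 1) : swap (0 : Fin 10) 1 * σ = σ * swap 0 1 := by
  have h := (H78.mem_altOn.1 hσ).1
  have h0 : σ 0 = 0 := h 0 (by decide)
  have h1 : σ 1 = 1 := h 1 (by decide)
  rw [Equiv.mul_swap_eq_swap_mul, h0, h1]

theorem co : CoStmt.{u} := by
  intro ff G _ _ ψ t fr _ ne τ d1
  have sg : ∀ σ ∈ off 0 1, sign σ = 1 := fun σ hσ => (H78.mem_altOn.1 hσ).2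
  have cτ : ∀ σ ∈ off 0 1, τ * ev ψ σ = ev ψ σ * τ := fun σ hσ =>
    d1.ac.comm (sg σ hσ) (sw_comm hσ)
  obtain ⟨h0, h0t⟩ := isConj_iff.1 d1.cj
  obtain ⟨φ, φi, hφ⟩ := fr.perf {0, 1}ᶜ h0⁻¹ (by decide) (fun σ hσ => by
    have e : t = h0⁻¹ * τ * h0 := by rw [← h0t]; group
    have := cτ σ hσ
    rw [Commute, SemiconjBy, e]
    calc h0⁻¹ * ev ψ σ * h0⁻¹⁻¹ * (h0⁻¹ * τ * h0) = h0⁻¹ * (ev ψ σ * τ) * h0 := by group
      _ = h0⁻¹ * τ * h0 * (h0⁻¹ * ev ψ σ * h0⁻¹⁻¹) := by rw [← this]; group)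
  obtain ⟨p, hp⟩ := ff.a8 0 1 (by decide) φ φi
  obtain ⟨k, kt, kp⟩ := fr.onto τ d1.cm d1.ac p
  have ht : h0 * k * t * (h0 * k)⁻¹ = τ := by
    rw [← h0t, mul_assoc h0 k t, kt.eq]; group
  have hB : ∀ σ ∈ off 0 1, Commute (h0 * k) (ev ψ σ) := fun σ hσ => by
    have e1 := kp σ (sg σ hσ)
    have e2 := (hφ ⟨σ, hσ⟩).2
    rw [hp] at e2
    have e3 : k * ev ψ σ * k⁻¹ = h0⁻¹ * ev ψ σ * h0⁻¹⁻¹ := e1.trans e2.symm
    rw [Commute, SemiconjBy]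
    calc h0 * k * ev ψ σ = h0 * (k * ev ψ σ * k⁻¹) * k := by group
      _ = ev ψ σ * (h0 * k) := by rw [e3]; group
  generalize h0 * k = h at ht hB
  refine ⟨h, d1, ht, hB, ?_⟩
  have e : t = h⁻¹ * τ * h := by rw [← ht]; group
  have cw : τ * ev ψ w = ev ψ w * τ := d1.ac.comm sign_w (by decide)
  have wt : Commute (h⁻¹ * ev ψ w * h) t := by
    rw [Commute, SemiconjBy, e]
    calc h⁻¹ * ev ψ w * h * (h⁻¹ * τ * h) = h⁻¹ * (ev ψ w * τ) * h := by group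
      _ = h⁻¹ * τ * h * (h⁻¹ * ev ψ w * h) := by rw [← cw]; group
  obtain ⟨ρ, hρ⟩ := fr.act _ wt
  have hc : ∀ σ ∈ off 0 1, Commute (w⁻¹ * ρ) σ := fun σ hσ => by
    have m : w * σ * w⁻¹ ∈ off 0 1 := ff.sw 0 1 (by decide) w
      (show w * swap 0 1 = swap 0 1 * w by decide) σ hσ
    have e1 : h⁻¹ * ev ψ w * h * ev ψ σ * (h⁻¹ * ev ψ w * h)⁻¹ = ev ψ (w * σ * w⁻¹) := by
      have b1 := (hB σ hσ).eq
      have b2 := (hB _ m).eq
      calc h⁻¹ * ev ψ w * h * ev ψ σ * (h⁻¹ * ev ψ w * h)⁻¹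
          = h⁻¹ * ev ψ w * (h * ev ψ σ) * h⁻¹ * (ev ψ w)⁻¹ * h := by group
        _ = h⁻¹ * (ev ψ w * ev ψ σ * (ev ψ w)⁻¹ * h) := by rw [b1]; group
        _ = ev ψ (w * σ * w⁻¹) := by rw [← ev_conj sign_w (sg σ hσ), ← b2]; group
    have e2 : ρ * σ * ρ⁻¹ = w * σ * w⁻¹ :=
      ev_inj fr.inj (by rw [sign_conj']; exact sg σ hσ) (sg _ m) ((hρ σ (sg σ hσ)).symm.trans e1)
    rw [Commute, SemiconjBy]
    calc w⁻¹ * ρ * σ = w⁻¹ * (ρ * σ * ρ⁻¹) * ρ := by group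
      _ = σ * (w⁻¹ * ρ) := by rw [e2]; group
  rcases ff.c8 0 1 (by decide) _ hc with h1 | h1
  · exfalso
    have hρw : ρ = w := (inv_mul_eq_one.1 h1).symm
    subst hρw
    have w2 : ev ψ w * ev ψ w = 1 := by
      rw [← ev_mul sign_w sign_w, show w * w = 1 by decide, ev_one]
    have i2 : Is2 (h⁻¹ * ev ψ w * h) := ⟨1, by
      rw [pow_one, pow_two]
      calc h⁻¹ * ev ψ w * h * (h⁻¹ * ev ψ w * h) = h⁻¹ * (ev ψ w * ev ψ w) * h := by group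
        _ = 1 := by rw [w2]; group⟩
    have hv : ev ψ v * τ * (ev ψ v)⁻¹ = ev ψ w * τ := by
      rw [fr.cls τ _ d1.cm d1.ac v sign_v,
        show v * swap 0 1 * v⁻¹ * (swap 0 1)⁻¹ = w by decide]
    have tw : t * ev ψ w = ev ψ w * t := KA_ev fr.tK w
    rcases fr.ev2 _ _ wt i2 hρ sign_w with h2 | h2
    · refine ne (h⁻¹ * ev ψ v * h) ?_ ?_
      · calc h⁻¹ * ev ψ v * h * t * (h⁻¹ * ev ψ v * h)⁻¹
            = h⁻¹ * (ev ψ v * (h * t * h⁻¹) * (ev ψ v)⁻¹) * h := by group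
          _ = (h⁻¹ * ev ψ w * h) * (h⁻¹ * τ * h) := by rw [ht, hv]; group
          _ = t * ev ψ w := by rw [h2, ← e, tw]
      · have b1 := hB x3 x3_mem
        have b2 : Commute (ev ψ v) (ev ψ x3) := ev_comm sign_v sign_x3 (by decide)
        exact (b1.inv_left.mul_left b2).mul_left b1
    · refine fr.nl w (isConj_iff.2 ⟨h⁻¹ * ev ψ v * h, ?_⟩)
      calc h⁻¹ * ev ψ v * h * t * (h⁻¹ * ev ψ v * h)⁻¹
            = h⁻¹ * (ev ψ v * (h * t * h⁻¹) * (ev ψ v)⁻¹) * h := by group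
          _ = (h⁻¹ * ev ψ w * h) * (h⁻¹ * τ * h) := by rw [ht, hv]; group
          _ = ev ψ w := by rw [h2, ← e, tw, mul_assoc, fr.t2, mul_one]
  · have : ρ = swap 2 3 := by
      rw [inv_mul_eq_iff_eq_mul.1 h1]; decide
    rwa [this] at hρ

end Cfsg.Agent.H39.HtCO
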