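import Cfsg.Agent.H39.KnFfaM

/-!
# S1918, piece FFA: general lemmas and the action of `F` on `D`
-/

set_option autoImplicit false

namespace Cfsg.Agent.H39.KnFfa

open Equiv Subgroup Cfsg.Agent.H63 Cfsg.Agent.H8.GD Cfsg.Agent.H17.Kn
open Cfsg.Agent.H11.A16 (Ω)
open Cfsg.Agent.H89.Rec (Syl)

universe u

section Basic

variable {G : Type u} [Group G] {J : N2 → G} {X : Subgroup N2}

theorem ex_mul {g g' : G} {c c' : N2} (h : Ex J g c X) (h' : Ex J g' c' X)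
    (n : ∀ u ∈ X, c' * u * c'⁻¹ ∈ X) : Ex J (g * g') (c * c') X := fun u hu => by
  have := (h' u hu).trans (h _ (n u hu))
  rwa [show c * (c' * u * c'⁻¹) * c⁻¹ = c * c' * u * (c * c')⁻¹ by group] at this

theorem ex_inv {g : G} {c : N2} (h : Ex J g c X) (n : ∀ u ∈ X, c⁻¹ * u * c⁻¹⁻¹ ∈ X) :
    Ex J g⁻¹ c⁻¹ X := fun u hu => by
  have := (h _ (n u hu)).symm
  rwa [show c * (c⁻¹ * u * c⁻¹⁻¹) * c⁻¹ = u by group] at this

theorem ex_cen (em : Em J X) {a g : G} {c : N2} (h : Ex J a c X) (h' : Ex J g c X) :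
    a⁻¹ * g ∈ C[im J X] := by
  rw [mem_centralizer_iff]
  intro y hy
  obtain ⟨u, hu, rfl⟩ := em.mem.1 hy
  have e : g * J u * g⁻¹ = a * J u * a⁻¹ := Eq.trans (h' u hu) (Eq.symm (h u hu))
  calc J u * (a⁻¹ * g) = a⁻¹ * (a * J u * a⁻¹) * g := by group
    _ = a⁻¹ * g * J u := by rw [← e]; group

theorem ex_one : Ex J 1 1 X := fun u _ => by simp [R]

theorem cen_of_ex (em : Em J X) {g : G} (h : Ex J g 1 X) : g ∈ C[im J X] := by
  simpa using ex_cen em ex_one h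

theorem ex_of_cen {g : G} (h : g ∈ C[im J X]) : Ex J g 1 X := fun u hu => by
  have := mem_centralizer_iff.1 h _ (mem_im hu)
  rw [R, ← this]; simp

theorem mem_N [Finite G] (em : Em J X) {g : G} (h : ∀ u ∈ X, g * J u * g⁻¹ ∈ im J X) :
    g ∈ N[im J X] := by
  refine mem_normalizer_fintype fun y hy => ?_
  obtain ⟨u, hu, rfl⟩ := em.mem.1 hy
  exact h u hu

theorem conj_N {H : Subgroup G} {g k : G} (hg : g ∈ N[H]) (hk : k ∈ H) : g * k * g⁻¹ ∈ H :=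
  (mem_normalizer_iff.1 hg k).1 hk

theorem conj_C {H : Subgroup G} {g k : G} (hg : g ∈ N[H]) (hk : k ∈ C[H]) :
    g * k * g⁻¹ ∈ C[H] := by
  rw [mem_centralizer_iff] at hk ⊢
  intro y hy
  have := hk _ (conj_N (inv_mem hg) hy)
  calc y * (g * k * g⁻¹) = g * (g⁻¹ * y * g⁻¹⁻¹ * k) * g⁻¹ := by group
    _ = g * k * g⁻¹ * y := by rw [this]; group

theorem N_le_NC [Finite G] {H : Subgroup G} {g : G} (hg : g ∈ N[H]) : g ∈ N[C[H]] :=
  mem_normalizer_fintype fun _ hk => conj_C hg hk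

theorem orderOf_cj (g k : G) : orderOf (g * k * g⁻¹) = orderOf k :=
  orderOf_injective (MulAut.conj g).toMonoidHom (MulAut.conj g).injective k

/-- `U` extended by an element `e` that normalises it and has its square in it. -/
def ad (U : Subgroup G) (e : G) (hn : e ∈ N[U]) (h2 : e * e ∈ U) : Subgroup G where
  carrier := {y | y ∈ U ∨ e⁻¹ * y ∈ U}
  one_mem' := Or.inl (one_mem _)
  mul_mem' := by
    rintro a b (ha | ha) (hb | hb)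
    · exact Or.inl (mul_mem ha hb)
    · refine Or.inr ?_
      have := mul_mem (conj_N (inv_mem hn) ha) hb
      rwa [show e⁻¹ * a * e⁻¹⁻¹ * (e⁻¹ * b) = e⁻¹ * (a * b) by group] at this
    · refine Or.inr ?_
      rw [← mul_assoc]; exact mul_mem ha hb
    · refine Or.inl ?_
      have := mul_mem (mul_mem h2 (conj_N (inv_mem hn) ha)) hb
      rwa [show e * e * (e⁻¹ * (e⁻¹ * a) * e⁻¹⁻¹) * (e⁻¹ * b) = a * b by group] at this
  inv_mem' := by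
    rintro a (ha | ha)
    · exact Or.inl (inv_mem ha)
    · refine Or.inr ?_
      have := mul_mem (conj_N (inv_mem hn) (inv_mem ha)) (inv_mem h2)
      rwa [show e⁻¹ * (e⁻¹ * a)⁻¹ * e⁻¹⁻¹ * (e * e)⁻¹ = e⁻¹ * a⁻¹ by group] at this

theorem mem_ad {U : Subgroup G} {e : G} {hn : e ∈ N[U]} {h2 : e * e ∈ U} {y : G} :
    y ∈ ad U e hn h2 ↔ y ∈ U ∨ e⁻¹ * y ∈ U := Iff.rfl

theorem ad_two {U : Subgroup G} {e : G} (hn : e ∈ N[U]) (h2 : e * e ∈ U) (hU : IsPGroup 2 U) :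
    IsPGroup 2 (ad U e hn h2) := by
  rintro ⟨y, hy⟩
  have h : y * y ∈ U := by
    rcases hy with hy | hy
    · exact mul_mem hy hy
    · have := mul_mem (mul_mem h2 (conj_N (inv_mem hn) hy)) hy
      rwa [show e * e * (e⁻¹ * (e⁻¹ * y) * e⁻¹⁻¹) * (e⁻¹ * y) = y * y by group] at this
  obtain ⟨k, hk⟩ := hU ⟨_, h⟩
  refine ⟨k + 1, Subtype.ext ?_⟩
  have := congrArg Subtype.val hk
  simp only [SubmonoidClass.mk_pow, OneMemClass.coe_one] at this ⊢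
  rw [pow_succ', pow_mul, pow_two, this]

theorem card_le_two_mul [Finite G] {U F : Subgroup G} {e : G}
    (h : ∀ y ∈ F, y ∈ U ∨ e⁻¹ * y ∈ U) : Nat.card F ≤ Nat.card U + Nat.card U := by
  classical
  rw [← Nat.card_sum]
  refine Nat.card_le_card_of_injective (fun y : F => if hy : y.1 ∈ U then Sum.inl ⟨y.1, hy⟩
    else Sum.inr ⟨e⁻¹ * y.1, (h y.1 y.2).resolve_left hy⟩) fun y y' hh => ?_
  by_cases h1 : y.1 ∈ U <;> by_cases h2 : y'.1 ∈ U <;> simp [h1, h2] at hh <;> exact hh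

theorem cm_cen {a b z z' : G} (h1 : Commute z (b * z')) (h2 : Commute z' a) :
    a * z * (b * z') * (a * z)⁻¹ * (b * z')⁻¹ = a * b * a⁻¹ * b⁻¹ := by
  calc a * z * (b * z') * (a * z)⁻¹ * (b * z')⁻¹
      = a * (z * (b * z')) * z⁻¹ * a⁻¹ * (b * z')⁻¹ := by group
    _ = a * b * (z' * a⁻¹) * z'⁻¹ * b⁻¹ := by rw [h1.eq]; group
    _ = a * b * a⁻¹ * b⁻¹ := by rw [h2.inv_right.eq]; group

end Basic

theorem DD_XX : DD ≤ XX := inf_le_left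
theorem XX_T0 : XX ≤ T0 := inf_le_left
theorem DD_T0 : DD ≤ T0 := DD_XX.trans XX_T0
theorem U1_T0 : U1 ≤ T0 := inf_le_left
theorem U1_FF : U1 ≤ FF := inf_le_right
theorem F1_FF : F1 ≤ FF := inf_le_right
theorem E1_EE : E1 ≤ EE := inf_le_left
theorem PI_AA : PI ≤ AA := inf_le_left

/-- The hypotheses of the piece. -/
structure Cx {G : Type u} [Group G] (J : N2 → G) (φ : G → Perm Ω) (F : Subgroup G) : Prop where
  gen : Gen G
  m1 : Mod1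
  m2 : Mod2
  m3 : Mod3
  af : Af
  kit : Kit J φ
  eu : Eu J φ
  fp : Fp J F
  hv1 : ∀ g ∈ C[im J U1], g ∈ N[im J DD] → ∃ c ∈ FF, Ex J g c DD
  hv2 : ∀ g ∈ C[im J DD], ∃ a ∈ PI, ∃ k ∈ NA J, φ k = 1 ∧ k ∈ C[im J DD] ∧ g = J a * k
  hv3 : ∀ F : Subgroup G, IsPGroup 2 F → F ≤ N[im J DD] → ∀ g ∈ F, g ∈ C[im J DD] → g ∈ im J PI
  hv4 : ∀ F : Subgroup G, IsPGroup 2 F → F ≤ C[im J U1] → F ≤ N[im J DD] → Nat.card F ≤ 256

namespace Cx

variable {G : Type u} [Group G] {J : N2 → G} {φ : G → Perm Ω} {F : Subgroup G} (h : Cx J φ F)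
include h

theorem incl : EE ≤ AE ∧ AA ≤ AE ∧ E1 ≤ F1 ∧ U1 ≤ F1 ∧ U1 ≤ DD ∧ VV ≤ AA ∧ VV ≤ DD ∧ PI ≤ U1 := by
  obtain ⟨-, -, a3, a4, -, a6, -, -, -, -, -, -, -, a14, a15, a16, a17, a18, -, -, -, -, -, a24, -⟩ :=
    h.m2.le
  exact ⟨a6, a4.trans a3, a14, a15, a16, a17, a18, a24⟩

theorem U1_DD : U1 ≤ DD := h.incl.2.2.2.2.1
theorem VV_DD : VV ≤ DD := h.incl.2.2.2.2.2.2.1
theorem PI_U1 : PI ≤ U1 := h.incl.2.2.2.2.2.2.2
theorem U1_F1 : U1 ≤ F1 := h.incl.2.2.2.1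
theorem em : Em J T0 := h.eu.em
theorem emD : Em J DD := h.em.mono DD_T0
theorem emU : Em J U1 := h.em.mono U1_T0
theorem emP : Em J PI := h.emU.mono h.PI_U1
theorem abF : ∀ u ∈ FF, ∀ v ∈ FF, Commute u v := h.m2.ab.2.1
theorem sqF : ∀ u ∈ FF, u * u = 1 := h.m2.ab.2.2.2.2.1

theorem nF {c : N2} (hc : c ∈ FF) : ∀ u ∈ DD, c * u * c⁻¹ ∈ DD := fun u hu => by
  obtain ⟨v, hv, w, hw, rfl⟩ := h.m2.pDD u hu
  have e : c * (v * w) * c⁻¹ = c * v * c⁻¹ * v⁻¹ * v * w := by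
    rw [← mul_assoc, mul_assoc _ w, ← (h.abF c hc w (U1_FF hw)).inv_left.eq]; group
  rw [e]
  exact mul_mem (mul_mem (h.U1_DD (h.m3.fvU c hc v hv)) (h.VV_DD hv)) (h.U1_DD hw)

theorem nT {t : N2} (ht : t ∈ T0) : ∀ u ∈ DD, t * u * t⁻¹ ∈ DD :=
  ((h.m2.nrm t).2.2.2.2.2 ht).2.1

theorem exT {t : N2} (ht : t ∈ T0) : Ex J (J t) t DD := fun _ hu => h.em.self ht (DD_T0 hu)

theorem ND {t : N2} [Finite G] (ht : t ∈ T0) : J t ∈ N[im J DD] :=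
  mem_N h.emD fun u hu => by rw [h.exT ht u hu]; exact mem_im (h.nT ht u hu)

theorem NU {t : N2} [Finite G] (ht : t ∈ T0) : J t ∈ N[im J U1] :=
  mem_N h.emU fun u hu => by
    rw [h.em.self ht (U1_T0 hu)]; exact mem_im (((h.m2.nrm t).2.2.2.2.2 ht).1 u hu)

theorem uniq {g : G} {c c' : N2} (hc : c ∈ FF) (hc' : c' ∈ FF) (e : Ex J g c DD)
    (e' : Ex J g c' DD) : c⁻¹ * c' ∈ PI := by
  refine h.m3.cFV _ (mul_mem (inv_mem hc) hc') fun a ha => ?_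
  have hD := h.VV_DD ha
  have e1 : c * a * c⁻¹ = c' * a * c'⁻¹ :=
    h.emD.inj _ (h.nF hc a hD) _ (h.nF hc' a hD) (Eq.trans (Eq.symm (e a hD)) (e' a hD))
  rw [Commute, SemiconjBy]
  calc c⁻¹ * c' * a = c⁻¹ * (c' * a * c'⁻¹) * c' := by group
    _ = a * (c⁻¹ * c') := by rw [← e1]; group

theorem eF : J e34 ∈ F := h.fp.le2 (mem_im fa1.1)

theorem ee : J e34 * J e34 = 1 := by
  rw [← h.eu.emE.mul _ fa1.2.2.2.2.2.2.1 _ fa1.2.2.2.2.2.2.1, fa1.2.2.2.2.2.1, h.eu.emE.one]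

theorem cU {a z : G} (ha : a ∈ F) (hz : z ∈ im J U1) : Commute z a :=
  mem_centralizer_iff.1 (h.fp.cen ha) z hz

theorem sqU {z : G} (hz : z ∈ im J U1) : z * z = 1 := by
  obtain ⟨u, hu, rfl⟩ := h.emU.mem.1 hz
  rw [← h.emU.mul u hu u hu, h.sqF u (U1_FF hu), h.emU.one]

theorem exe : Ex J (J e34) e34 DD := fun u hu => by
  obtain ⟨v, hv, w, hw, rfl⟩ := h.m2.pDD u hu
  have hvD := h.VV_DD hv
  have hwD := h.U1_DD hw
  have e1 : e34 * (v * w) * e34⁻¹ = e34 * v * e34⁻¹ * w := by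
    rw [← mul_assoc, mul_assoc _ w, ← (h.abF e34 fa1.2.1 w (U1_FF hw)).inv_left.eq]; group
  have e2 : R J (J e34) v (e34 * v * e34⁻¹) :=
    h.eu.emE.self fa1.2.2.2.2.2.2.1 (h.incl.2.1 (h.incl.2.2.2.2.2.1 hv))
  have e3 : Commute (J w) (J e34) := h.eu.cm w hw e34 fa1.1
  rw [R, e1, h.emD.mul v hvD w hwD, h.emD.mul _ (h.nF fa1.2.1 v hvD) w hwD, ← e2, ← mul_assoc,
    mul_assoc _ (J w), e3.inv_right.eq]
  group

theorem memU {a : G} (ha : a ∈ F) (hc : a ∈ C[im J DD]) : a ∈ im J U1 :=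
  im_mono h.PI_U1 (h.hv3 F h.fp.two h.fp.nD a ha hc)

theorem KF : im J U1 ⊔ im J E1 ≤ F := sup_le h.fp.le1 h.fp.le2

theorem eK : J e34 ∈ im J U1 ⊔ im J E1 := by
  have _ := h.em
  exact mem_sup_right (mem_im fa1.1)

theorem memK_iff {a : G} (ha : a ∈ im J U1 ⊔ im J E1) :
    a ∈ im J U1 ∨ (J e34)⁻¹ * a ∈ im J U1 := by
  have hn : J e34 ∈ N[im J U1] := centralizer_le_normalizer _ (h.fp.cen h.eF)
  have h2 : J e34 * J e34 ∈ im J U1 := by rw [h.ee]; exact one_mem _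
  have : im J U1 ⊔ im J E1 ≤ ad _ _ hn h2 := by
    refine sup_le (fun y hy => Or.inl hy) (im_le fun c hc => ?_)
    rcases h.m2.iF1 c (h.incl.2.2.1 hc) with h1 | h1
    · exact Or.inl (mem_im h1)
    · refine Or.inr ?_
      have hA := fa1.2.2.2.2.2.2.1
      rw [← h.eu.emE.inv hA, ← h.eu.emE.mul _ (inv_mem hA) _ (h.incl.1 (E1_EE hc))]
      exact mem_im h1
  exact this ha

theorem exK {a : G} (ha : a ∈ im J U1 ⊔ im J E1) : ∃ c ∈ F1, Ex J a c DD := by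
  rcases h.memK_iff ha with h1 | h1
  · obtain ⟨u, hu, rfl⟩ := h.emU.mem.1 h1
    exact ⟨u, h.U1_F1 hu, h.exT (U1_T0 hu)⟩
  · obtain ⟨u, hu, e⟩ := h.emU.mem.1 h1
    refine ⟨e34 * u, mul_mem (h.incl.2.2.1 fa1.1) (h.U1_F1 hu), ?_⟩
    have : a = J e34 * J u := by rw [e]; group
    rw [this]
    exact ex_mul h.exe (h.exT (U1_T0 hu)) (h.nT (U1_T0 hu))

theorem realK {c : N2} (hc : c ∈ F1) : ∃ b ∈ im J U1 ⊔ im J E1, Ex J b c DD := by
  rcases h.m2.iF1 c hc with h1 | h1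
  · exact ⟨J c, mem_sup_left (mem_im h1), h.exT (U1_T0 h1)⟩
  · refine ⟨J e34 * J (e34⁻¹ * c), mul_mem h.eK (mem_sup_left (mem_im h1)), ?_⟩
    have := ex_mul h.exe (h.exT (U1_T0 h1)) (h.nT (U1_T0 h1))
    rwa [mul_inv_cancel_left] at this

theorem memK {a : G} (ha : a ∈ F) {c : N2} (hc : c ∈ F1) (e : Ex J a c DD) :
    a ∈ im J U1 ⊔ im J E1 := by
  obtain ⟨b, hb, eb⟩ := h.realK hc
  have := h.memU (mul_mem (inv_mem (h.KF hb)) ha) (ex_cen h.emD eb e)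
  rw [← mul_inv_cancel_left b a]
  exact mul_mem hb (mem_sup_left this)

theorem exF {a : G} (ha : a ∈ F) : ∃ c ∈ FF, Ex J a c DD := h.hv1 a (h.fp.cen ha) (h.fp.nD ha)

theorem real_f0 [Finite G] : ∃ a ∈ F, Ex J a f0 DD := by
  by_contra hn
  have h1 : ∀ a ∈ F, a ∈ im J U1 ⊔ im J E1 := fun a ha => by
    obtain ⟨c, hc, e⟩ := h.exF ha
    rcases h.m2.iFF c hc with h2 | h2
    · exact h.memK ha h2 e
    · exfalso
      obtain ⟨b, hb, eb⟩ := h.realK h2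
      have n := h.nF (inv_mem (F1_FF h2))
      have := ex_mul e (ex_inv eb n) n
      rw [show c * (f0⁻¹ * c)⁻¹ = f0 by group] at this
      exact hn ⟨_, mul_mem ha (inv_mem (h.KF hb)), this⟩
  have h2 := card_le_two_mul fun a ha => h.memK_iff (h1 a ha)
  rw [h.fp.card, h.emU.card, h.m1.cU1] at h2
  omega

theorem realF [Finite G] {c : N2} (hc : c ∈ FF) : ∃ a ∈ F, Ex J a c DD := by
  rcases h.m2.iFF c hc with h2 | h2
  · obtain ⟨b, hb, eb⟩ := h.realK h2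
    exact ⟨b, h.KF hb, eb⟩
  · obtain ⟨b, hb, eb⟩ := h.realK h2
    obtain ⟨a, ha, ea⟩ := h.real_f0
    refine ⟨a * b, mul_mem ha (h.KF hb), ?_⟩
    have := ex_mul ea eb (h.nF (F1_FF h2))
    rwa [mul_inv_cancel_left] at this

/-- The elements of odd order of the centraliser of `D`. -/
def O : Subgroup G where
  carrier := {k | k ∈ NA J ∧ φ k = 1 ∧ k ∈ C[im J DD]}
  one_mem' := ⟨one_mem _, h.kit.one, one_mem _⟩
  mul_mem' := fun {a b} ha hb => ⟨mul_mem ha.1 hb.1, by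
    rw [h.eu.mul a ha.1 b hb.1, ha.2.1, hb.2.1, mul_one], mul_mem ha.2.2 hb.2.2⟩
  inv_mem' := fun {a} ha => ⟨inv_mem ha.1, by rw [h.kit.inv a ha.1, ha.2.1, inv_one],
    inv_mem ha.2.2⟩

theorem O_odd {k : G} (hk : k ∈ h.O) : Odd (orderOf k) := h.eu.ker k hk.1 hk.2.1

theorem memO {k : G} (hk : k ∈ C[im J DD]) (ho : Odd (orderOf k)) : k ∈ h.O := by
  obtain ⟨a, ha, k', h1, h2, h3, e⟩ := h.hv2 k hk
  have hk' : k' ∈ h.O := ⟨h1, h2, h3⟩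
  have hc : Commute (J a) k' := mem_centralizer_iff.1 h3 _ (mem_im (h.U1_DD (h.PI_U1 ha)))
  have h4 : J a * J a = 1 := h.sqU (mem_im (h.PI_U1 ha))
  obtain ⟨m, hm⟩ := ho.mul (h.O_odd hk')
  have h5 : k ^ (orderOf k * orderOf k') = 1 := by rw [pow_mul, pow_orderOf_eq_one, one_pow]
  have h6 : k' ^ (orderOf k * orderOf k') = 1 := by rw [pow_mul', pow_orderOf_eq_one, one_pow]
  have h7 : J a ^ (orderOf k * orderOf k') = J a := by
    rw [hm, pow_succ, pow_mul, pow_two, h4, one_pow, one_mul]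
  generalize orderOf k * orderOf k' = n at h5 h6 h7
  rw [e, hc.mul_pow, h6, h7, mul_one] at h5
  rw [e, h5, one_mul]; exact hk'

theorem NO [Finite G] {g : G} (hg : g ∈ N[im J DD]) : g ∈ N[h.O] :=
  mem_normalizer_fintype fun k hk =>
    h.memO (conj_C hg hk.2.2) (by rw [orderOf_cj]; exact h.O_odd hk)

theorem decM [Finite G] {g : G} (h1 : g ∈ C[im J U1]) (h2 : g ∈ N[im J DD]) :
    ∃ a ∈ F, ∃ o ∈ h.O, g = a * o := by
  obtain ⟨c, hc, e⟩ := h.hv1 g h1 h2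
  obtain ⟨a, ha, ea⟩ := h.realF hc
  obtain ⟨p, hp, k, k1, k2, k3, ek⟩ := h.hv2 _ (ex_cen h.emD ea e)
  refine ⟨a * J p, mul_mem ha (h.fp.le1 (mem_im (h.PI_U1 hp))), k, ⟨k1, k2, k3⟩, ?_⟩
  rw [mul_assoc, ← ek, mul_inv_cancel_left]

end Cx

end Cfsg.Agent.H39.KnFfa
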