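import Cfsg.Agent.H17.KnDef2

/-!
# S1918, piece FFA: finite facts on the model
-/

set_option autoImplicit false
set_option maxRecDepth 100000
set_option synthInstance.maxSize 2000

namespace Cfsg.Agent.H39.KnFfa

open Equiv Subgroup Cfsg.Agent.H63 Cfsg.Agent.H8.GD Cfsg.Agent.H17.Kn

theorem fa1 : e34 ∈ E1 ∧ e34 ∈ FF ∧ f0 ∈ FF ∧ e34 ∉ U1 ∧ f0 ∉ F1 ∧ e34 * e34 = 1 ∧ e34 ∈ AE ∧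
    e34 ∈ EE ∧ xe 2 3 ∈ XX ∧ xe 2 3 * xe 2 3 = 1 ∧ xe 0 2 ∈ U1 ∧ xe 0 3 ∈ U1 ∧
    xe 2 3 * xe 0 2 * (xe 2 3)⁻¹ ≠ xe 0 2 ∧ xe 0 1 ∈ T0 ∧ xe 0 1 ∈ S2 := by decide +kernel

theorem fa2 : xe 0 1 * e34 * (xe 0 1)⁻¹ = e34 ∧
    xe 0 1 * (xe 1 4 * z2) * (xe 0 1)⁻¹ = xe 1 4 ∧ xe 1 4 * z2 ≠ xe 1 4 ∧ xe 1 4 ≠ 1 ∧
    xe 0 1 * f0 * (xe 0 1)⁻¹ = e34 * f0 ∧ z2 ∈ PI ∧ xe 1 4 ∈ PI ∧ z2 ≠ xe 1 4 ∧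
    e34 * f0 * e34⁻¹ * f0⁻¹ = 1 ∧ e34 * z2 ∈ E1 := by decide +kernel

theorem fa3 : s12 * s12 = 1 ∧ s12 * pm2 e34 * s12⁻¹ = pm2 f0 ∧
    s12 * pm2 (xe 2 3) * s12⁻¹ = pm2 (xe 2 3) ∧ s12 * pm2 (xe 2 4) * s12⁻¹ = pm2 (xe 2 4) ∧
    s12 * pm2 (xe 3 4) * s12⁻¹ = pm2 (xe 3 4) ∧ s12 * pm2 z2 * s12⁻¹ = pm2 (xe 1 4) ∧
    s12 * pm2 (xe 1 4) * s12⁻¹ = pm2 z2 := by decide +kernel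

theorem fa4 : xe 2 4 * xe 0 2 * (xe 2 4)⁻¹ ≠ xe 0 2 ∧ xe 3 4 * xe 0 3 * (xe 3 4)⁻¹ ≠ xe 0 3 ∧
    xe 2 4 * xe 3 4 * xe 0 2 * (xe 2 4 * xe 3 4)⁻¹ ≠ xe 0 2 := by decide +kernel

theorem fa5 : ∀ a b c e : Fin 4,
    (Commute (wb 0 a * wb 1 b * wb 2 c * wb 3 e) (xe 2 4) ∨
      Commute (wb 0 a * wb 1 b * wb 2 c * wb 3 e) (xe 3 4)) →
    wb 0 a * wb 1 b * wb 2 c * wb 3 e = ut (en (wb 0 a * wb 1 b * wb 2 c * wb 3 e)) := by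
  decide +kernel

end Cfsg.Agent.H39.KnFfa
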