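import Cfsg.Agent.H93.LT2Defs
import Cfsg.Agent.H96.CritApi
import Cfsg.Agent.Eqn.Cfsg_Agent_H96_RelL

/-! Type HH of project LT: the relations of the Sylow subgroup and models of `B₀`. -/

set_option autoImplicit false
set_option maxRecDepth 100000

namespace Cfsg.Agent.H39.LTH

open Subgroup Cfsg.Agent.H85 Cfsg.Agent.H93.LT Cfsg.Agent.H96

universe u

variable {G : Type u} [Group G]

theorem cn_def (x g : G) : cn x g = g⁻¹ * x * g := rfl

theorem rl {u v c : G} (h : cn u v = c) : u * v = v * c ∧ ∀ w, u * (v * w) = v * (c * w) := by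
  have : u * v = v * c := by rw [← h, cn_def]; group
  exact ⟨this, fun w => by rw [← mul_assoc, this, mul_assoc]⟩
theorem rc {u v : G} (h : Commute u v) : u * v = v * u ∧ ∀ w, u * (v * w) = v * (u * w) :=
  ⟨h, fun w => by rw [← mul_assoc, h.eq, mul_assoc]⟩
theorem rs {u c : G} (h : u * u = c) : u * u = c ∧ ∀ w, u * (u * w) = c * w :=
  ⟨h, fun w => by rw [← mul_assoc, h]⟩
theorem r1 {u : G} (h : u * u = 1) : u * u = 1 ∧ ∀ w, u * (u * w) = w :=
  ⟨h, fun w => by rw [← mul_assoc, h, one_mul]⟩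

theorem cn_of {x g : G} (h : Commute x g) : cn x g = x := by
  rw [cn_def, mul_assoc, h.eq, inv_mul_cancel_left]
theorem cm_of {x g : G} (h : cn x g = x) : Commute x g := (rl h).1
theorem cn_mul (x y g : G) : cn (x * y) g = cn x g * cn y g := by simp only [cn_def]; group
theorem cn_inv (x g : G) : cn x⁻¹ g = (cn x g)⁻¹ := by simp only [cn_def]; group
theorem cn_cn (x g k : G) : cn x (g * k) = cn (cn x g) k := by simp only [cn_def]; group

/-- The relations of `S` which do not depend on the type. -/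
structure PR (z a f k m K t b p q : G) : Prop where
  zz : z * z = 1
  aa : a * a = 1
  ff : f * f = 1
  kk : k * k = z
  mm : m * m = a
  KK : K * K = f
  tt : t * t = 1
  bb : b * b = 1
  pp : p * p = k⁻¹
  qq : q * q = m⁻¹
  tq : cn t q = t * m
  Kq : cn K q = K⁻¹ * m
  mq : Commute m q
  kq : cn k q = k * a
  fq : cn f q = f * a
  aq : Commute a q
  zq : Commute z q
  bp : Commute b p
  tp : cn t p = t * k
  Kp : cn K p = K⁻¹ * k
  mp : cn m p = m * z
  kp : Commute k p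
  fp : cn f p = f * z
  ap : Commute a p
  zp : Commute z p
  tb : Commute t b
  Kb : Commute K b
  mb : cn m b = (k * m)⁻¹
  kb : Commute k b
  fb : Commute f b
  ab : cn a b = a * z
  zb : Commute z b
  Kt : cn K t = K * f
  mt : cn m t = m * a
  kt : cn k t = k * z
  ft : Commute f t
  at' : Commute a t
  zt : Commute z t
  mK : Commute m K
  kK : Commute k K
  fK : Commute f K
  aK : Commute a K
  zK : Commute z K
  km : Commute k m
  fm : Commute f m
  am : Commute a m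
  zm : Commute z m
  fk : Commute f k
  ak : Commute a k
  zk : Commute z k
  af : Commute a f
  zf : Commute z f
  za : Commute z a

variable {z a f k m K t b p q : G}

/-- the rewriting rules of the collection process -/
theorem PR.col (h : PR z a f k m K t b p q) :
    (z * z = 1 ∧ ∀ w, z * (z * w) = w) ∧
    (a * a = 1 ∧ ∀ w, a * (a * w) = w) ∧
    (f * f = 1 ∧ ∀ w, f * (f * w) = w) ∧
    (k * k = z ∧ ∀ w, k * (k * w) = z * w) ∧
    (m * m = a ∧ ∀ w, m * (m * w) = a * w) ∧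
    (K * K = f ∧ ∀ w, K * (K * w) = f * w) ∧
    (t * t = 1 ∧ ∀ w, t * (t * w) = w) ∧
    (b * b = 1 ∧ ∀ w, b * (b * w) = w) ∧
    (p * p = k⁻¹ ∧ ∀ w, p * (p * w) = k⁻¹ * w) ∧
    (q * q = m⁻¹ ∧ ∀ w, q * (q * w) = m⁻¹ * w) ∧
    (t * q = q * (t * m) ∧ ∀ w, t * (q * w) = q * (t * m * w)) ∧
    (K * q = q * (K⁻¹ * m) ∧ ∀ w, K * (q * w) = q * (K⁻¹ * m * w)) ∧
    (m * q = q * m ∧ ∀ w, m * (q * w) = q * (m * w)) ∧
    (k * q = q * (k * a) ∧ ∀ w, k * (q * w) = q * (k * a * w)) ∧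
    (f * q = q * (f * a) ∧ ∀ w, f * (q * w) = q * (f * a * w)) ∧
    (a * q = q * a ∧ ∀ w, a * (q * w) = q * (a * w)) ∧
    (z * q = q * z ∧ ∀ w, z * (q * w) = q * (z * w)) ∧
    (b * p = p * b ∧ ∀ w, b * (p * w) = p * (b * w)) ∧
    (t * p = p * (t * k) ∧ ∀ w, t * (p * w) = p * (t * k * w)) ∧
    (K * p = p * (K⁻¹ * k) ∧ ∀ w, K * (p * w) = p * (K⁻¹ * k * w)) ∧
    (m * p = p * (m * z) ∧ ∀ w, m * (p * w) = p * (m * z * w)) ∧
    (k * p = p * k ∧ ∀ w, k * (p * w) = p * (k * w)) ∧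
    (f * p = p * (f * z) ∧ ∀ w, f * (p * w) = p * (f * z * w)) ∧
    (a * p = p * a ∧ ∀ w, a * (p * w) = p * (a * w)) ∧
    (z * p = p * z ∧ ∀ w, z * (p * w) = p * (z * w)) ∧
    (t * b = b * t ∧ ∀ w, t * (b * w) = b * (t * w)) ∧
    (K * b = b * K ∧ ∀ w, K * (b * w) = b * (K * w)) ∧
    (m * b = b * (k * m)⁻¹ ∧ ∀ w, m * (b * w) = b * ((k * m)⁻¹ * w)) ∧
    (k * b = b * k ∧ ∀ w, k * (b * w) = b * (k * w)) ∧
    (f * b = b * f ∧ ∀ w, f * (b * w) = b * (f * w)) ∧
    (a * b = b * (a * z) ∧ ∀ w, a * (b * w) = b * (a * z * w)) ∧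
    (z * b = b * z ∧ ∀ w, z * (b * w) = b * (z * w)) ∧
    (K * t = t * (K * f) ∧ ∀ w, K * (t * w) = t * (K * f * w)) ∧
    (m * t = t * (m * a) ∧ ∀ w, m * (t * w) = t * (m * a * w)) ∧
    (k * t = t * (k * z) ∧ ∀ w, k * (t * w) = t * (k * z * w)) ∧
    (f * t = t * f ∧ ∀ w, f * (t * w) = t * (f * w)) ∧
    (a * t = t * a ∧ ∀ w, a * (t * w) = t * (a * w)) ∧
    (z * t = t * z ∧ ∀ w, z * (t * w) = t * (z * w)) ∧
    (m * K = K * m ∧ ∀ w, m * (K * w) = K * (m * w)) ∧
    (k * K = K * k ∧ ∀ w, k * (K * w) = K * (k * w)) ∧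
    (f * K = K * f ∧ ∀ w, f * (K * w) = K * (f * w)) ∧
    (a * K = K * a ∧ ∀ w, a * (K * w) = K * (a * w)) ∧
    (z * K = K * z ∧ ∀ w, z * (K * w) = K * (z * w)) ∧
    (k * m = m * k ∧ ∀ w, k * (m * w) = m * (k * w)) ∧
    (f * m = m * f ∧ ∀ w, f * (m * w) = m * (f * w)) ∧
    (a * m = m * a ∧ ∀ w, a * (m * w) = m * (a * w)) ∧
    (z * m = m * z ∧ ∀ w, z * (m * w) = m * (z * w)) ∧
    (f * k = k * f ∧ ∀ w, f * (k * w) = k * (f * w)) ∧
    (a * k = k * a ∧ ∀ w, a * (k * w) = k * (a * w)) ∧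
    (z * k = k * z ∧ ∀ w, z * (k * w) = k * (z * w)) ∧
    (a * f = f * a ∧ ∀ w, a * (f * w) = f * (a * w)) ∧
    (z * f = f * z ∧ ∀ w, z * (f * w) = f * (z * w)) ∧
    (z * a = a * z ∧ ∀ w, z * (a * w) = a * (z * w)) :=
  ⟨r1 h.zz, r1 h.aa, r1 h.ff, rs h.kk, rs h.mm, rs h.KK, r1 h.tt, r1 h.bb, rs h.pp, rs h.qq,
    rl h.tq, rl h.Kq, rc h.mq, rl h.kq, rl h.fq, rc h.aq, rc h.zq, rc h.bp, rl h.tp, rl h.Kp,
    rl h.mp, rc h.kp, rl h.fp, rc h.ap, rc h.zp, rc h.tb, rc h.Kb, rl h.mb, rc h.kb, rc h.fb,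
    rl h.ab, rc h.zb, rl h.Kt, rl h.mt, rl h.kt, rc h.ft, rc h.at', rc h.zt, rc h.mK, rc h.kK,
    rc h.fK, rc h.aK, rc h.zK, rc h.km, rc h.fm, rc h.am, rc h.zm, rc h.fk, rc h.ak, rc h.zk,
    rc h.af, rc h.zf, rc h.za⟩

theorem PR.inv (h : PR z a f k m K t b p q) : z⁻¹ = z ∧ a⁻¹ = a ∧ f⁻¹ = f ∧ k⁻¹ = k * z ∧
    m⁻¹ = m * a ∧ K⁻¹ = K * f ∧ t⁻¹ = t ∧ b⁻¹ = b ∧ p⁻¹ = p * k ∧ q⁻¹ = q * m := by
  refine ⟨?_, ?_, ?_, ?_, ?_, ?_, ?_, ?_, ?_, ?_⟩ <;> apply inv_eq_of_mul_eq_one_right <;>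
    simp only [h.col, inv_mul_cancel]

/-- collection -/
macro "col" h:term:max "[" ls:Lean.Parser.Tactic.simpLemma,* "]" : tactic =>
  `(tactic| simp only [mul_assoc, mul_inv_rev, inv_inv, one_mul, mul_one, inv_one,
    PR.col $h, PR.inv $h, $ls,*])

theorem pr_of (h : H4 G) :
    PR h.z h.a h.f (h.x * h.t) h.m (h.y * h.t) h.t h.b h.p h.q := by
  have y1 := h.y1
  have ty : cn h.t h.y = h.t * h.f := by
    rcases h.alt with ⟨e, -⟩ | ⟨e, -⟩ | ⟨e, -⟩
    exacts [absurd e y1, absurd e y1, e]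
  obtain ⟨mp, kq, -⟩ := h.var.resolve_left fun e => y1 e.1
  have hz : ∀ c, Commute c h.a → Commute c h.b → Commute h.z c := fun c h1 h2 => by
    have : h.z = h.a⁻¹ * cn h.a h.b := by rw [h.ab, inv_mul_cancel_left]
    rw [this]
    exact (h1.inv_right.mul_right ((h2.inv_right.mul_right h1).mul_right h2)).symm
  have zt := hz _ h.ta h.tb
  have zf := hz _ h.fa h.fb
  have zx := hz _ h.xa h.xb
  have zy := hz _ h.ya h.yb
  have tx := rl h.tx
  have ty' := rl ty
  have kk : h.x * h.t * (h.x * h.t) = h.z := by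
    simp only [mul_assoc, tx, r1 h.xx, rc zt, r1 h.tt]
  have KK : h.y * h.t * (h.y * h.t) = h.f := by
    simp only [mul_assoc, ty', r1 h.yy, rc h.tf.symm, r1 h.tt]
  have km : Commute (h.x * h.t) h.m := cm_of (by
    rw [cn_mul, h.xm, h.tm]
    simp only [mul_assoc, rc h.ta.symm, r1 h.aa, mul_one])
  have Km : Commute (h.y * h.t) h.m := cm_of (by
    rw [cn_mul, h.ym y1, h.tm]
    simp only [mul_assoc, rc h.ta.symm, r1 h.aa, mul_one])
  have ti : h.t⁻¹ = h.t := inv_eq_of_mul_eq_one_right h.tt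
  have kt : cn (h.x * h.t) h.t = h.x * h.t * h.z := by
    simp only [ti, mul_assoc, r1 h.tt, mul_one, tx]
  have Kt : cn (h.y * h.t) h.t = h.y * h.t * h.f := by
    simp only [ti, mul_assoc, r1 h.tt, mul_one, ty']
  have kK : Commute (h.x * h.t) (h.y * h.t) := cm_of (by
    have : h.x * h.f * h.z * (h.t * h.f) = h.x * h.t * h.z := by
      simp only [mul_assoc, rc zt, rc h.tf.symm, rc zf, r1 h.ff]
    rw [cn_cn, cn_mul h.x h.t, h.xy y1, ty, this, cn_mul _ h.z, kt, cn_of zt, mul_assoc, h.zz,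
      mul_one])
  have mt : cn h.m h.t = h.m * h.a := by
    have := (rl h.tm).1
    rw [cn_def, ti, this]
    simp only [mul_assoc, rc h.ta.symm, r1 h.tt]
  exact
    { zz := h.zz, aa := h.aa, ff := h.ff, kk := kk, mm := h.mm, KK := KK, tt := h.tt, bb := h.bb
      pp := h.pp, qq := h.qq, tq := h.tq, Kq := h.κq y1, mq := h.qm.symm, kq := kq, fq := h.fq
      aq := h.qa.symm, zq := h.qz.symm, bp := h.pb.symm, tp := h.tp, Kp := h.κp y1, mp := mp
      kp := h.pk.symm, fp := h.fp, ap := h.pa.symm, zp := h.pz.symm, tb := h.tb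
      Kb := h.yb.mul_left h.tb, mb := h.mb, kb := h.xb.mul_left h.tb, fb := h.fb, ab := h.ab
      zb := h.zb, Kt := Kt, mt := mt, kt := kt, ft := h.tf.symm, at' := h.ta.symm, zt := zt
      mK := Km.symm, kK := kK, fK := (h.yf.mul_left h.tf).symm, aK := (h.ya.mul_left h.ta).symm
      zK := zy.mul_right zt, km := km, fm := h.mf.symm, am := h.ma.symm, zm := h.mz.symm
      fk := (h.xf.mul_left h.tf).symm, ak := (h.xa.mul_left h.ta).symm, zk := zx.mul_right zt
      af := h.fa.symm, zf := zf, za := h.za }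

/-- The central product of three quaternion groups over a four-group. -/
def TA : Pc where
  w := 8
  m := 255
  L := [(0x3f7e3d7c3b7a397837763574337231702f6e2d6c2b6a296827662564236221601f5e1d5c1b5a195817561554135211500f4e0d4c0b4a094807460544034201407f3e7d3c7b3a793877367534733271306f2e6d2c6b2a692867266524632261205f1e5d1c5b1a591857165514531251104f0e4d0c4b0a49084706450443024100, 0x7f3e7d3c7b3a793877367534733271306f2e6d2c6b2a692867266524632261205f1e5d1c5b1a591857165514531251104f0e4d0c4b0a490847064504430241003f7e3d7c3b7a397837763574337231702f6e2d6c2b6a296827662564236221601f5e1d5c1b5a195817561554135211500f4e0d4c0b4a09480746054403420140),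
    (0x3f3e3d3c3b3a393837363534333231302f2e2d2c2b2a292827262524232221201f1e1d1c1b1a191817161514131211100f0e0d0c0b0a09080706050403020100, 0x1f1e1d1c1b1a191817161514131211100f0e0d0c0b0a090807060504030201003f3e3d3c3b3a393837363534333231302f2e2d2c2b2a29282726252423222120),
    (0x171e151c131a11181f161d141b121910070e050c030a01080f060d040b020900, 0x1f161d141b121910171e151c131a11180f060d040b020900070e050c030a0108),
    (0xf0e0d0c0b0a09080706050403020100, 0xb0a09080f0e0d0c0302010007060504),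
    (0x106030405020700, 0x700050203040106),
    (0x3020100, 0x10203),
    (0x100, 0x100),
    (0x0, 0x0)]
  I := 0xfffefd7cfbfaf978f7f6f574b3b2b130efeeed6cebeae968e7e6e564a3a2a120dfdedd5cdbdad958d7d6d554939291100f0e0d8c0b0a098807060584434241c0bfbebd3cbbbab938b7b6b534f3f2f170afaead2cabaaa928a7a6a524e3e2e1609f9e9d1c9b9a991897969514d3d2d1504f4e4dcc4b4a49c8474645c4030201807f7e7dfc7b7a79f8777675f4333231b06f6e6dec6b6a69e8676665e4232221a05f5e5ddc5b5a59d8575655d4131211908f8e8d0c8b8a890887868504c3c2c1403f3e3dbc3b3a39b8373635b4737271f02f2e2dac2b2a29a8272625a4636261e01f1e1d9c1b1a199817161594535251d0cfcecd4ccbcac948c7c6c54483828100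

/-- The central product of three dihedral groups over a four-group. -/
def TB : Pc where
  w := 8
  m := 255
  L := [(0x3f7e3d7c3b7a397837763574337231702f6e2d6c2b6a296827662564236221601f5e1d5c1b5a195817561554135211500f4e0d4c0b4a094807460544034201407f3e7d3c7b3a793877367534733271306f2e6d2c6b2a692867266524632261205f1e5d1c5b1a591857165514531251104f0e4d0c4b0a49084706450443024100, 0x7f3e7d3c7b3a793877367534733271306f2e6d2c6b2a692867266524632261205f1e5d1c5b1a591857165514531251104f0e4d0c4b0a490847064504430241003f7e3d7c3b7a397837763574337231702f6e2d6c2b6a296827662564236221601f5e1d5c1b5a195817561554135211500f4e0d4c0b4a09480746054403420140),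
    (0x3f3e3d3c3b3a393837363534333231302f2e2d2c2b2a292827262524232221201f1e1d1c1b1a191817161514131211100f0e0d0c0b0a09080706050403020100, 0x3f3e3d3c3b3a393837363534333231302f2e2d2c2b2a292827262524232221201f1e1d1c1b1a191817161514131211100f0e0d0c0b0a09080706050403020100),
    (0x171e151c131a11181f161d141b121910070e050c030a01080f060d040b020900, 0x1f161d141b121910171e151c131a11180f060d040b020900070e050c030a0108),
    (0xf0e0d0c0b0a09080706050403020100, 0xf0e0d0c0b0a09080706050403020100),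
    (0x106030405020700, 0x700050203040106),
    (0x3020100, 0x3020100),
    (0x100, 0x100),
    (0x0, 0x0)]
  I := 0xfffe7dfcfbfa79f8b7b635b4f3f271f0efee6decebea69e8a7a625a4e3e261e01f1e9d1c1b1a99185756d55413129110cfce4dcccbca49c887860584c3c241c0bfbe3dbcbbba39b8f7f675f4b3b231b0afae2dacabaa29a8e7e665e4a3a221a05f5edd5c5b5ad958171695145352d1508f8e0d8c8b8a0988c7c645c4838201807f7efd7c7b7af9783736b5347372f1706f6eed6c6b6ae9682726a5246362e1609f9e1d9c9b9a1998d7d655d4939211904f4ecd4c4b4ac948070685044342c1403f3ebd3c3b3ab9387776f5743332b1302f2ead2c2b2aa9286766e5642322a120dfde5ddcdbda59d897961594d3d251d00f0e8d0c0b0a89084746c54403028100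

instance : TA.OK := ⟨by decide +kernel⟩
instance : TB.OK := ⟨by decide +kernel⟩

set_option maxHeartbeats 1000000 in
theorem relA (h : PR z a f k m K t b p q) (pq : cn p q = k * m * p) :
    TA.Rel [f * k, k * K * p, f * m, m * K * q, f * k * m, m * K * t * p * q, a, z] := by
  simp only [Pc.Rel, TA, RelL, List.length_cons, List.length_nil, Fin.forall_fin_succ,
    IsEmpty.forall_iff, Fin.val_zero, Fin.val_succ, look, Nat.land_eq, Nat.shiftRight_eq,
    Nat.mul_eq, Nat.reduceAdd, Nat.reducePow, Nat.reduceMul, Nat.reduceShiftRight, Nat.reduceAnd,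
    word, Nat.reduceMod, Nat.reduceDiv, Nat.zero_mod, Nat.zero_div, one_mul, mul_one, and_true,
    and_assoc, zero_add, pow_zero, mul_zero, Nat.shiftRight_zero, if_true, if_false, one_ne_zero]
  col h [rl pq, and_self]

set_option maxHeartbeats 1000000 in
theorem relB (h : PR z a f k m K t b p q) (pq : cn p q = z * a * k * m * p) :
    TB.Rel [f * k, K * p, f * m, K * q, f * k * m, m * K * t * p * q, a, z] := by
  simp only [Pc.Rel, TB, RelL, List.length_cons, List.length_nil, Fin.forall_fin_succ,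
    IsEmpty.forall_iff, Fin.val_zero, Fin.val_succ, look, Nat.land_eq, Nat.shiftRight_eq,
    Nat.mul_eq, Nat.reduceAdd, Nat.reducePow, Nat.reduceMul, Nat.reduceShiftRight, Nat.reduceAnd,
    word, Nat.reduceMod, Nat.reduceDiv, Nat.zero_mod, Nat.zero_div, one_mul, mul_one, and_true,
    and_assoc, zero_add, pow_zero, mul_zero, Nat.shiftRight_zero, if_true, if_false, one_ne_zero]
  col h [rl pq, and_self]

end Cfsg.Agent.H39.LTH
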