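import Cfsg.Agent.H39.LTH0

/-! Type HH of project LT: finite facts on the models of `B₀`. -/

set_option autoImplicit false
set_option maxRecDepth 100000

namespace Cfsg.Agent.H39.LTH

open Subgroup Cfsg.Agent.H85 Cfsg.Agent.H93.LT Cfsg.Agent.H96

universe u

variable {G : Type u} [Group G]

section Gen

theorem ind {T : Pc} [T.OK] {P : T.G → Prop} (h1 : P 1) (hg : ∀ i < T.L.length, P (T.el (2 ^ i)))
    (hm : ∀ x y, P x → P y → P (x * y)) (x : T.G) : P x := by
  have := gen_induction T.L (mon_of_chk T.L Pc.chkL_true) (fun a => P (T.el a))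
    (by rw [Pc.el_zero]; exact h1) hg (fun a ha b hb h2 h3 => by
      have e : T.el (mulL T.w T.m T.L a b) = T.el a * T.el b := Pc.el_mul ha hb
      rw [e]; exact hm _ _ h2 h3) x.val x.lt
  rwa [Pc.el_self] at this

theorem lift_el {T : Pc} [T.OK] {xs : List G} (h : T.Rel xs) {n : ℕ} (hn : n < T.n) :
    Pc.lift xs h (T.el n) = word xs n := by rw [Pc.lift_apply, Pc.el_val hn]

theorem cn_one (g : G) : cn 1 g = 1 := by rw [cn_def, mul_one, inv_mul_cancel]

theorem cn_nrm {A : Subgroup G} {x g : G} (hx : x ∈ A) (hg : g ∈ normalizer (A : Set G)) :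
    cn x g ∈ A := by
  have := (mem_normalizer_iff.1 (inv_mem hg) x).1 hx
  rwa [inv_inv] at this

theorem nrm_of [Finite G] {A : Subgroup G} {g : G} (h : ∀ x ∈ A, cn x g ∈ A) :
    g ∈ normalizer (A : Set G) :=
  inv_mem_iff.1 (mem_normalizer_fintype fun x hx => by rw [inv_inv]; exact h x hx)

theorem nrm_closure [Finite G] {S : Set G} {g : G} (h : ∀ s ∈ S, cn s g ∈ closure S) :
    g ∈ normalizer ((closure S : Subgroup G) : Set G) := nrm_of fun x hx => by
  induction hx using closure_induction with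
  | mem s hs => exact h s hs
  | one => rw [cn_one]; exact one_mem _
  | mul x y _ _ h1 h2 => rw [cn_mul]; exact mul_mem h1 h2
  | inv x _ h1 => rw [cn_inv]; exact inv_mem h1

theorem mem_sup_zp {B : Subgroup G} {c u : G} (hc : c ∈ normalizer (B : Set G)) (cc : c * c = 1)
    (hu : u ∈ B ⊔ zpowers c) : u ∈ B ∨ c * u ∈ B := by
  have ci : c⁻¹ = c := inv_eq_of_mul_eq_one_right cc
  have k : ∀ w ∈ B, c * w * c ∈ B := fun w hw => by simpa only [cn_def, ci] using cn_nrm hw hc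
  let K : Subgroup G :=
    { carrier := {u | u ∈ B ∨ c * u ∈ B}
      one_mem' := .inl (one_mem _)
      mul_mem' := by
        rintro x y (h1 | h1) (h2 | h2)
        · exact .inl (mul_mem h1 h2)
        · exact .inr (by simpa only [mul_assoc, r1 cc] using mul_mem (k _ h1) h2)
        · exact .inr (by simpa only [mul_assoc] using mul_mem h1 h2)
        · exact .inl (by simpa only [mul_assoc, r1 cc] using mul_mem (k _ h1) h2)
      inv_mem' := by
        rintro x (h1 | h1)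
        · exact .inl (inv_mem h1)
        · have := k _ (inv_mem h1)
          exact .inr (by simpa only [mul_assoc, r1 cc, mul_inv_rev, ci, mul_one] using this) }
  have : B ⊔ zpowers c ≤ K := sup_le (fun w hw => .inl hw)
    (zpowers_le_of_mem (.inr (by rw [cc]; exact one_mem _)))
  exact this hu

theorem card_le_two [Finite G] {B S : Subgroup G} {c : G} (h : ∀ u ∈ S, u ∈ B ∨ c * u ∈ B) :
    Nat.card S ≤ 2 * Nat.card B := by
  classical
  let g : S → Bool × B := fun u =>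
    if hu : (u : G) ∈ B then (true, ⟨u, hu⟩) else (false, ⟨c * u, (h u u.2).resolve_left hu⟩)
  have : Function.Injective g := fun u v e => by
    by_cases hu : (u : G) ∈ B <;> by_cases hv : (v : G) ∈ B <;> simp [g, hu, hv] at e <;>
      exact Subtype.ext (by simpa using e)
  simpa using Nat.card_le_card_of_injective g this

variable {M : Type*} [Group M] {φ : M →* G} {B : Subgroup G}

theorem pull (hr : φ.range = B) {g : G} (hg : g ∈ normalizer (B : Set G)) (x : M) :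
    ∃ x', φ x' = cn (φ x) g := by
  have : cn (φ x) g ∈ φ.range := hr ▸ cn_nrm (hr ▸ ⟨x, rfl⟩) hg
  exact this

/-- the subgroups `Q_v` are permuted -/
theorem qv (hi : Function.Injective φ) (hr : φ.range = B) {g : G}
    (hg : g ∈ normalizer (B : Set G)) {v v' u u' : M} (hv : φ v' = cn (φ v) g)
    (hu : φ u' = cn (φ u) g) (H : ∀ x, u⁻¹ * cn u x = 1 ∨ u⁻¹ * cn u x = v) (x : M) :
    u'⁻¹ * cn u' x = 1 ∨ u'⁻¹ * cn u' x = v' := by
  obtain ⟨y, hy⟩ := pull hr (inv_mem hg) x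
  have e : φ (u'⁻¹ * cn u' x) = cn (φ (u⁻¹ * cn u y)) g := by
    simp only [map_mul, map_inv, hu, hy, cn_def]; group
  rcases H y with h | h
  · exact .inl (hi (by rw [e, h, map_one, cn_one]))
  · exact .inr (hi (by rw [e, h, hv]))

end Gen

/-! ### Type B -/

/-- the numbers of `i_v` -/
def nI (v : Fin 3) : ℕ := 4 ^ v.val
/-- the numbers of `z`, `a`, `a z` -/
def nV (v : Fin 3) : ℕ := ![128, 64, 192] v

theorem zB : ∀ x : TB.G, (∀ j : Fin 6, TB.el (2 ^ j.val) * x = x * TB.el (2 ^ j.val)) →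
    x = 1 ∨ ∃ v, x = TB.el (nV v) := by decide +kernel
theorem qB1 : ∀ v, ∀ x : TB.G, (TB.el (nI v))⁻¹ * cn (TB.el (nI v)) x = 1 ∨
    (TB.el (nI v))⁻¹ * cn (TB.el (nI v)) x = TB.el (nV v) := by decide +kernel
theorem qB2 : ∀ v, TB.el (nI v) * TB.el (nI v) = TB.el (nV v) := by decide +kernel
theorem qB3 : ∀ v, ∀ u : TB.G, u * u = TB.el (nV v) →
    (∀ j : Fin 6, u⁻¹ * cn u (TB.el (2 ^ j.val)) = 1 ∨
      u⁻¹ * cn u (TB.el (2 ^ j.val)) = TB.el (nV v)) →
    ∃ c : Fin 4, u = TB.el (nI v) * TB.el (64 * c.val) := by decide +kernel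
theorem qB4 : TB.el 213 = TB.el (nI 0) * TB.el (nI 1) * TB.el (nI 2) * TB.el (nV 2) := by
  decide +kernel
theorem qB5 : ∀ c0 c1 c2 : Fin 4, ∃ c : Fin 4, (TB.el 213)⁻¹ *
    (TB.el (nI 0) * TB.el (64 * c0.val) * (TB.el (nI 1) * TB.el (64 * c1.val)) *
      (TB.el (nI 2) * TB.el (64 * c2.val)) * TB.el (nV 2)) = TB.el (64 * c.val) := by
  decide +kernel

/-! ### Type A -/

abbrev W : Type := ZMod 2 × ZMod 2
abbrev Bb : Type := Fin 3 → W

/-- the image in `B₀ / V` -/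
def cl (x : TA.G) : Bb := fun v => (((x.val / 4 ^ v.val : ℕ) : ZMod 2), ((x.val / 4 ^ v.val / 2 : ℕ) : ZMod 2))

/-- the image in `B₀ / V` as a homomorphism -/
noncomputable def clH : TA.G →* Multiplicative Bb :=
  Pc.lift [.ofAdd ![(1, 0), 0, 0], .ofAdd ![(0, 1), 0, 0], .ofAdd ![0, (1, 0), 0],
    .ofAdd ![0, (0, 1), 0], .ofAdd ![0, 0, (1, 0)], .ofAdd ![0, 0, (0, 1)], 1, 1]
    (by decide +kernel)

theorem clH_eq : ∀ x, (clH x).toAdd = cl x := by decide +kernel

theorem cl_mul (x y : TA.G) : cl (x * y) = cl x + cl y := by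
  rw [← clH_eq, map_mul, toAdd_mul, clH_eq, clH_eq]

theorem cl_inv : ∀ x : TA.G, cl x⁻¹ = cl x := by decide +kernel
theorem cl_one : cl 1 = 0 := by decide +kernel
theorem cl_zero : ∀ x : TA.G, cl x = 0 → ∃ c : Fin 4, x = TA.el (64 * c.val) := by decide +kernel
theorem cl_surj (w : Bb) : ∃ x, cl x = w := by
  have : ∀ w : Bb, cl (TA.el ((w 0).1.val + 2 * (w 0).2.val + 4 * (w 1).1.val + 8 * (w 1).2.val +
    16 * (w 2).1.val + 32 * (w 2).2.val)) = w := by decide +kernel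
  exact ⟨_, this w⟩

/-- the action of `t b` -/
noncomputable def τ : TA.G →* TA.G :=
  Pc.lift [TA.el 129, TA.el 3, TA.el 16, TA.el 112, TA.el 4, TA.el 140, TA.el 192, TA.el 128]
    (by decide +kernel)

/-- the linear map with given images of the basis -/
def lin (A : W × W) (w : W) : W := w.1 • A.1 + w.2 • A.2
/-- a block map -/
def blk (s : Fin 3 → Fin 3) (A : Fin 3 → W × W) (w : Bb) : Bb := fun v => lin (A v) (w (s v))
/-- the rotations -/
def Rt (c : ZMod 3) : W × W :=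
  if c = 0 then ((1, 0), (0, 1)) else if c = 1 then ((0, 1), (1, 1)) else ((1, 1), (1, 0))
/-- rotations in the three factors -/
def rot (d : Fin 3 → ZMod 3) : Bb → Bb := blk id fun v => Rt (d v)
/-- the action of `t b` on `B₀ / V` -/
def τb : Bb → Bb := blk ![0, 2, 1] fun _ => ((1, 0), (1, 1))
/-- the action of `ρ` on `B₀ / V` -/
def sh (w : Bb) : Bb := fun v => w (v + 2)

theorem lin_add : ∀ A w w', lin A (w + w') = lin A w + lin A w' := by decide +kernel
theorem lin_zero : ∀ A, lin A 0 = 0 := by decide +kernel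
theorem lin_e1 : ∀ A, lin A (1, 0) = A.1 := by decide +kernel
theorem lin_e2 : ∀ A, lin A (0, 1) = A.2 := by decide +kernel
theorem lin_tri : ∀ A, (∃ c, A = Rt c) ∨ (∃ w, w ≠ 0 ∧ lin A w = 0) ∨
    ∀ w, lin A (lin A w) = w := by decide +kernel
theorem lin_id : ∀ A, (∀ w, lin A w = w) → A = Rt 0 := by decide +kernel
theorem lin_Rt : ∀ c c' w, lin (Rt c') (lin (Rt c) w) = lin (Rt (c + c')) w := by decide +kernel
theorem lin_Rt0 : ∀ w, lin (Rt 0) w = w := by decide +kernel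

theorem zA : ∀ x : TA.G, (∀ j : Fin 6, TA.el (2 ^ j.val) * x = x * TA.el (2 ^ j.val)) →
    x = 1 ∨ ∃ v, x = TA.el (nV v) := by decide +kernel
theorem qA1 : ∀ v, ∀ e : Fin 2, ∀ x : TA.G,
    (TA.el (nI v * 2 ^ e.val))⁻¹ * cn (TA.el (nI v * 2 ^ e.val)) x = 1 ∨
    (TA.el (nI v * 2 ^ e.val))⁻¹ * cn (TA.el (nI v * 2 ^ e.val)) x = TA.el (nV v) := by
  decide +kernel
theorem qA3 : ∀ v, ∀ u : TA.G, (∀ j : Fin 6, u⁻¹ * cn u (TA.el (2 ^ j.val)) = 1 ∨
      u⁻¹ * cn u (TA.el (2 ^ j.val)) = TA.el (nV v)) → ∀ v', v' ≠ v → cl u v' = 0 := by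
  decide +kernel
theorem cl_V : ∀ v, cl (TA.el (nV v)) = 0 := by decide +kernel
theorem cl_I : ∀ v v', cl (TA.el (nI v * 2 ^ 0)) v' = if v' = v then (1, 0) else 0 := by
  decide +kernel
theorem cl_J : ∀ v v', cl (TA.el (nI v * 2 ^ 1)) v' = if v' = v then (0, 1) else 0 := by
  decide +kernel
theorem gensA : ∀ i < TA.L.length, (∃ v, TA.el (2 ^ i) = TA.el (nI v * 2 ^ 0)) ∨
    (∃ v, TA.el (2 ^ i) = TA.el (nI v * 2 ^ 1)) ∨ ∃ v, TA.el (2 ^ i) = TA.el (nV v) := by
  decide +kernel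
theorem cl_τ : ∀ x, cl (τ x) = τb (cl x) := by decide +kernel
theorem τ_inv : ∀ u, τ u * u = 1 → ∃ β, (τ β)⁻¹ * β = u := by decide +kernel
theorem τ_fix : τ (TA.el 20) = TA.el 20 ∧ τ (TA.el 44) = TA.el 44 := by decide +kernel
theorem τ_Y : τ (TA.el 170) = TA.el 170 * TA.el 213 := by decide +kernel
theorem cl_F : cl (TA.el 213) = fun _ => (1, 0) := by decide +kernel
theorem cl_Y : cl (TA.el 170) = fun _ => (0, 1) := by decide +kernel
theorem conj_Y : ∀ x, cl x = rot (fun _ => 1) (cl (TA.el 213)) → ∃ β, x = cn (TA.el 170) β := by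
  decide +kernel
theorem conj_YF : ∀ x, cl x = rot (fun _ => 2) (cl (TA.el 213)) →
    ∃ β, x = cn (τ (TA.el 170)) β := by decide +kernel
theorem rot_YK : ∀ d, cl (TA.el 170 * TA.el 84) = rot d (cl (TA.el 213)) → d 0 ≠ d 1 := by
  decide +kernel
theorem rot_zero (w : Bb) : rot 0 w = w := funext fun _ => lin_Rt0 _
theorem rot_rot (d d' : Fin 3 → ZMod 3) (w : Bb) : rot d' (rot d w) = rot (d + d') w :=
  funext fun _ => lin_Rt _ _ _
theorem τb_τb : ∀ w, τb (τb w) = w := by decide +kernel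
theorem τb_rot (d : Fin 3 → ZMod 3) (w : Bb) : τb (rot d (τb w)) = rot ![-d 0, -d 2, -d 1] w := by
  have : ∀ c w, lin ((1, 0), (1, 1)) (lin (Rt c) (lin ((1, 0), (1, 1)) w)) = lin (Rt (-c)) w := by
    decide +kernel
  funext v
  fin_cases v <;> exact this _ _
theorem sh_rot (d : Fin 3 → ZMod 3) (w : Bb) :
    sh (rot d (sh (sh w))) = rot (fun v => d (v + 2)) w := by
  funext v
  fin_cases v <;> rfl
theorem sh3 (w : Bb) : sh (sh (sh w)) = w := by
  funext v
  fin_cases v <;> rfl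
theorem fin_w : ∀ δ : ZMod 3, δ ≠ 0 →
    ∀ x, cl x = rot ![0, δ, -δ] (cl (TA.el 20)) → ∀ y, cl y = rot ![0, δ, -δ] (cl (TA.el 44)) →
      ((TA.el 20)⁻¹ * x) * ((TA.el 20)⁻¹ * x) ≠ 1 ∧ ((TA.el 44)⁻¹ * y) * ((TA.el 44)⁻¹ * y) ≠ 1 ∧
      ((TA.el 20)⁻¹ * x) * ((TA.el 44)⁻¹ * y) ≠ ((TA.el 44)⁻¹ * y) * ((TA.el 20)⁻¹ * x) := by
  decide +kernel

end Cfsg.Agent.H39.LTH
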