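import Cfsg.Agent.H39.LTH1

/-! Type HH of project LT: coordinates on `B₀`, and type B. -/

set_option autoImplicit false
set_option maxRecDepth 100000

namespace Cfsg.Agent.H39.LTH

open Subgroup Cfsg.Agent.H85 Cfsg.Agent.H93.LT Cfsg.Agent.H96

universe u

variable {G : Type u} [Group G] {z a f k m K t b p q : G}

theorem PR.mem (h : PR z a f k m K t b p q) {B : Subgroup G}
    (hB : B = closure {z, f, a, k, m, K * t, p * t, q * t}) :
    z ∈ B ∧ f ∈ B ∧ a ∈ B ∧ k ∈ B ∧ m ∈ B ∧ K * t ∈ B ∧ p * t ∈ B ∧ q * t ∈ B ∧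
      K * p ∈ B ∧ K * q ∈ B ∧ K * t * p * q ∈ B := by
  have h1 : z ∈ B := hB ▸ subset_closure (by simp)
  have h2 : f ∈ B := hB ▸ subset_closure (by simp)
  have h3 : a ∈ B := hB ▸ subset_closure (by simp)
  have h4 : k ∈ B := hB ▸ subset_closure (by simp)
  have h5 : m ∈ B := hB ▸ subset_closure (by simp)
  have h6 : K * t ∈ B := hB ▸ subset_closure (by simp)
  have h7 : p * t ∈ B := hB ▸ subset_closure (by simp)
  have h8 : q * t ∈ B := hB ▸ subset_closure (by simp)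
  have e : K * p = K * t * (p * t) * k ∧ K * q = K * t * (q * t) * m ∧
      K * t * p * q = K * t * (p * t) * (q * t) * m := by col h [and_self]
  refine ⟨h1, h2, h3, h4, h5, h6, h7, h8, ?_, ?_, ?_⟩
  · rw [e.1]; exact mul_mem (mul_mem h6 h7) h4
  · rw [e.2.1]; exact mul_mem (mul_mem h6 h8) h5
  · rw [e.2.2]; exact mul_mem (mul_mem (mul_mem h6 h7) h8) h5

set_option maxHeartbeats 1000000 in
theorem frB (h : PR z a f k m K t b p q) (pq : cn p q = z * a * k * m * p) (z1 : z ≠ 1)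
    (a1 : a ≠ 1) (az1 : a * z ≠ 1) : ∃ φ : TB.G →* G, Function.Injective φ ∧
      φ.range = closure {z, f, a, k, m, K * t, p * t, q * t} ∧ φ (TB.el 213) = f ∧
      φ (TB.el 64) = a ∧ φ (TB.el 128) = z ∧ φ (TB.el 192) = a * z := by
  have r := relB h pq
  have v : Pc.lift _ r (TB.el 128) = z ∧ Pc.lift _ r (TB.el 213) = f ∧
      Pc.lift _ r (TB.el 64) = a ∧ Pc.lift _ r (TB.el 84) = k ∧ Pc.lift _ r (TB.el 145) = m ∧
      Pc.lift _ r (TB.el 239) = K * t ∧ Pc.lift _ r (TB.el 249) = p * t ∧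
      Pc.lift _ r (TB.el 246) = q * t ∧ Pc.lift _ r (TB.el 192) = a * z := by
    simp only [lift_el r (n := 128) (by decide), lift_el r (n := 213) (by decide),
      lift_el r (n := 64) (by decide), lift_el r (n := 84) (by decide),
      lift_el r (n := 145) (by decide), lift_el r (n := 239) (by decide),
      lift_el r (n := 249) (by decide), lift_el r (n := 246) (by decide),
      lift_el r (n := 192) (by decide), word, Nat.reduceMod, Nat.reduceDiv, Nat.zero_mod,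
      if_true, if_false, one_ne_zero]
    col h [rl pq, and_self]
  obtain ⟨v1, v2, v3, v4, v5, v6, v7, v8, v9⟩ := v
  refine ⟨Pc.lift _ r, Pc.lift_injective _ r fun w w1 _ hc => ?_, le_antisymm ?_ ?_, v2, v3, v1,
    v9⟩
  · obtain ⟨v, rfl⟩ := (zB w fun j => hc _).resolve_left w1
    rw [← Pc.lift_apply _ r]
    fin_cases v
    exacts [v1.trans_ne z1, v3.trans_ne a1, v9.trans_ne az1]
  · obtain ⟨h1, h2, h3, h4, h5, -, -, -, h9, h10, h11⟩ := h.mem rfl
    rw [Pc.range_lift, closure_le]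
    intro x hx
    simp only [List.mem_cons, List.not_mem_nil, or_false, Set.mem_ofPred_eq] at hx
    rcases hx with rfl | rfl | rfl | rfl | rfl | rfl | rfl | rfl
    exacts [mul_mem h2 h4, h9, mul_mem h2 h5, h10, mul_mem (mul_mem h2 h4) h5,
      by simpa only [mul_assoc, SetLike.mem_coe] using mul_mem h5 h11, h3, h1]
  · rw [closure_le]
    rintro x (rfl | rfl | rfl | rfl | rfl | rfl | rfl | rfl)
    exacts [⟨_, v1⟩, ⟨_, v2⟩, ⟨_, v3⟩, ⟨_, v4⟩, ⟨_, v5⟩, ⟨_, v6⟩, ⟨_, v7⟩, ⟨_, v8⟩]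

set_option maxHeartbeats 1000000 in
theorem frA (h : PR z a f k m K t b p q) (pq : cn p q = k * m * p)
    (bq : cn b q = z * a * t * b * p) (z1 : z ≠ 1) (a1 : a ≠ 1) (az1 : a * z ≠ 1) :
    ∃ φ : TA.G →* G, Function.Injective φ ∧
      φ.range = closure {z, f, a, k, m, K * t, p * t, q * t} ∧ φ (TA.el 213) = f ∧
      φ (TA.el 64) = a ∧ φ (TA.el 128) = z ∧ φ (TA.el 192) = a * z ∧ φ (TA.el 170) = K * t ∧
      φ (TA.el 84) = k ∧ ∀ x, φ (τ x) = cn (φ x) (t * b) := by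
  have r := relA h pq
  have v : Pc.lift _ r (TA.el 128) = z ∧ Pc.lift _ r (TA.el 213) = f ∧
      Pc.lift _ r (TA.el 64) = a ∧ Pc.lift _ r (TA.el 84) = k ∧ Pc.lift _ r (TA.el 145) = m ∧
      Pc.lift _ r (TA.el 170) = K * t ∧ Pc.lift _ r (TA.el 168) = p * t ∧
      Pc.lift _ r (TA.el 162) = q * t ∧ Pc.lift _ r (TA.el 192) = a * z := by
    simp only [lift_el r (n := 128) (by decide), lift_el r (n := 213) (by decide),
      lift_el r (n := 64) (by decide), lift_el r (n := 84) (by decide),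
      lift_el r (n := 145) (by decide), lift_el r (n := 170) (by decide),
      lift_el r (n := 168) (by decide), lift_el r (n := 162) (by decide),
      lift_el r (n := 192) (by decide), word, Nat.reduceMod, Nat.reduceDiv, Nat.zero_mod,
      if_true, if_false, one_ne_zero]
    col h [rl pq, and_self]
  obtain ⟨v1, v2, v3, v4, v5, v6, v7, v8, v9⟩ := v
  refine ⟨Pc.lift _ r, Pc.lift_injective _ r fun w w1 _ hc => ?_, le_antisymm ?_ ?_, v2, v3, v1,
    v9, v6, v4, ?_⟩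
  · obtain ⟨v, rfl⟩ := (zA w fun j => hc _).resolve_left w1
    rw [← Pc.lift_apply _ r]
    fin_cases v
    exacts [v1.trans_ne z1, v3.trans_ne a1, v9.trans_ne az1]
  · obtain ⟨h1, h2, h3, h4, h5, -, -, -, h9, h10, h11⟩ := h.mem rfl
    rw [Pc.range_lift, closure_le]
    intro x hx
    simp only [List.mem_cons, List.not_mem_nil, or_false, Set.mem_ofPred_eq] at hx
    rcases hx with rfl | rfl | rfl | rfl | rfl | rfl | rfl | rfl
    exacts [mul_mem h2 h4, by simpa only [mul_assoc, SetLike.mem_coe] using mul_mem h4 h9,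
      mul_mem h2 h5, by simpa only [mul_assoc, SetLike.mem_coe] using mul_mem h5 h10,
      mul_mem (mul_mem h2 h4) h5,
      by simpa only [mul_assoc, SetLike.mem_coe] using mul_mem h5 h11, h3, h1]
  · rw [closure_le]
    rintro x (rfl | rfl | rfl | rfl | rfl | rfl | rfl | rfl)
    exacts [⟨_, v1⟩, ⟨_, v2⟩, ⟨_, v3⟩, ⟨_, v4⟩, ⟨_, v5⟩, ⟨_, v6⟩, ⟨_, v7⟩, ⟨_, v8⟩]
  · refine ind (by rw [map_one, map_one, cn_one]) ?_ fun x y h1 h2 => by
      rw [map_mul, map_mul, h1, h2, map_mul, cn_mul]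
    have e : ∀ i < 8, τ (TA.el (2 ^ i)) = TA.el ([129, 3, 16, 112, 4, 140, 192, 128].getD i 0) ∧
        2 ^ i < TA.n ∧ [129, 3, 16, 112, 4, 140, 192, 128].getD i 0 < TA.n := by decide +kernel
    have e' : ∀ i : Fin 8, word [f * k, k * K * p, f * m, m * K * q, f * k * m,
        m * K * t * p * q, a, z] ([129, 3, 16, 112, 4, 140, 192, 128].getD i.val 0) =
        cn (word [f * k, k * K * p, f * m, m * K * q, f * k * m, m * K * t * p * q, a, z]
          (2 ^ i.val)) (t * b) := by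
      simp only [Fin.forall_fin_succ, IsEmpty.forall_iff, Fin.val_zero, Fin.val_succ,
        List.getD_cons_zero, List.getD_cons_succ, Nat.reduceAdd, Nat.reducePow, word,
        Nat.reduceMod, Nat.reduceDiv, Nat.zero_mod, if_true, if_false, one_ne_zero, zero_add,
        pow_zero]
      col h [rl pq, rl bq, and_self]
    intro i hi
    obtain ⟨e1, e2, e3⟩ := e i hi
    rw [e1, lift_el r e2, lift_el r e3]
    exact e' ⟨i, hi⟩

theorem ne_one (h : Pre G) : h.a ≠ 1 ∧ h.a * h.z ≠ 1 := by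
  have k : ∀ x g : G, cn x g = 1 → x = 1 := fun x g e => by
    have : cn x g = cn 1 g := by rw [e, cn_one]
    exact mul_left_cancel (mul_right_cancel this)
  have a1 : h.a ≠ 1 := fun e => h.z1 (k _ _ (h.zr.trans e))
  exact ⟨a1, fun e => a1 (k _ _ (h.ar.trans e))⟩

theorem B0_eq (h : H4 G) : h.B0 =
    closure {h.z, h.f, h.a, h.x * h.t, h.m, h.y * h.t * h.t, h.p * h.t, h.q * h.t} := by
  rw [mul_assoc h.y, h.tt, mul_one]; rfl

theorem V_mem (h : Pre G) : h.z ∈ h.V1 ∧ h.a ∈ h.V1 :=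
  ⟨subset_closure (by simp), subset_closure (by simp)⟩

/-- **HF2** -/
theorem hf2 : HF2Stmt.{u} := by
  intro G _ _ h pq γ ⟨_, gz, ga, gn⟩
  obtain ⟨a1, az1⟩ := ne_one h.toPre
  obtain ⟨φ, hi, hr, vf, va, vz, vaz⟩ := frB (pr_of h) pq h.z1 a1 az1
  rw [← B0_eq] at hr
  have hv : ∀ v, φ (TB.el (nV v)) = cn (φ (TB.el (nV v))) γ := fun v => by
    refine (cn_of ?_).symm
    fin_cases v
    · exact vz ▸ gz.symm
    · exact va ▸ ga.symm
    · exact vaz ▸ (ga.mul_right gz).symm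
  have hI : ∀ v, ∃ c : Fin 4, cn (φ (TB.el (nI v))) γ = φ (TB.el (nI v) * TB.el (64 * c.val)) :=
    fun v => by
      obtain ⟨u, hu⟩ := pull hr gn (TB.el (nI v))
      obtain ⟨c, rfl⟩ := qB3 v u (hi (by rw [map_mul, hu, ← cn_mul, ← map_mul, qB2, ← hv]))
        fun j => qv hi hr gn (hv v) hu (qB1 v) _
      exact ⟨c, hu.symm⟩
  obtain ⟨c0, h0⟩ := hI 0
  obtain ⟨c1, h1⟩ := hI 1
  obtain ⟨c2, h2⟩ := hI 2
  obtain ⟨c, hc⟩ := qB5 c0 c1 c2
  have e : h.f⁻¹ * cn h.f γ = φ (TB.el (64 * c.val)) := by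
    rw [← hc, map_mul, map_inv, map_mul, map_mul, map_mul, ← h0, ← h1, ← h2, hv, ← cn_mul,
      ← cn_mul, ← cn_mul, ← map_mul, ← map_mul, ← map_mul, ← qB4, vf]
  obtain ⟨m1, m2⟩ := V_mem h.toPre
  rw [e]
  fin_cases c
  · exact (congrArg φ Pc.el_zero).trans (map_one φ) ▸ one_mem _
  · exact va ▸ m2
  · exact vz ▸ m1
  · exact vaz ▸ mul_mem m2 m1

end Cfsg.Agent.H39.LTH
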