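import Cfsg.Agent.H39.LTH2

/-! Type HH of project LT: type A. -/

set_option autoImplicit false
set_option maxRecDepth 100000

namespace Cfsg.Agent.H39.LTH

open Subgroup Cfsg.Agent.H85 Cfsg.Agent.H93.LT Cfsg.Agent.H96

universe u

variable {G : Type u} [Group G]

/-- Coordinates on `B₀` in type A. -/
structure Fr (h : H4 G) (φ : TA.G →* G) : Prop where
  hi : Function.Injective φ
  hr : φ.range = h.B0
  vf : φ (TA.el 213) = h.f
  va : φ (TA.el 64) = h.a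
  vz : φ (TA.el 128) = h.z
  vaz : φ (TA.el 192) = h.a * h.z
  vy : φ (TA.el 170) = h.y
  vk : φ (TA.el 84) = h.x * h.t
  hτ : ∀ x, φ (τ x) = cn (φ x) (h.t * h.b)

theorem exists_fr (h : H4 G) (pq : cn h.p h.q = h.x * h.t * h.m * h.p) : ∃ φ, Fr h φ := by
  obtain ⟨a1, az1⟩ := ne_one h.toPre
  have bq : cn h.b h.q = h.z * h.a * h.t * h.b * h.p := by
    obtain ⟨-, -, ⟨-, e⟩ | ⟨e, -⟩⟩ := h.var.resolve_left fun e => h.y1 e.1
    · exact e
    · rw [pq, mul_left_inj, mul_left_inj, right_eq_mul, h.za.eq] at e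
      exact absurd e az1
  obtain ⟨φ, h1, h2, h3, h4, h5, h6, h7, h8, h9⟩ := frA (pr_of h) pq bq h.z1 a1 az1
  exact ⟨φ, h1, h2.trans (B0_eq h).symm, h3, h4, h5, h6,
    by rw [h7, mul_assoc, h.tt, mul_one], h8, h9⟩

/-- `g` normalises `B₀` and acts on `B₀ / V` as `L`. -/
structure Lin (h : H4 G) (φ : TA.G →* G) (g : G) (L : Bb → Bb) : Prop where
  nrm : g ∈ normalizer (h.B0 : Set G)
  act : ∀ x x', φ x' = cn (φ x) g → cl x' = L (cl x)

/-- `C_X(V) ∩ N(B₀)` -/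
def Γ (h : H4 G) : Subgroup G :=
  h.X ⊓ (centralizer {h.z} ⊓ centralizer {h.a}) ⊓ normalizer (h.B0 : Set G)

variable {h : H4 G} {φ : TA.G →* G}

theorem gam_iff {γ : G} : h.Gam γ ↔ γ ∈ Γ h := by
  simp only [H3.Gam, Γ, mem_inf, mem_centralizer_singleton_iff, commute_iff_eq, and_assoc]

theorem Γ_conj {γ g z0 a0 : G} (hγ : γ ∈ Γ h) (hg : g ∈ normalizer (h.B0 : Set G))
    (hz : cn z0 g = h.z) (ha : cn a0 g = h.a) (cz : Commute γ z0) (ca : Commute γ a0) :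
    cn γ g ∈ Γ h := by
  have hn : γ ∈ normalizer (h.B0 : Set G) := hγ.2
  have hn' : cn γ g ∈ normalizer (h.B0 : Set G) := mul_mem (mul_mem (inv_mem hg) hn) hg
  refine ⟨⟨?_, ?_, ?_⟩, hn'⟩
  · exact h.Xn.conj_mem' _ hγ.1.1 g
  · exact mem_centralizer_singleton_iff.2 (by rw [← hz, ← cn_mul, ← cn_mul, cz.eq])
  · exact mem_centralizer_singleton_iff.2 (by rw [← ha, ← cn_mul, ← cn_mul, ca.eq])

theorem Lin.congr {g : G} {L L' : Bb → Bb} (H : Lin h φ g L) (e : ∀ w, L w = L' w) :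
    Lin h φ g L' := ⟨H.nrm, fun x x' hx => (H.act x x' hx).trans (e _)⟩

theorem Lin.inv {g : G} {L L' : Bb → Bb} (H : Lin h φ g L) (e : ∀ w, L' (L w) = w) :
    Lin h φ g⁻¹ L' :=
  ⟨inv_mem H.nrm, fun x x' hx => by
    rw [H.act x' x (by rw [hx, ← cn_cn, inv_mul_cancel, cn_def, inv_one, one_mul, mul_one]), e]⟩

theorem Bb_two : ∀ w : Bb, w + w = 0 := by decide +kernel

theorem B0_mem (h : H4 G) : h.z ∈ h.B0 ∧ h.f ∈ h.B0 ∧ h.a ∈ h.B0 ∧ h.x * h.t ∈ h.B0 ∧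
    h.m ∈ h.B0 ∧ h.y ∈ h.B0 ∧ h.p * h.t ∈ h.B0 ∧ h.q * h.t ∈ h.B0 := by
  refine ⟨?_, ?_, ?_, ?_, ?_, ?_, ?_, ?_⟩ <;> exact subset_closure (by simp)

theorem B0_le_N2 (h : H4 G) : h.B0 ≤ h.N2 := by
  have r : ∀ u ∈ ({h.z, h.f, h.a, h.x, h.y, h.m, h.t} : Set G), u ∈ h.N2 := fun u hu =>
    mem_sup_left (subset_closure hu)
  have s : ∀ u ∈ ({h.p, h.q} : Set G), u ∈ h.N2 := fun u hu => mem_sup_right (subset_closure hu)
  refine (closure_le _).2 ?_
  rintro u (rfl | rfl | rfl | rfl | rfl | rfl | rfl | rfl)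
  exacts [r _ (by simp), r _ (by simp), r _ (by simp), mul_mem (r _ (by simp)) (r _ (by simp)),
    r _ (by simp), r _ (by simp), mul_mem (s _ (by simp)) (r _ (by simp)),
    mul_mem (s _ (by simp)) (r _ (by simp))]

theorem N2_le_S (h : H4 G) : h.N2 ≤ h.S :=
  sup_le_sup_left (Subgroup.closure_mono (Set.subset_insert _ _)) _

theorem N2_le (h : H4 G) : h.N2 ≤ h.B0 ⊔ zpowers h.t := by
  obtain ⟨h1, h2, h3, h4, h5, h6, h7, h8⟩ := B0_mem h
  have ht : h.t ∈ h.B0 ⊔ zpowers h.t := mem_sup_right (mem_zpowers _)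
  have k : ∀ u, u * h.t ∈ h.B0 → u ∈ h.B0 ⊔ zpowers h.t := fun u hu =>
    (mul_mem_cancel_right ht).1 (mem_sup_left hu)
  refine sup_le ((closure_le _).2 ?_) ((closure_le _).2 ?_)
  · rintro u (rfl | rfl | rfl | rfl | rfl | rfl | rfl)
    exacts [mem_sup_left h1, mem_sup_left h2, mem_sup_left h3, k _ h4, mem_sup_left h6,
      mem_sup_left h5, ht]
  · rintro u (rfl | rfl)
    exacts [k _ h7, k _ h8]

variable [Finite G]

theorem t_nrm (h : H4 G) : h.t ∈ normalizer (h.B0 : Set G) := by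
  have P := pr_of h
  obtain ⟨h1, h2, h3, h4, h5, h6, h7, h8, -⟩ := P.mem (B0_eq h)
  rw [B0_eq] at *
  generalize h.x * h.t = k at *
  generalize h.y * h.t = K at *
  have e : cn (K * h.t) h.t = K * h.t * h.f ∧ cn (h.p * h.t) h.t = h.p * h.t * k ∧
      cn (h.q * h.t) h.t = h.q * h.t * h.m := by col P [and_self]
  refine nrm_closure ?_
  rintro u (rfl | rfl | rfl | rfl | rfl | rfl | rfl | rfl)
  · rwa [cn_of P.zt]
  · rwa [cn_of P.ft]
  · rwa [cn_of P.at']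
  · rw [P.kt]; exact mul_mem h4 h1
  · rw [P.mt]; exact mul_mem h5 h3
  · rw [e.1]; exact mul_mem h6 h2
  · rw [e.2.1]; exact mul_mem h7 h4
  · rw [e.2.2]; exact mul_mem h8 h5

theorem ρ_nrm (h : H4 G) : h.ρ ∈ normalizer (h.B0 : Set G) := by
  have bx : h.B0 ≤ h.X := le_sup_left.trans h.syl0.le
  refine nrm_of fun u hu => ?_
  have h1 : cn u h.ρ ∈ h.N2 := cn_nrm (B0_le_N2 h hu) h.ρN
  refine (mem_sup_zp (t_nrm h) h.tt (N2_le h h1)).resolve_right fun e => h.tX ?_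
  exact (mul_mem_cancel_right (h.Xn.conj_mem' _ (bx hu) _)).1 (bx e)

namespace Fr

variable (F : Fr h φ)
include F

omit [Finite G] in
theorem mem (x : TA.G) : φ x ∈ h.B0 := F.hr ▸ ⟨x, rfl⟩

omit [Finite G] in
theorem mul {g g' : G} {L L' : Bb → Bb} (H : Lin h φ g L) (H' : Lin h φ g' L') :
    Lin h φ (g * g') fun w => L' (L w) :=
  ⟨mul_mem H.nrm H'.nrm, fun x x'' hx => by
    obtain ⟨x', e⟩ := pull F.hr H.nrm x
    rw [H'.act x' x'' (by rw [hx, e, cn_cn]), H.act x x' e]⟩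

omit [Finite G] in
theorem uniq {g : G} {L L' : Bb → Bb} (H : Lin h φ g L) (H' : Lin h φ g L') (w : Bb) :
    L w = L' w := by
  obtain ⟨x, rfl⟩ := cl_surj w
  obtain ⟨x', e⟩ := pull F.hr H.nrm x
  rw [← H.act x x' e, H'.act x x' e]

omit [Finite G] in
theorem inner {u : G} (hu : u ∈ h.B0) : Lin h φ u id := by
  refine ⟨le_normalizer hu, fun x x' e => ?_⟩
  obtain ⟨y, rfl⟩ : u ∈ φ.range := F.hr ▸ hu
  obtain rfl : x' = y⁻¹ * x * y := F.hi (by rw [e, map_mul, map_mul, map_inv])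
  rw [cl_mul, cl_mul, cl_inv, add_right_comm, Bb_two, zero_add, id]

omit [Finite G] in
theorem pow {g : G} {L : Bb → Bb} (H : Lin h φ g L) (n : ℕ) : Lin h φ (g ^ n) L^[n] := by
  induction n with
  | zero => rw [pow_zero]; exact F.inner (one_mem _)
  | succ n ih =>
    rw [pow_succ]
    exact (F.mul ih H).congr fun w => (Function.iterate_succ_apply' _ _ _).symm

theorem lin_τ : Lin h φ (h.t * h.b) τb :=
  ⟨nrm_of fun u hu => by
    obtain ⟨y, rfl⟩ : u ∈ φ.range := F.hr ▸ hu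
    rw [← F.hτ]; exact F.mem _,
  fun x x' e => by rw [F.hi (e.trans (F.hτ x).symm), cl_τ]⟩

theorem b_nrm : h.b ∈ normalizer (h.B0 : Set G) :=
  (mul_mem_cancel_left (t_nrm h)).1 F.lin_τ.nrm

omit [Finite G] in
theorem exists_blk {g : G} (hg : g ∈ normalizer (h.B0 : Set G)) {s : Fin 3 → Fin 3}
    (hs : Function.Bijective s) (hv : ∀ v, φ (TA.el (nV v)) = cn (φ (TA.el (nV (s v)))) g) :
    ∃ A, Lin h φ g (blk s A) := by
  choose u hu using fun (v : Fin 3) (e : Fin 2) => pull F.hr hg (TA.el (nI (s v) * 2 ^ e.val))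
  have hz : ∀ v e v', v' ≠ v → cl (u v e) v' = 0 := fun v e =>
    qA3 v _ fun j => qv F.hi F.hr hg (hv v) (hu v e) (qA1 (s v) e) _
  refine ⟨fun v => (cl (u v 0) v, cl (u v 1) v), hg, ?_⟩
  have key : ∀ x, ∃ x', φ x' = cn (φ x) g ∧
      cl x' = blk s (fun v => (cl (u v 0) v, cl (u v 1) v)) (cl x) := by
    refine ind ⟨1, by rw [map_one, cn_one], ?_⟩ (fun i hi => ?_) ?_
    · rw [cl_one]; exact funext fun v => (lin_zero _).symm
    · rcases gensA i hi with ⟨v0, e⟩ | ⟨v0, e⟩ | ⟨v0, e⟩ <;> obtain ⟨v, rfl⟩ := hs.2 v0 <;> rw [e]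
      · refine ⟨u v 0, hu v 0, funext fun v' => ?_⟩
        rw [blk, cl_I]
        by_cases hv' : v' = v
        · rw [if_pos (congrArg s hv'), lin_e1, hv']
        · rw [if_neg fun e => hv' (hs.1 e), lin_zero, hz v 0 v' hv']
      · refine ⟨u v 1, hu v 1, funext fun v' => ?_⟩
        rw [blk, cl_J]
        by_cases hv' : v' = v
        · rw [if_pos (congrArg s hv'), lin_e2, hv']
        · rw [if_neg fun e => hv' (hs.1 e), lin_zero, hz v 1 v' hv']
      · refine ⟨_, hv v, ?_⟩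
        rw [cl_V, cl_V]; exact funext fun v => (lin_zero _).symm
    · rintro x y ⟨x', e1, e2⟩ ⟨y', e3, e4⟩
      refine ⟨x' * y', by rw [map_mul, map_mul, e1, e3, cn_mul], ?_⟩
      rw [cl_mul, cl_mul, e2, e4]
      exact funext fun v => (lin_add _ _ _).symm
  intro x x' e
  obtain ⟨x'', e1, e2⟩ := key x
  rw [F.hi (e.trans e1.symm), e2]

/-- the centre of `S₀` -/
theorem cen_S0 {c : G} (hc : c ∈ h.S0) (H : ∀ u ∈ h.S0, Commute c u) : c = 1 ∨ c = h.z := by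
  have P := pr_of h
  obtain ⟨a1, az1⟩ := ne_one h.toPre
  have ha : h.a ∈ h.B0 := (B0_mem h).2.2.1
  have nab : ¬ Commute h.a h.b := fun e => h.z1 (by
    have := h.ab
    rwa [cn_of e, left_eq_mul] at this)
  have ca : ∀ u ∈ h.B0, Commute h.a u := fun u hu => by
    obtain ⟨y, rfl⟩ : u ∈ φ.range := F.hr ▸ hu
    have : ∀ y : TA.G, TA.el 64 * y = y * TA.el 64 := by decide +kernel
    rw [← F.va]
    exact Commute.map (this y) φ
  have hb : Commute c h.b := H _ (mem_sup_right (mem_zpowers _))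
  rcases mem_sup_zp F.b_nrm h.bb hc with e | e
  · obtain ⟨y, rfl⟩ : c ∈ φ.range := F.hr ▸ e
    rcases zA y fun j => F.hi (by
      rw [map_mul, map_mul]; exact (H _ (mem_sup_left (F.mem _))).symm) with rfl | ⟨v, rfl⟩
    · exact .inl (map_one φ)
    · fin_cases v
      · exact .inr F.vz
      · exact absurd (F.va ▸ hb) nab
      · have : Commute (h.a * h.z) h.b := F.vaz ▸ hb
        exact absurd (by simpa using this.mul_left h.zb.inv_left) nab
  · have := (ca _ e).mul_right (H _ (mem_sup_left ha)).symm.inv_right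
    exact absurd (by simpa using this) nab

/-- `B₀` is a Sylow subgroup of `C_X(V)` -/
theorem two_mem {γ : G} (hγ : γ ∈ Γ h) {j : ℕ} (e : γ ^ 2 ^ j = 1) : γ ∈ h.B0 := by
  by_contra hn
  have : Fact (Nat.Prime 2) := ⟨Nat.prime_two⟩
  obtain ⟨a1, az1⟩ := ne_one h.toPre
  have bx : h.B0 ≤ h.X := le_sup_left.trans h.syl0.le
  have p0 : IsPGroup 2 h.B0 := h.syl0.isPGroup.to_le le_sup_left
  have p1 : IsPGroup 2 (zpowers γ) := fun ⟨x, n, hx⟩ => ⟨j, Subtype.ext (by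
    simp only [SubmonoidClass.mk_pow, OneMemClass.coe_one, ← hx]
    rw [← zpow_natCast, ← zpow_mul, mul_comm, zpow_mul, zpow_natCast, e, one_zpow])⟩
  have p2 : IsPGroup 2 (h.B0 ⊔ zpowers γ : Subgroup G) :=
    p0.to_sup_of_normal_left' p1 (zpowers_le_of_mem hγ.2)
  have c1 : Nat.card h.S0 ≤ 2 * Nat.card h.B0 :=
    card_le_two fun u hu => mem_sup_zp F.b_nrm h.bb hu
  have c2 : 2 * Nat.card h.B0 ≤ Nat.card (h.B0 ⊔ zpowers γ : Subgroup G) := by
    obtain ⟨c, hc⟩ := card_dvd_of_le (le_sup_left : h.B0 ≤ h.B0 ⊔ zpowers γ)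
    have h0 : c ≠ 0 := fun e => Nat.card_pos.ne' (by rw [hc, e, mul_zero])
    have h1 : c ≠ 1 := fun e => hn (by
      rw [eq_of_le_of_card_ge (le_sup_left : h.B0 ≤ h.B0 ⊔ zpowers γ) (by rw [hc, e, mul_one])]
      exact mem_sup_right (mem_zpowers _))
    rw [hc, mul_comm]
    exact Nat.mul_le_mul_left _ (by omega)
  have s := h.syl0.of_card_le p2 (sup_le bx (zpowers_le_of_mem hγ.1.1)) (c1.trans c2)
  obtain ⟨g, -, hg⟩ := s.exists_cj_eq h.syl0
  have key : ∀ v ∈ h.B0, v ≠ 1 → h.B0 ⊔ zpowers γ ≤ centralizer {v} → g * v * g⁻¹ = h.z :=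
    fun v hv v1 hc => (F.cen_S0 (hg ▸ conj_mem_cj (mem_sup_left hv)) fun u hu => by
      rw [← hg] at hu
      obtain ⟨w, hw, rfl⟩ := hu
      exact Commute.map (mem_centralizer_singleton_iff.1 (hc hw)).symm
        (MulAut.conj g)).resolve_left (by simpa using v1)
  have cV : ∀ n, (∀ y : TA.G, y * TA.el n = TA.el n * y) → h.B0 ≤ centralizer {φ (TA.el n)} :=
    fun n H u hu => by
      obtain ⟨y, rfl⟩ : u ∈ φ.range := F.hr ▸ hu
      exact mem_centralizer_singleton_iff.2 (by rw [← map_mul, H, map_mul])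
  have e1 := key _ (B0_mem h).1 h.z1
    (sup_le (F.vz ▸ cV 128 (by decide +kernel)) (zpowers_le_of_mem hγ.1.2.1))
  have e2 := key _ (B0_mem h).2.2.1 a1
    (sup_le (F.va ▸ cV 64 (by decide +kernel)) (zpowers_le_of_mem hγ.1.2.2))
  exact az1 (by rw [mul_left_cancel (mul_right_cancel (e2.trans e1.symm)), h.zz])

theorem odd_mem {γ : G} (hγ : γ ∈ Γ h) : ∃ i, γ ^ (2 * i + 1) ∈ h.B0 := by
  obtain ⟨j, o, ⟨i, rfl⟩, e⟩ := Nat.exists_eq_two_pow_mul_odd (orderOf_pos γ).ne'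
  exact ⟨i, F.two_mem (pow_mem hγ _) (j := j) (by rw [← pow_mul, mul_comm, ← e, pow_orderOf_eq_one])⟩

theorem exists_rot {γ : G} (hγ : γ ∈ Γ h) : ∃ d, Lin h φ γ (rot d) := by
  obtain ⟨-, gz, ga, gn⟩ := gam_iff.2 hγ
  obtain ⟨A, hA⟩ := F.exists_blk gn Function.bijective_id fun v => by
    refine (cn_of ?_).symm
    fin_cases v
    · exact F.vz ▸ gz.symm
    · exact F.va ▸ ga.symm
    · exact F.vaz ▸ (ga.mul_right gz).symm
  obtain ⟨i, hi⟩ := F.odd_mem hγ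
  have it : ∀ n w v, (blk id A)^[n] w v = (lin (A v))^[n] (w v) := fun n => by
    induction n with
    | zero => exact fun _ _ => rfl
    | succ n ih => exact fun w v => ih _ v
  have e : ∀ v w, (lin (A v))^[2 * i + 1] w = w := fun v w =>
    (it _ (fun _ => w) v).symm.trans (congrFun (F.uniq (F.pow hA _) (F.inner hi) _) v)
  have : ∀ v, ∃ c, A v = Rt c := fun v => by
    rcases lin_tri (A v) with H | ⟨w, w0, H⟩ | H
    · exact H
    · have := e v w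
      rw [Function.iterate_succ_apply, H, Function.iterate_fixed (lin_zero _)] at this
      exact absurd this.symm w0
    · refine ⟨0, lin_id _ fun w => ?_⟩
      have := e v w
      rwa [Function.iterate_succ_apply, Function.iterate_mul,
        Function.iterate_fixed (H _)] at this
  choose d hd using this
  exact ⟨d, by rwa [funext hd] at hA⟩

omit [Finite G] F in
theorem ρ_act (h : H4 G) : cn h.z h.ρ = h.a ∧ cn h.a h.ρ = h.a * h.z ∧
    cn (h.a * h.z) h.ρ = h.z ∧ cn h.f h.ρ = h.f ∧ cn h.y h.ρ = h.y := by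
  have r : ∀ u ∈ ({h.z, h.f, h.a, h.x, h.y, h.m, h.t} : Set G), cn u h.ρ = cn u h.r := fun u hu =>
    h.ρR u (subset_closure hu)
  have e1 : cn h.z h.ρ = h.a := (r _ (by simp)).trans h.zr
  have e2 : cn h.a h.ρ = h.a * h.z := (r _ (by simp)).trans h.ar
  refine ⟨e1, e2, ?_, (r _ (by simp)).trans (cn_of h.rf.symm),
    (r _ (by simp)).trans (cn_of h.yr.symm)⟩
  rw [cn_mul, e1, e2, mul_assoc, h.za.eq, ← mul_assoc, h.aa, one_mul]

theorem lin_ρ : Lin h φ h.ρ sh := by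
  obtain ⟨e1, e2, e3, e4, e5⟩ := ρ_act h
  obtain ⟨A, hA⟩ := F.exists_blk (ρ_nrm h) (s := fun v => v + 2) (by decide) fun v => by
    fin_cases v
    · exact F.vz.trans (e3.symm.trans (congrArg (cn · h.ρ) F.vaz.symm))
    · exact F.va.trans (e1.symm.trans (congrArg (cn · h.ρ) F.vz.symm))
    · exact F.vaz.trans (e2.symm.trans (congrArg (cn · h.ρ) F.va.symm))
  have h1 := hA.act _ _ (show φ (TA.el 213) = cn (φ (TA.el 213)) h.ρ by rw [F.vf, e4])
  have h2 := hA.act _ _ (show φ (TA.el 170) = cn (φ (TA.el 170)) h.ρ by rw [F.vy, e5])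
  rw [cl_F] at h1
  rw [cl_Y] at h2
  have : ∀ v, A v = Rt 0 := fun v =>
    Prod.ext ((lin_e1 _).symm.trans (congrFun h1 v).symm)
      ((lin_e2 _).symm.trans (congrFun h2 v).symm)
  exact hA.congr fun w => funext fun v => by rw [blk, this, lin_Rt0]; rfl

theorem conj_ρ {γ : G} {d : Fin 3 → ZMod 3} (hγ : γ ∈ Γ h) (H : Lin h φ γ (rot d)) :
    cn γ h.ρ ∈ Γ h ∧ Lin h φ (cn γ h.ρ) (rot fun v => d (v + 2)) := by
  obtain ⟨e1, -, e3, -⟩ := ρ_act h
  obtain ⟨-, gz, ga, -⟩ := gam_iff.2 hγ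
  exact ⟨Γ_conj hγ (ρ_nrm h) e3 e1 (ga.mul_right gz) gz,
    (F.mul (F.mul (F.lin_ρ.inv (L' := fun w => sh (sh w)) sh3) H) F.lin_ρ).congr (sh_rot d)⟩

theorem conj_τ {γ : G} {d : Fin 3 → ZMod 3} (hγ : γ ∈ Γ h) (H : Lin h φ γ (rot d)) :
    cn γ (h.t * h.b) ∈ Γ h ∧ Lin h φ (cn γ (h.t * h.b)) (rot ![-d 0, -d 2, -d 1]) := by
  obtain ⟨-, gz, ga, -⟩ := gam_iff.2 hγ
  have P := pr_of h
  have e : cn h.z (h.t * h.b) = h.z ∧ cn (h.a * h.z) (h.t * h.b) = h.a := by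
    generalize h.x * h.t = k at *
    generalize h.y * h.t = K at *
    col P [and_self]
  exact ⟨Γ_conj hγ F.lin_τ.nrm e.1 e.2 gz (ga.mul_right gz),
    (F.mul (F.mul (F.lin_τ.inv τb_τb) H) F.lin_τ).congr (τb_rot d)⟩

omit [Finite G] in
theorem mem_V {x : TA.G} : φ x ∈ h.V1 ↔ cl x = 0 := by
  constructor
  · intro hx
    have : h.V1 ≤ clH.ker.map φ := (closure_le _).2 (by
      rintro u (rfl | rfl)
      · exact ⟨TA.el 128, (show clH (TA.el 128) = 1 by decide +kernel), F.vz⟩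
      · exact ⟨TA.el 64, (show clH (TA.el 64) = 1 by decide +kernel), F.va⟩)
    obtain ⟨y, hy, e⟩ := this hx
    rw [← F.hi e, ← clH_eq, show clH y = 1 from hy, toAdd_one]
  · intro hx
    obtain ⟨c, rfl⟩ := cl_zero x hx
    obtain ⟨m1, m2⟩ := V_mem h.toPre
    fin_cases c
    · exact (congrArg φ Pc.el_zero).trans (map_one φ) ▸ one_mem _
    · exact F.va ▸ m2
    · exact F.vz ▸ m1
    · exact F.vaz ▸ mul_mem m2 m1

theorem step1 (H1 : ∃ γ, h.Gam γ ∧ h.f⁻¹ * cn h.f γ ∉ h.V1)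
    (H2 : IsConj h.f h.y → ∃ γ, h.Gam γ ∧ (h.y * (h.x * h.t))⁻¹ * cn h.f γ ∈ h.V1) :
    ∃ γ ∈ Γ h, ∃ d, Lin h φ γ (rot d) ∧ d 1 ≠ d 2 := by
  have sft : ∀ γ ∈ Γ h, ∀ d, Lin h φ γ (rot d) → d 0 ≠ d 1 →
      ∃ γ ∈ Γ h, ∃ d, Lin h φ γ (rot d) ∧ d 1 ≠ d 2 := fun γ hγ d H e =>
    ⟨_, (F.conj_ρ hγ H).1, _, (F.conj_ρ hγ H).2, e⟩
  obtain ⟨γ, hγ, hf⟩ := H1
  rw [gam_iff] at hγ
  obtain ⟨d, H⟩ := F.exists_rot hγ
  by_cases e12 : d 1 = d 2
  swap
  · exact ⟨γ, hγ, d, H, e12⟩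
  by_cases e01 : d 0 = d 1
  swap
  · exact sft γ hγ d H e01
  obtain ⟨c, rfl⟩ : ∃ c, d = fun _ => c := ⟨d 0, funext fun v => by
    fin_cases v
    exacts [rfl, e01.symm, (e01.trans e12).symm]⟩
  obtain ⟨x, hx⟩ := pull F.hr H.nrm (TA.el 213)
  have hc := H.act _ _ hx
  rw [F.vf] at hx
  have cj : ∀ u g : G, IsConj u (cn u g) := fun u g => isConj_iff.2 ⟨g⁻¹, by rw [inv_inv]⟩
  have : IsConj h.f h.y := by
    rcases (by decide : ∀ c : ZMod 3, c = 0 ∨ c = 1 ∨ c = 2) c with rfl | rfl | rfl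
    · refine absurd ?_ hf
      rw [← hx, ← F.vf, ← map_inv, ← map_mul, F.mem_V, cl_mul, cl_inv, hc]
      exact (congrArg _ (rot_zero _)).trans (Bb_two _)
    · obtain ⟨β, rfl⟩ := conj_Y x hc
      rw [map_mul, map_mul, map_inv, F.vy] at hx
      exact (hx ▸ cj h.f γ).trans (cj h.y (φ β)).symm
    · obtain ⟨β, rfl⟩ := conj_YF x hc
      rw [map_mul, map_mul, map_inv, F.hτ, F.vy] at hx
      exact (hx ▸ cj h.f γ).trans ((cj h.y _).trans (cj _ (φ β))).symm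
  obtain ⟨γ', hγ', hf'⟩ := H2 this
  rw [gam_iff] at hγ'
  obtain ⟨d', H'⟩ := F.exists_rot hγ'
  obtain ⟨x', hx'⟩ := pull F.hr H'.nrm (TA.el 213)
  have hc' := H'.act _ _ hx'
  rw [← F.vf, ← hx', ← F.vy, ← F.vk, ← map_mul, ← map_inv, ← map_mul, F.mem_V, cl_mul, cl_inv,
    hc'] at hf'
  refine sft γ' hγ' d' H' (rot_YK d' ?_)
  rw [eq_neg_of_add_eq_zero_left hf', neg_eq_of_add_eq_zero_left (Bb_two _)]

theorem step2 {γ : G} {d : Fin 3 → ZMod 3} (hγ : γ ∈ Γ h) (H : Lin h φ γ (rot d))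
    (hd : d 1 ≠ d 2) : ∃ l δ, δ ≠ 0 ∧ Lin h φ l (rot ![0, δ, -δ]) ∧ Commute (h.t * h.b) l := by
  have tt : h.t * h.b * (h.t * h.b) = 1 := by
    rw [h.tb.symm.mul_mul_mul_comm, h.tt, h.bb, one_mul]
  obtain ⟨h1, H1⟩ := F.conj_τ hγ H
  have h2 := mul_mem hγ h1
  have H2 : Lin h φ (γ * cn γ (h.t * h.b)) (rot ![0, d 1 - d 2, -(d 1 - d 2)]) :=
    (F.mul H H1).congr fun w => by
      rw [rot_rot]
      congr 1
      funext v
      fin_cases v <;> simp [sub_eq_add_neg, add_comm]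
  generalize γ * cn γ (h.t * h.b) = l at h2 H2
  have hδ : d 1 - d 2 ≠ 0 := sub_ne_zero.2 hd
  generalize d 1 - d 2 = δ at H2 hδ
  obtain ⟨h3, H3⟩ := F.conj_τ h2 H2
  have h4 := mul_mem (inv_mem h3) h2
  have H4 : Lin h φ ((cn l (h.t * h.b))⁻¹ * l) id :=
    (F.mul (H3.inv (L' := rot ![0, -δ, δ]) fun w => by
      rw [rot_rot]
      refine (congrArg (rot · w) ?_).trans (rot_zero w)
      funext v
      fin_cases v <;> simp) H2).congr fun w => by
      rw [rot_rot]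
      refine (congrArg (rot · w) ?_).trans (rot_zero w)
      funext v
      fin_cases v <;> simp
  have e0 : cn (h.t * h.b) l = h.t * h.b * ((cn l (h.t * h.b))⁻¹ * l) := by
    simp only [cn_def]; group
  generalize (cn l (h.t * h.b))⁻¹ * l = ε at h4 H4 e0
  have hτ := F.hτ
  generalize h.t * h.b = s at *
  have si : s⁻¹ = s := inv_eq_of_mul_eq_one_right tt
  have sq : ∀ g, cn s g * cn s g = 1 := fun g => by rw [← cn_mul, tt, cn_one]
  have e1 : SemiconjBy s ε ε⁻¹ := by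
    have := sq l
    rw [e0] at this
    rw [SemiconjBy, eq_inv_of_mul_eq_one_left this, mul_inv_rev, si]
  obtain ⟨i, hi⟩ := F.odd_mem h4
  have e2 : cn s (l * ε ^ i) = s * ε ^ (2 * i + 1) := by
    rw [cn_cn, e0, cn_def, ← mul_assoc, ← inv_pow, ← (e1.pow_right i).eq]; group
  obtain ⟨U, hU⟩ : ε ^ (2 * i + 1) ∈ φ.range := F.hr ▸ hi
  obtain ⟨β, hβ⟩ := τ_inv U (F.hi (by
    have := sq (l * ε ^ i)
    rw [e2, ← hU] at this
    rw [map_mul, hτ, map_one, cn_def, si, ← this]; group))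
  have e3 : cn s (φ β) = s * ε ^ (2 * i + 1) := by
    rw [← hU, ← hβ, map_mul, map_inv, hτ]
    simp only [cn_def]; group
  refine ⟨l * ε ^ i * (φ β)⁻¹, δ, hδ,
    (F.mul (F.mul H2 (F.pow H4 i)) (F.inner (inv_mem (F.mem β)))).congr fun w => ?_, cm_of ?_⟩
  · simp only [Function.iterate_id, id]
  · rw [cn_cn, e2, ← e3, ← cn_cn, mul_inv_cancel, cn_def, inv_one, one_mul, mul_one]

end Fr

omit [Finite G] in
/-- elements of order four of `D₈` commute -/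
theorem d8 (h : H4 G) {u v : G} (hu : u ∈ h.D0) (hv : v ∈ h.D0) (u2 : u * u ≠ 1)
    (v2 : v * v ≠ 1) : u * v = v * u := by
  have P := pr_of h
  generalize h.x * h.t = k at P
  generalize h.y * h.t = K at P
  let D : Subgroup G :=
    { carrier := {u | u = 1 ∨ u = h.z ∨ u = h.a ∨ u = h.a * h.z ∨ u = h.b ∨ u = h.b * h.z ∨
        u = h.b * h.a ∨ u = h.b * (h.a * h.z)}
      one_mem' := .inl rfl
      mul_mem' := by
        rintro x y (rfl | rfl | rfl | rfl | rfl | rfl | rfl | rfl)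
          (rfl | rfl | rfl | rfl | rfl | rfl | rfl | rfl) <;>
        simp only [Set.mem_ofPred_eq, mul_assoc, one_mul, mul_one, P.zz, P.aa, P.bb,
          r1 P.aa, r1 P.bb, rl P.ab, rc P.zb, rc P.za, true_or, or_true]
      inv_mem' := by
        rintro x (rfl | rfl | rfl | rfl | rfl | rfl | rfl | rfl) <;>
        simp only [Set.mem_ofPred_eq, mul_assoc, inv_one, mul_inv_rev, P.inv, r1 P.zz, mul_one,
          rl P.ab, rc P.zb, rc P.za, true_or, or_true] }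
  have hD : h.D0 ≤ D := (closure_le _).2 (by
    rintro x (rfl | rfl)
    exacts [.inr (.inr (.inl rfl)), .inr (.inr (.inr (.inr (.inl rfl))))])
  have key : ∀ u ∈ h.D0, u * u ≠ 1 → u = h.b * h.a ∨ u = h.b * (h.a * h.z) := fun u hu u2 => by
    rcases hD hu with rfl | rfl | rfl | rfl | rfl | rfl | e | e
    iterate 6 exact absurd (by col P []) u2
    exacts [.inl e, .inr e]
  rcases key u hu u2 with rfl | rfl <;> rcases key v hv v2 with rfl | rfl <;> col P []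

/-- **HF3** -/
theorem hf3 (hk : KitStmt.{u}) : HF3Stmt.{u} := by
  intro G _ _ h pq H1 H2
  have Kt := hk G h.toHyp
  obtain ⟨φ, F⟩ := exists_fr h pq
  obtain ⟨γ, hγ, d, H, hd⟩ := F.step1 H1 H2
  obtain ⟨l, δ, hδ, Hl, cl'⟩ := F.step2 hγ H hd
  obtain ⟨g, hg, hR⟩ := Kt.into (h.t * h.b) (h.S ⊓ centralizer {h.t * h.b})
    (isConj_iff.2 ⟨h.n⁻¹, by rw [inv_inv]; exact h.tn⟩) (h.sylS.isPGroup.to_le inf_le_left)
    inf_le_right
  have hc : cn l g ∈ centralizer ({h.t} : Set G) :=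
    mem_centralizer_singleton_iff.2 (by rw [← hg, ← cn_mul, ← cn_mul, cl'.eq])
  have key : ∀ U, τ U = U → ∃ x, cl x = rot ![0, δ, -δ] (cl U) ∧ cn (φ (U⁻¹ * x)) g ∈ h.D0 :=
    fun U hU => by
      obtain ⟨x, hx⟩ := pull F.hr Hl.nrm U
      have c1 : Commute (φ U) (h.t * h.b) := cm_of (by rw [← F.hτ, hU])
      have c2 : Commute (φ x) (h.t * h.b) := by
        rw [hx]; exact (cl'.inv_right.mul_right c1.symm).symm.mul_left cl'.symm
      have m : ∀ y, Commute (φ y) (h.t * h.b) → cn (φ y) g ∈ h.T := fun y hy =>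
        hR _ ⟨N2_le_S h (B0_le_N2 h (F.mem y)), mem_centralizer_singleton_iff.2 hy⟩
      have e : cn (cn (φ U) g) (cn l g) = cn (φ x) g := by
        rw [hx]; simp only [cn_def]; group
      have := Kt.pi _ hc _ (m U c1) (e ▸ m x c2)
      exact ⟨x, Hl.act _ _ hx, by rwa [e, ← cn_inv, ← cn_mul, ← map_inv, ← map_mul] at this⟩
  obtain ⟨x, hx, mx⟩ := key _ τ_fix.1
  obtain ⟨y, hy, my⟩ := key _ τ_fix.2
  obtain ⟨w1, w2, w3⟩ := fin_w δ hδ x hx y hy
  have inj : ∀ u v, cn (φ u) g = cn (φ v) g → u = v := fun u v e =>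
    F.hi (mul_left_cancel (mul_right_cancel e))
  refine w3 (inj _ _ ?_)
  rw [map_mul _ _ ((TA.el 44)⁻¹ * y), map_mul _ _ ((TA.el 20)⁻¹ * x), cn_mul, cn_mul]
  refine d8 h mx my (fun e => w1 (inj _ _ ?_)) fun e => w2 (inj _ _ ?_) <;>
    rw [map_mul, cn_mul, e, map_one, cn_one]

end Cfsg.Agent.H39.LTH
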