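import Cfsg.Agent.H48.M2Defs

/-! Project M2L, piece USM: the singular subspace attached to an involution, in coordinates. -/

set_option autoImplicit false

namespace Cfsg.Agent.H48.M2

open Cfsg Subgroup Cfsg.Agent.H48 Cfsg.Agent.H48.Rec Cfsg.Agent.H49 Cfsg.Agent.H95.Par
open Cfsg.Agent.H97.Gr (DD ZZ)
open Cfsg.Agent.H97.Yt (M)

namespace USM

theorem z2_eq : ∀ x y : ZMod 2, (x = 0 ↔ y = 0) → x = y := by decide

theorem z2_sub : ∀ x y z : ZMod 2, x - y - z = x + y + z := by decide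

theorem z2_add : ∀ x : ZMod 2, x + 0 + x = 0 := by decide

/-- perpendicularity in coordinates -/
theorem key (fm : FormStmt) {A : Subgroup M} {w : M} {α β γ : M → V8} {t : V8 → V8 → V8}
    {q1 q3 : V8 → ZMod 2} (hA : Ark A) (md : Md A w α β γ t q1 q3) {u c : M}
    (hu : u ∈ A ⊓ Qz w) (hz : u ∈ ZZ) (hc : c ∈ A ⊓ Qz w) :
    c ∈ Qz u ↔ B3 q3 (α u) (α c) = 0 := by
  obtain ⟨ν, q, F⟩ := fm A hA
  have h0 : ν 0 = 1 := by simpa using F.add 0 0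
  have h1 : ∀ a, ν a ∈ A ⊓ Qz w → q3 (α (ν a)) = q a := fun a ha => z2_eq _ _ (by
    rw [md.a_q _ ha, F.sing, ← h0, F.inj.eq_iff])
  obtain ⟨x, rfl⟩ := (F.mem u).1 hu.1
  obtain ⟨y, rfl⟩ := (F.mem c).1 hc.1
  have h2 := mul_mem hu hc
  rw [F.perp x hz, B3, ← md.a_add _ hu _ hc, ← F.add, h1 _ (F.add x y ▸ h2), h1 _ hu, h1 _ hc,
    QuadraticMap.polar, z2_sub]

end USM

open USM in
theorem usm_of (qa : QaStmt) (pf : PfStmt) (fm : FormStmt) : UsmStmt := by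
  intro A w α β γ t q1 q3 hA hw hz tri md p sp
  have P := pf A hA
  have AC : A ≤ CP A := fun a ha b hb => P.el.cm hb ha
  obtain ⟨p₀, h0, a, ha, rfl⟩ := (coe_mul_of_right_le_normalizer_left (Qz w) A
    fun a ha => n_Qz hz (P.el.cm ha hw)).subset sp.qa
  have sp : Sp A w (p₀ * a) := sp
  have h1 : p₀ ∈ CP A := by simpa using mul_mem sp.cp (inv_mem (AC ha))
  have hp : p₀ ∈ Qz w ⊓ CP A := ⟨h0, h1⟩
  have h2 : p₀ ∉ A := fun h => sp.out (mul_mem h ha)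
  have h3 : β p₀ ≠ 0 := fun h => h2 ((md.b_ker _ hp).1 h)
  have h4 : q1 (β p₀) = 0 := (md.b_q _ hp).2 (by
    have := sp.sq
    rwa [mul_assoc, ← mul_assoc a, h1 a ha, mul_assoc, P.el a ha, mul_one] at this)
  obtain ⟨-, l2, -, l4⟩ := tri.l1 _ h3 h4
  have h5 : ∀ x ∈ CP A, x * (p₀ * a) * x⁻¹ * (p₀ * a)⁻¹ = x * p₀ * x⁻¹ * p₀⁻¹ := fun x hx => by
    calc _ = x * p₀ * x⁻¹ * (x * a * x⁻¹ * a⁻¹) * p₀⁻¹ := by group
      _ = _ := by rw [← hx a ha]; group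
  have h6 : ∀ u ∈ A, u ∈ ZZ → (p₀ * a ∈ Qz u ⊔ A ↔ ∀ x ∈ CP A, x * p₀ * x⁻¹ * p₀⁻¹ ∈ Qz u) :=
    fun u hu huz => (qa A hA u hu huz _ sp.cp).trans (forall₂_congr fun x hx => by rw [h5 x hx])
  have α1 : α 1 = 0 := (md.a_ker 1 (one_mem _)).2 (Or.inl rfl)
  let K : Subgroup M :=
    { carrier := {a | a ∈ A ⊓ Qz w ∧ α a ∈ Nb t q3 (β p₀)}
      mul_mem' := fun {x y} hx hy =>
        ⟨mul_mem hx.1 hy.1, md.a_add _ hx.1 _ hy.1 ▸ l4 _ hx.2 _ hy.2⟩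
      one_mem' := ⟨one_mem _, fun g => by
        have := (md.a_q 1 (one_mem _)).2 (Or.inl rfl)
        rw [α1] at this ⊢
        rw [B3, zero_add, this, z2_add]⟩
      inv_mem' := fun {x} hx => by rwa [inv_eq_of_mul_eq_one_right (P.el x hx.1.1)] }
  refine ⟨p₀, hp, by simpa using ha, h3, h4, fun c => ⟨fun hc => ?_, fun hc => ?_⟩⟩
  · refine (show Us A (p₀ * a) ≤ K from (closure_le K).2 fun u ⟨hu, huz, h⟩ => ?_) hc
    have h7 := (h6 u hu huz).1 h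
    have h8 : u ∈ Qz w := by
      by_contra h8
      refine h2 ((P.d2 w hw hz).le ⟨h0, fun j hj => ?_⟩).1
      by_contra h9
      exact h8 (sym huz hz ((lx hz).commutator_eq_z hj.1 h0 h9 ▸ h7 j hj.2))
    refine ⟨⟨hu, h8⟩, fun g => ?_⟩
    obtain ⟨x, hx, rfl⟩ := md.c_sur g
    obtain ⟨e1, e2⟩ := md.act x hx p₀ hp
    rw [← e2]
    exact (key fm hA md ⟨hu, h8⟩ huz e1).1 (h7 x hx)
  · by_cases c1 : c = 1
    · rw [c1]; exact one_mem _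
    have hcz : c ∈ ZZ := ((md.a_q c hc.1).1 (l2 _ hc.2)).resolve_left c1
    refine subset_closure ⟨hc.1.1, hcz, (h6 c hc.1.1 hcz).2 fun x hx => ?_⟩
    obtain ⟨e1, e2⟩ := md.act x hx p₀ hp
    exact (key fm hA md hc.1 hcz e1).2 (e2 ▸ hc.2 (γ x))

end Cfsg.Agent.H48.M2
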