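import Cfsg.Agent.H95.ParBase

/-! The O'Nan group and its triple cover are not subgroups of the Monster: the main argument. -/

set_option autoImplicit false
set_option linter.style.haveILetI false

namespace Cfsg.Agent.H39.ParO

open Cfsg Subgroup Cfsg.Agent.H48 Cfsg.Agent.H48.Rec Cfsg.Agent.H49 Cfsg.Agent.H95.Par
open Cfsg.Agent.H97.Gr (DD ZZ)
open Cfsg.Agent.H97.Yt (M)
open Cfsg.Agent.H74.Ms (VV mkV nV T2L mk_eq mk_surj card_VV)
open scoped commutatorElement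

/-- the action on the lattice modulo two -/
noncomputable def aV (g : Co0) : AddMonoid.End VV :=
  QuotientAddGroup.map T2L T2L (DistribSMul.toAddMonoidHom Lam g) fun v hv => by
    have := cong.smul hv g
    rwa [co_zero] at this

theorem aV_mk (g : Co0) (v : Lam) : aV g (mkV v) = mkV (g • v) := rfl

/-- the action as a homomorphism -/
noncomputable def actV : Co0 →* AddMonoid.End VV where
  toFun := aV
  map_one' := AddMonoidHom.ext fun x => by
    obtain ⟨v, rfl⟩ := mk_surj x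
    exact congrArg mkV (one_smul _ v)
  map_mul' a b := AddMonoidHom.ext fun x => by
    obtain ⟨v, rfl⟩ := mk_surj x
    exact congrArg mkV (mul_smul a b v)

theorem center_le_ker : center Co0 ≤ actV.ker := fun g hg => by
  rcases mem_center_Co0.1 hg with rfl | rfl
  · exact one_mem _
  · refine AddMonoidHom.ext fun x => ?_
    obtain ⟨v, rfl⟩ := mk_surj x
    show aV negEl (mkV v) = mkV v
    rw [aV_mk, negEl_smul, mk_eq]
    exact (cong_neg v).symm

/-- the action of the Conway group -/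
noncomputable def act1 : Spor.Co1 →* AddMonoid.End VV :=
  QuotientGroup.lift (center Co0) actV center_le_ker

theorem mem_fx_aV {g : Co0} {v : Lam} : mkV v ∈ fx (aV g) ↔ H49.Fix g v := by
  rw [mem_fx, aV_mk, eq_comm, mk_eq, H49.Fix]

theorem fx_aV (g : Co0) : fx (aV g) = (nV g).ker := AddSubgroup.ext fun x => by
  obtain ⟨v, rfl⟩ := mk_surj x
  rw [mem_fx_aV, H74.Ms.mem_ker]

theorem add_self (x : VV) : x + x = 0 := by
  obtain ⟨v, rfl⟩ := mk_surj x
  rw [← map_add, ← map_zero mkV, eq_comm, mk_eq]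
  exact ⟨v, (zero_add _).symm⟩

section Mod

variable {C V : Type} [Group C] [AddCommGroup V] (ρ : C →* AddMonoid.End V) {X : C}

theorem ap_mul (a b : C) (v : V) : ρ (a * b) v = ρ a (ρ b v) := by rw [map_mul]; rfl

theorem pres {a : C} (h : X * a = a * X) : ∀ v ∈ fx (ρ X), ρ a v ∈ fx (ρ X) := fun v hv => by
  rw [mem_fx] at hv ⊢
  rw [← ap_mul, h, ap_mul, hv]

theorem triv {a : C} (h : a ∈ zpowers X) : ∀ v ∈ fx (ρ X), ρ a v = v := fun v hv => by
  let S : Subgroup C :=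
    { carrier := {a | ρ a v = v}
      one_mem' := by show ρ 1 v = v; rw [map_one]; rfl
      mul_mem' := fun {a b} ha hb => by
        show ρ (a * b) v = v
        rw [ap_mul, hb, ha]
      inv_mem' := fun {a} ha => by
        show ρ a⁻¹ v = v
        conv_lhs => rw [← ha]
        rw [← ap_mul, inv_mul_cancel, map_one]; rfl }
  exact (zpowers_le.2 (show X ∈ S from hv)) h

theorem card_le [Finite V] {k a b : C} (hk : X * k = k * X) (hb : X * b = b * X)
    (e : k * a * k⁻¹ * b⁻¹ ∈ zpowers X) :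
    Nat.card ↥(fx (ρ X) ⊓ fx (ρ a)) ≤ Nat.card ↥(fx (ρ X) ⊓ fx (ρ b)) := by
  refine Nat.card_le_card_of_injective (fun v => ⟨ρ k v.1, pres ρ hk _ v.2.1, ?_⟩) fun v w h => ?_
  · have h1 := triv ρ e _ (pres ρ hb _ (pres ρ hk _ v.2.1))
    have h2 : ρ a v.1 = v.1 := v.2.2
    rw [← ap_mul, ← ap_mul, show k * a * k⁻¹ * b⁻¹ * b * k = k * a by group, ap_mul, h2] at h1
    exact h1.symm
  · have := congrArg (fun x => ρ k⁻¹ x.1) h
    simp only [← ap_mul, inv_mul_cancel, map_one] at this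
    exact Subtype.ext this

theorem card_eq [Finite V] {k a b : C} (hk : X * k = k * X) (ha : X * a = a * X)
    (hb : X * b = b * X) (e : k * a * k⁻¹ * b⁻¹ ∈ zpowers X) :
    Nat.card ↥(fx (ρ X) ⊓ fx (ρ b)) = Nat.card ↥(fx (ρ X) ⊓ fx (ρ a)) := by
  have hk' : Commute X k := hk
  refine le_antisymm (card_le ρ (k := k⁻¹) hk'.inv_right ha ?_) (card_le ρ hk hb e)
  obtain ⟨n, hn⟩ := inv_mem e
  have c : X ^ n * k = k * X ^ n := hk'.zpow_left n
  refine ⟨n, ?_⟩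
  calc X ^ n = k⁻¹ * (X ^ n * k) := by rw [c]; group
    _ = _ := by
      have hn : X ^ n = (k * a * k⁻¹ * b⁻¹)⁻¹ := hn
      rw [hn]; group

theorem nine [Finite V] (f73 : F73Stmt) (dec3 : Dec3Stmt) (two : ∀ v : V, v + v = 0)
    {y h h' k1 k2 k3 : C} (xy : X * y = y * X) (xh : X * h = h * X) (xh' : X * h' = h' * X)
    (xk1 : X * k1 = k1 * X) (xk2 : X * k2 = k2 * X) (xk3 : X * k3 = k3 * X) (y7 : y ^ 7 = 1)
    (fpf : ∀ v, ρ y v = v → v = 0) (hy : h * y * h⁻¹ = y ^ 2) (h3 : h ^ 3 ∈ zpowers X)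
    (h'3 : h' ^ 3 ∈ zpowers X) (hh' : ⁅h, h'⁆ ∈ zpowers X)
    (e1 : k1 * h * k1⁻¹ * h'⁻¹ ∈ zpowers X) (e2 : k2 * h * k2⁻¹ * (h * h')⁻¹ ∈ zpowers X)
    (e3 : k3 * h * k3⁻¹ * (h * h * h')⁻¹ ∈ zpowers X) : ∃ n, Nat.card (fx (ρ X)) = n ^ 9 := by
  have cube : ∀ a : C, a ^ 3 ∈ zpowers X → ∀ v ∈ fx (ρ X), ρ a (ρ a (ρ a v)) = v := fun a ha v hv => by
    rw [← ap_mul, ← ap_mul, ← pow_three']
    exact triv ρ ha v hv
  have h1 := f73 V (fx (ρ X)) (ρ y) (ρ h) two (pres ρ xy) (pres ρ xh)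
    (fun v _ => by rw [← map_pow, y7, map_one]; rfl) (fun v _ => fpf v) (cube h h3)
    (fun v _ => by
      rw [← ap_mul, ← ap_mul, ← ap_mul, ← sq, ← hy, inv_mul_cancel_right])
  have h2 := dec3 V (fx (ρ X)) (ρ h) (ρ h') two (pres ρ xh) (pres ρ xh') (cube h h3) (cube h' h'3)
    (fun v hv => by
      have := triv ρ hh' _ (pres ρ xh' _ (pres ρ xh v hv))
      rw [← ap_mul, ← ap_mul, commutatorElement_def,
        show h * h' * h⁻¹ * h'⁻¹ * h' * h = h * h' by group, ap_mul] at this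
      exact this)
  have cx : Commute X h := xh
  have cx' : Commute X h' := xh'
  rw [← map_mul, ← map_mul, ← map_mul, card_eq ρ xk1 xh xh' e1,
    card_eq ρ xk2 xh (cx.mul_right cx') e2, card_eq ρ xk3 xh ((cx.mul_right cx).mul_right cx') e3,
    h1] at h2
  refine ⟨Nat.card ↥(fx (ρ X) ⊓ fx (ρ h) ⊓ fx (ρ h')), ?_⟩
  have hp : 0 < Nat.card ↥(fx (ρ X) ⊓ fx (ρ h)) := Nat.card_pos
  rw [h1]
  generalize Nat.card ↥(fx (ρ X) ⊓ fx (ρ h) ⊓ fx (ρ h')) = n at *
  generalize Nat.card ↥(fx (ρ X) ⊓ fx (ρ h)) = N at *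
  have : n ^ 3 = N := Nat.eq_of_mul_eq_mul_left (pow_pos hp 3) (by rw [h2]; ring)
  rw [← this]; ring

end Mod

variable {z : M} {θ : Th z} {R : Lam → M → Prop}

theorem odd_lift (h : Ch z θ R) {m : M} (hm : m * z = z * m) {k : ℕ} (hk : Odd k)
    (e : m ^ k = 1) : ∃ g, Ass θ g m ∧ g ^ k = 1 := by
  obtain ⟨g, a⟩ := exists_ass (θ := θ) hm
  have ap : ∀ n : ℕ, Ass θ (g ^ n) (m ^ n) := fun n => by
    induction n with
    | zero => simpa using h.ass_one (one_mem _)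
    | succ n ih => rw [pow_succ, pow_succ]; exact ih.mul a
  rcases mem_center_Co0.1 ((h.ass_mem_iff (ap k)).1 (e ▸ one_mem _)) with e | e
  · exact ⟨g, a, e⟩
  · refine ⟨g * negEl, ⟨a.1, Eq.trans ?_ a.2⟩, ?_⟩
    · exact mk1_eq.2 (.inr rfl)
    · have c : Commute g negEl := mem_center_iff.1 negEl_mem_center g
      obtain ⟨j, rfl⟩ := hk
      rw [c.mul_pow, e, pow_succ, pow_mul, sq, negEl_mul_self, one_pow, one_mul, negEl_mul_self]

theorem comm_lift (h : Ch z θ R) {a b : Co0} {m n : M} (ha : Ass θ a m) (hb : Ass θ b n) {k : ℕ}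
    (hk : Odd k) (e : a ^ k = 1) (c : n * m = m * n) : b * a = a * b := by
  simpa using h.unlift hk e ha hb (k := 1) (by rw [c]; simp)

theorem pow_nine {n d : ℕ} (h : 2 ^ d = n ^ 9) : 9 ∣ d := by
  obtain ⟨e, -, rfl⟩ := (Nat.dvd_prime_pow Nat.prime_two).1
    (h ▸ dvd_pow_self n (by norm_num) : n ∣ 2 ^ d)
  rw [← pow_mul] at h
  exact ⟨e, by rw [Nat.pow_right_injective le_rfl h, mul_comm]⟩

/-- **O** -/
theorem oStmt (t7 : T7Stmt) (f73 : F73Stmt) (dec3 : Dec3Stmt) (sub7 : Sub7Stmt) (t3 : T3Stmt)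
    (inv : InvStmt) (det : DetStmt) : OStmt := by
  refine fun x => ⟨fun D => ?_⟩
  obtain ⟨θ, R, h⟩ := chart (mem_ZZ_of_order D.ss D.s1 D.hm)
  have cs : ∀ {g : M}, g * D.u = D.u * g → g * D.s = D.s * g := fun {g} e => by
    have c : Commute g D.u := e
    rw [← D.uu]
    exact c.mul_right c
  have xs := cs D.xu
  have ys := cs D.uy.symm
  have y7 : D.y ^ 7 = 1 := D.oy ▸ pow_orderOf_eq_one _
  obtain ⟨gx, ax, x3⟩ := odd_lift h xs (by decide) D.x3
  obtain ⟨gy, ay, gy7⟩ := odd_lift h ys (by decide) y7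
  obtain ⟨gu, au⟩ := exists_ass (θ := θ) (cs rfl)
  haveI : Fact (Nat.Prime 7) := ⟨by norm_num⟩
  have oy : orderOf gy = 7 := orderOf_eq_prime gy7 fun e => by
    have hQ := (h.ass_mem_iff ay).2 (e ▸ one_mem _)
    have h4 : D.y ^ 4 = 1 := by
      rw [show 4 = 2 * 2 from rfl, pow_mul, sq D.y]
      rcases h.hQ.sq hQ with e | e
      · rw [e, one_pow]
      · rw [e, sq, D.ss]
    have := orderOf_dvd_of_pow_eq_one h4
    rw [D.oy] at this
    norm_num at this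
  have fy := t7 _ θ R h gy D.y ay oy D.oy D.yc
  let ρ := act1.comp θ
  have hρ : ∀ {g : Co0} {m : M} (a : Ass θ g m), ρ ⟨m, a.1⟩ = aV g := fun {g m} a => by
    show act1 (θ ⟨m, a.1⟩) = aV g
    rw [← a.2]; rfl
  have mc : ∀ {g : M}, g * D.s = D.s * g → g ∈ centralizer ({D.s} : Set M) :=
    mem_centralizer_singleton_iff.2
  have zp : ∀ {g : centralizer ({D.s} : Set M)}, g.1 ∈ zpowers x → g ∈ zpowers ⟨x, ax.1⟩ :=
    fun {g} ⟨n, hn⟩ => ⟨n, Subtype.ext hn⟩
  obtain ⟨n, hn⟩ := nine ρ (X := ⟨x, ax.1⟩) f73 dec3 add_self (y := ⟨D.y, ay.1⟩)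
    (h := ⟨D.h, mc D.hs⟩) (h' := ⟨D.h', mc D.h's⟩) (k1 := ⟨D.k1, mc D.k1s⟩) (k2 := ⟨D.k2, mc D.k2s⟩)
    (k3 := ⟨D.k3, mc D.k3s⟩) (Subtype.ext D.xy) (Subtype.ext D.xh) (Subtype.ext D.xh')
    (Subtype.ext D.xk1) (Subtype.ext D.xk2) (Subtype.ext D.xk3) (Subtype.ext y7)
    (fun v hv => by
      obtain ⟨v, rfl⟩ := mk_surj v
      rw [hρ ay] at hv
      rw [← map_zero mkV, eq_comm, mk_eq]
      exact fy v (mem_fx_aV.1 hv))
    (Subtype.ext D.hy) (zp D.h3) (zp D.h'3) (zp D.hh') (zp D.e1) (zp D.e2) (zp D.e3)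
  rw [hρ ax] at hn
  obtain ⟨d, -, hd⟩ := (Nat.dvd_prime_pow Nat.prime_two).1
    (card_VV ▸ (fx (aV gx)).card_addSubgroup_dvd_card)
  have h9 := pow_nine (hd.symm.trans hn)
  have fx0 : Fpf gx := by
    have d0 : d = 0 := by
      by_contra d0
      have d7 : 7 ≤ d := le_trans (by norm_num) (Nat.le_of_dvd (Nat.pos_of_ne_zero d0) h9)
      by_cases e : gx = 1
      · have : fx (aV gx) = ⊤ := eq_top_iff.2 fun v _ => by
          obtain ⟨v, rfl⟩ := mk_surj v
          rw [mem_fx, aV_mk, e, one_smul]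
        rw [this, AddSubgroup.card_top, card_VV] at hd
        have := Nat.pow_right_injective le_rfl hd
        omega
      · obtain ⟨v, hv, hv'⟩ := sub7 (fx (aV gx)) (hd ▸ Nat.pow_le_pow_right two_pos d7)
        rw [fx_aV] at hd
        rcases t3 gx v (orderOf_eq_prime x3 e) hv (mem_fx_aV.1 hv') with ⟨-, e⟩ | ⟨-, e⟩ <;>
        · have := Nat.pow_right_injective le_rfl (hd.symm.trans e)
          omega
    intro v hv
    rw [d0, pow_zero, AddSubgroup.card_eq_one] at hd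
    have := mem_fx_aV.2 hv
    rw [hd, AddSubgroup.mem_bot, ← map_zero mkV, eq_comm, mk_eq] at this
    exact this
  have uQ : D.u ∉ Qz D.s := fun hu => by
    obtain ⟨v, r⟩ := h.ex1 _ hu
    rcases (h.zero_iff r).1 (fx0 v (h.cong_of_comm r ax D.xu)) with e | e
    · exact D.s1 (by rw [← D.uu, e, one_mul])
    · exact D.s1 (by rw [← D.uu, e, D.ss])
  rcases H74.Ms.sq_cases' h au (D.uu ▸ h.hQ.mem) with e | e
  · refine uQ ((h.ass_mem_iff au).2 (inv gy gu (.inl oy) fy e ?_))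
    rw [← map_mul, ← map_mul, comm_lift h ay au (by decide) gy7 D.uy]
  · have key : ∀ m ∈ closure {g | g * D.u = D.u * g ∧ g * x = x * g ∧ Odd (orderOf g)},
        ∃ k ∈ closure {g : Co0 | g * gu = gu * g ∧ g * gx = gx * g ∧ Odd (orderOf g)},
          Ass θ k m := by
      intro m hm
      induction hm using closure_induction with
      | mem m hm =>
        obtain ⟨g, a, e⟩ := odd_lift h (cs hm.1) hm.2.2 (pow_orderOf_eq_one m)
        exact ⟨g, subset_closure ⟨(comm_lift h a au hm.2.2 e hm.1.symm).symm,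
          (comm_lift h a ax hm.2.2 e hm.2.1.symm).symm,
          hm.2.2.of_dvd_nat (orderOf_dvd_of_pow_eq_one e)⟩, a⟩
      | one => exact ⟨1, one_mem _, h.ass_one (one_mem _)⟩
      | mul _ _ _ _ h1 h2 =>
        obtain ⟨a, ha, a1⟩ := h1
        obtain ⟨b, hb, a2⟩ := h2
        exact ⟨a * b, mul_mem ha hb, a1.mul a2⟩
      | inv _ _ h1 =>
        obtain ⟨a, ha, a1⟩ := h1
        exact ⟨a⁻¹, inv_mem ha, a1.inv⟩
    obtain ⟨k, hk, a⟩ := key _ D.uc
    exact det gu gx e x3 fx0 (comm_lift h ax au (by decide) x3 D.xu.symm) k hk (a.2.trans au.2.symm)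

end Cfsg.Agent.H39.ParO
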