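import Cfsg.Agent.H39.ReeTori

/-!
Small Ree groups: counting elements by order, and the two classes of anisotropic tori.
-/

set_option autoImplicit false

namespace Cfsg.Agent.H39

open scoped Pointwise
open Cfsg.Agent.H37 Cfsg.Agent.H77

theorem ncard_orderOf_or {G : Type*} [Group G] [Finite G] {P Q : ℕ → Prop} (h : ∀ d, P d → ¬ Q d) :
    {x : G | P (orderOf x) ∨ Q (orderOf x)}.ncard =
      {x : G | P (orderOf x)}.ncard + {x : G | Q (orderOf x)}.ncard :=
  Set.ncard_union_eq (Set.disjoint_left.mpr fun _ hx => h _ hx)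

theorem ncard_orderOf_of_ti {G : Type*} [Group G] [Finite G] {K N : Subgroup G} {P : ℕ → Prop}
    (h0 : ∀ x, P (orderOf x) → ∃ g, g⁻¹ * x * g ∈ K) (h1 : N ≤ Subgroup.normalizer (K : Set G))
    (h2 : ∀ g, ∀ x ∈ K, P (orderOf x) → g⁻¹ * x * g ∈ K → g ∈ N) :
    {x : G | P (orderOf x)}.ncard = {x | x ∈ K ∧ P (orderOf x)}.ncard * N.index := by
  rw [← ncard_conj_of_ti (T := {x | x ∈ K ∧ P (orderOf x)}) (fun n hn x hx => ⟨(Subgroup.mem_normalizer_iff''.mp (h1 hn) x).mp hx.1,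
    by rw [orderOf_conj]; exact hx.2⟩) fun g x hx hg => h2 g x hx.1 hx.2 hg.1]
  congr 1
  ext x
  constructor
  · exact fun hx => (h0 x hx).imp fun g hg => ⟨hg, by rw [orderOf_conj]; exact hx⟩
  · rintro ⟨g, -, hg⟩
    rwa [orderOf_conj] at hg

theorem arith_seven {c u n N : ℕ} (h : c * (u * n) = (u - 1) * N) (hu : 7 ≤ u) :
    6 * N ≤ 7 * c * n := by
  obtain ⟨v, rfl⟩ : ∃ v, u = v + 1 := ⟨u - 1, by omega⟩
  rw [Nat.add_sub_cancel] at h
  apply Nat.le_of_mul_le_mul_left (c := v + 1) _ (by omega)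
  nlinarith [Nat.mul_le_mul_right N (show 6 ≤ v by omega)]

theorem phi6_add_three (r : ℕ) : phi6 (r + 3) = r ^ 2 + 5 * r + 7 := by
  rw [phi6, show (r + 3) ^ 2 = r ^ 2 + 5 * r + 6 + (r + 3) by ring, Nat.add_sub_cancel]

theorem arith_ree_final {r c₁ c₂ u₁ u₂ n₁ n₂ X N : ℕ}
    (c1 : c₁ * (u₁ * n₁) = (u₁ - 1) * N) (c2 : c₂ * (u₂ * n₂) = (u₂ - 1) * N)
    (n1 : n₁ ∈ ({1, 2, 3, 4, 6} : Set ℕ)) (n2 : n₂ ∈ ({1, 2, 3, 4, 6} : Set ℕ)) (e1 : c₁ + c₂ = X)
    (hlt : 3 * X < N) (hX : 3 * X = (r + 3) ^ 4 * (r + 2) * (r + 4) * (r + 1))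
    (hN : N = (r + 3) ^ 3 * (r + 2) * (r + 4) * (r ^ 2 + 5 * r + 7))
    (e2 : u₁ * u₂ = r ^ 2 + 5 * r + 7) (u1 : 7 ≤ u₁) (u2 : 7 ≤ u₂) :
    u₁ + u₂ = 2 * (r + 3) + 2 ∧ n₁ = 6 ∧ n₂ = 6 := by
  have f1 := arith_seven c1 u1
  have f2 := arith_seven c2 u2
  have k : n₁ = 6 ∧ n₂ = 6 := by
    rcases n1 with rfl | rfl | rfl | rfl | rfl <;> rcases n2 with rfl | rfl | rfl | rfl | rfl <;>
      omega
  obtain ⟨rfl, rfl⟩ := k
  refine ⟨?_, rfl, rfl⟩
  obtain ⟨v₁, rfl⟩ : ∃ v, u₁ = v + 1 := ⟨u₁ - 1, by omega⟩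
  obtain ⟨v₂, rfl⟩ : ∃ v, u₂ = v + 1 := ⟨u₂ - 1, by omega⟩
  rw [Nat.add_sub_cancel] at c1 c2
  rw [← e2] at hN
  subst hN
  have d1 : 6 * c₁ = v₁ * (v₂ + 1) * ((r + 3) ^ 3 * (r + 2) * (r + 4)) := by
    apply Nat.eq_of_mul_eq_mul_left (show 0 < v₁ + 1 by omega)
    linear_combination c1
  have d2 : 6 * c₂ = v₂ * (v₁ + 1) * ((r + 3) ^ 3 * (r + 2) * (r + 4)) := by
    apply Nat.eq_of_mul_eq_mul_left (show 0 < v₂ + 1 by omega)
    linear_combination c2
  have d3 : v₁ * (v₂ + 1) + v₂ * (v₁ + 1) = 2 * ((r + 3) * (r + 1)) := by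
    apply Nat.eq_of_mul_eq_mul_left (show 0 < (r + 3) ^ 3 * (r + 2) * (r + 4) by positivity)
    zify at d1 d2 e1 hX ⊢
    linear_combination 6 * e1 + 2 * hX - d1 - d2
  zify at d3 e2 ⊢
  linear_combination 2 * e2 - d3

theorem three_pow_le {m : ℕ} : 3 ^ (m + 1) ≤ 3 ^ (2 * m + 1) :=
  Nat.pow_le_pow_right (by norm_num) (by omega)

namespace Ree

variable {G : Type*} [Group G] {F : Type*} [Field F] (S : Ree G F)

theorem pow_mem_U_iff (a b c : F) (k : Fˣ) (n : ℕ) : (S.u a b c * S.h k) ^ n ∈ S.U ↔ k ^ n = 1 := by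
  obtain ⟨a', b', c', e⟩ : ∃ a' b' c', (S.u a b c * S.h k) ^ n = S.u a' b' c' * S.h (k ^ n) := by
    induction n with
    | zero => exact ⟨0, 0, 0, by simp [S.u_zero]⟩
    | succ n ih =>
      obtain ⟨a', b', c', e⟩ := ih
      exact ⟨_, _, _, by rw [pow_succ, e, mul_assoc, ← mul_assoc (S.h _), h_mul_u, ← mul_assoc,
        ← mul_assoc, u_mul, mul_assoc, ← map_mul, ← pow_succ]⟩
  rw [e, uh_mem_U_iff]

theorem mem_U_of_cube {y : G} (hy : y ∈ S.B) (h : y ^ 3 = 1) : y ∈ S.U := by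
  obtain ⟨a, b, c, k, rfl⟩ := hy
  have h1 := congrArg Units.val ((S.pow_mem_U_iff a b c k 3).mp (h ▸ one_mem _))
  have := S.charP
  rw [Units.val_pow_eq_pow_val, Units.val_one] at h1
  exact S.uh_mem_U_iff.mpr (Units.ext (by
    have : ((k : F) - 1) ^ 3 = 0 := by grind
    exact sub_eq_zero.mp (pow_eq_zero_iff three_ne_zero |>.mp this)))

theorem orderOf_cases_of_mem_B [Finite F] {x : G} (hx : x ∈ S.B) :
    x ∈ S.U ∨ (∃ a b c, x = S.u a b c * S.t) ∨ orderOf x ∣ Nat.card F - 1 :=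
  (S.cases_of_mem_B hx).imp_right fun h => h.imp_right fun ⟨g, hg, _⟩ =>
    orderOf_conj x g ▸ S.card_H ▸ Subgroup.orderOf_dvd_natCard _ hg

section

variable [ReeCard F]

include S in
theorem ncard_of_three_dvd {d : ℕ} (hd : 3 ∣ d) : {x : G | orderOf x = d}.ncard =
    {x | x ∈ S.B ∧ orderOf x = d}.ncard * (Nat.card F ^ 3 + 1) := by
  have := S.finite
  rw [← S.index_B]
  refine ncard_orderOf_of_ti (P := (· = d)) (fun x hx => S.exists_conj_mem_B (hx ▸ hd))
    Subgroup.le_normalizer fun g x hx h hg => ?_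
  obtain ⟨y, ⟨k, rfl⟩, hy, -⟩ := exists_prime_pow (h ▸ hd : 3 ∣ orderOf x)
  refine S.mem_B_of_conj_mem_B (S.mem_U_of_cube (zpow_mem hx k) (hy ▸ pow_orderOf_eq_one _))
    (fun e => by simp [e] at hy) ?_
  have := zpow_mem hg k
  rwa [← inv_inv g, inv_inv g⁻¹, conj_zpow, inv_inv] at this

omit [ReeCard F] in
theorem mem_B_orderOf_three : {x | x ∈ S.B ∧ orderOf x = 3} = (S.Y : Set G) \ {1} := by
  ext x
  constructor
  · rintro ⟨h1, h2⟩
    have h3 : x ^ 3 = 1 := h2 ▸ pow_orderOf_eq_one x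
    exact ⟨(S.cube_eq_one_iff (S.mem_U_of_cube h1 h3)).mp h3, by rintro rfl; simp at h2⟩
  · exact fun ⟨h1, h2⟩ => ⟨S.U_le_B (S.Y_le_U h1),
      orderOf_eq_prime ((S.cube_eq_one_iff (S.Y_le_U h1)).mpr h1) h2⟩

theorem mem_B_orderOf_nine : {x | x ∈ S.B ∧ orderOf x = 9} = (S.U : Set G) \ S.Y := by
  ext x
  constructor
  · rintro ⟨h1, h2⟩
    rcases S.orderOf_cases_of_mem_B h1 with e | ⟨a, b, c, rfl⟩ | e
    · refine ⟨e, fun h => ?_⟩
      exact absurd (h2 ▸ orderOf_dvd_of_pow_eq_one ((S.cube_eq_one_iff e).mpr h)) (by norm_num)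
    · exact absurd (h2 ▸ orderOf_dvd_of_pow_eq_one (S.ut_pow_six a b c)) (by norm_num)
    · have := ReeCard.not_three_dvd_sub e
      omega
  · exact fun ⟨h1, h2⟩ => ⟨S.U_le_B h1, orderOf_eq_prime_pow (p := 3) (n := 1)
      (fun h => h2 ((S.cube_eq_one_iff h1).mp h)) (S.pow_nine_of_mem_U h1)⟩

theorem mem_B_orderOf_six : {x | x ∈ S.B ∧ orderOf x = 6} =
    (fun p : F × F × F => S.u p.1 p.2.1 p.2.2 * S.t) ''
      (Set.univ \ Set.range fun p : F × F => (p.1, p.1 * S.s p.1, p.2)) := by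
  ext x
  constructor
  · rintro ⟨h1, h2⟩
    rcases S.orderOf_cases_of_mem_B h1 with e | ⟨a, b, c, rfl⟩ | e
    · exact absurd (h2 ▸ orderOf_dvd_of_pow_eq_one (S.pow_nine_of_mem_U e)) (by norm_num)
    · refine ⟨(a, b, c), ⟨trivial, ?_⟩, rfl⟩
      rintro ⟨⟨a', c'⟩, h⟩
      obtain ⟨rfl, rfl, rfl⟩ : a' = a ∧ a' * S.s a' = b ∧ c' = c := by simpa using h
      exact absurd (h2 ▸ orderOf_dvd_of_pow_eq_one (x := S.u a' (a' * S.s a') c' * S.t) (n := 2)
        (by rw [pow_two, ut_sq, u_eq_one_iff]; simp)) (by norm_num)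
    · have := ReeCard.not_three_dvd_sub e
      omega
  · rintro ⟨⟨a, b, c⟩, ⟨-, h⟩, rfl⟩
    refine ⟨mul_mem (S.u_mem_B ..) S.t_mem_B, ?_⟩
    have h1 := orderOf_dvd_of_pow_eq_one (S.ut_pow_six a b c)
    have h2 : ¬ orderOf (S.u a b c * S.t) ∣ 2 := fun e => by
      rw [orderOf_dvd_iff_pow_eq_one, pow_two, ut_sq, u_eq_one_iff] at e
      exact h ⟨(a, c), by simp only [sub_eq_zero.mp e.2.1]⟩
    have h3 : ¬ orderOf (S.u a b c * S.t) ∣ 3 := fun e => by
      rw [orderOf_dvd_iff_pow_eq_one] at e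
      exact S.neg_one_ne_one ((Odd.neg_one_pow (by decide)).symm.trans
        ((S.pow_mem_U_iff a b c (-1) 3).mp (e ▸ one_mem _)))
    have h4 := Nat.le_of_dvd (by norm_num) h1
    simp only
    generalize orderOf (S.u a b c * S.t) = d at *
    interval_cases d <;> simp_all

include S in
theorem ncard_three : {x : G | orderOf x = 3}.ncard = (Nat.card F ^ 2 - 1) * (Nat.card F ^ 3 + 1) := by
  have := S.finite
  rw [S.ncard_of_three_dvd dvd_rfl, mem_B_orderOf_three,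
    Set.ncard_sdiff_singleton_of_mem S.Y.one_mem, ← S.card_Y]
  rfl

theorem cube_sub_sq (q : ℕ) : q ^ 3 - q ^ 2 = q ^ 2 * (q - 1) := by
  rw [Nat.mul_sub_one, ← pow_succ]

include S in
theorem ncard_nine : {x : G | orderOf x = 9}.ncard =
    Nat.card F ^ 2 * (Nat.card F - 1) * (Nat.card F ^ 3 + 1) := by
  have := S.finite
  rw [S.ncard_of_three_dvd (by norm_num), mem_B_orderOf_nine, Set.ncard_sdiff S.Y_le_U,
    ← cube_sub_sq, ← S.card_U, ← S.card_Y]
  rfl

include S in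
theorem ncard_six : {x : G | orderOf x = 6}.ncard =
    Nat.card F ^ 2 * (Nat.card F - 1) * (Nat.card F ^ 3 + 1) := by
  rw [S.ncard_of_three_dvd (by norm_num), mem_B_orderOf_six, Set.ncard_image_of_injective,
    Set.ncard_sdiff (Set.subset_univ _), Set.ncard_range_of_injective, Set.ncard_univ, ← cube_sub_sq]
  · simp [pow_succ, mul_assoc]
  · rintro ⟨a, b⟩ ⟨a', b'⟩ h
    simp only [Prod.mk.injEq] at h ⊢
    exact ⟨h.1, h.2.2⟩
  · rintro ⟨a, b, c⟩ ⟨a', b', c'⟩ h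
    simpa [u_eq_iff] using h

end

variable [ReeField F]

include S in
theorem ncard_two : {x : G | orderOf x = 2}.ncard = Nat.card F ^ 2 * phi6 (Nat.card F) := by
  rw [← S.index_C, index_centralizer_eq_ncard]
  congr 1
  ext x
  constructor
  · intro h
    exact S.exists_conj_t_eq (by rw [← pow_two, ← show orderOf x = 2 from h, pow_orderOf_eq_one])
      (by rintro rfl; simp at h)
  · rintro ⟨g, rfl⟩
    simpa [S.orderOf_t] using orderOf_conj S.t g⁻¹

theorem exists_conj_of_dvd_two {x : G} (h : orderOf x ∣ 2) :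
    ∃ g, g⁻¹ * x * g ∈ S.H ∧ g⁻¹ * x * g ∈ S.D := by
  by_cases h1 : x = 1
  · exact ⟨1, by simp [h1]⟩
  obtain ⟨g, rfl⟩ := S.exists_conj_t_eq (pow_two x ▸ orderOf_dvd_iff_pow_eq_one.mp h) h1
  exact ⟨g, by simpa [mul_assoc] using ⟨S.t_mem_H, S.t_mem_D⟩⟩

theorem orderOf_cases (x : G) : orderOf x ∣ 6 ∨ orderOf x ∣ 9 ∨ (∃ g, g⁻¹ * x * g ∈ S.H) ∨
    (∃ g, g⁻¹ * x * g ∈ S.D) ∨ orderOf x ∣ phi6 (Nat.card F) := by
  rcases S.trichotomy x with ⟨g, hg⟩ | h | h
  · rw [← orderOf_conj x g]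
    rcases S.cases_of_mem_B hg with e | ⟨a, b, c, e⟩ | ⟨k, e, -⟩
    · exact Or.inr (Or.inl (orderOf_dvd_of_pow_eq_one (S.pow_nine_of_mem_U e)))
    · exact Or.inl (e ▸ orderOf_dvd_of_pow_eq_one (S.ut_pow_six a b c))
    · exact Or.inr (Or.inr (Or.inl ⟨g * k, by simpa [mul_assoc] using e⟩))
  · tauto
  · tauto

omit [ReeField F] in
theorem dvd_two_of_not_three {d : ℕ} (h : d ∣ 6 ∨ d ∣ 9) (h3 : ¬ 3 ∣ d) : d ∣ 2 := by
  have : d ≤ 9 := h.elim (fun h => (Nat.le_of_dvd (by norm_num) h).trans (by norm_num))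
    (Nat.le_of_dvd (by norm_num))
  interval_cases d <;> simp_all

theorem exists_conj_mem_H {x : G} (h : orderOf x ∣ Nat.card F - 1) : ∃ g, g⁻¹ * x * g ∈ S.H := by
  have key : orderOf x ∣ 2 → ∃ g, g⁻¹ * x * g ∈ S.H := fun e =>
    (S.exists_conj_of_dvd_two e).imp fun _ e => e.1
  rcases S.orderOf_cases x with e | e | e | ⟨g, e⟩ | e
  · exact key (dvd_two_of_not_three (Or.inl e) (ReeCard.not_three_dvd_sub h))
  · exact key (dvd_two_of_not_three (Or.inr e) (ReeCard.not_three_dvd_sub h))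
  · exact e
  · exact key (ReeCard.dvd_two_of h (orderOf_conj x g ▸ S.card_D ▸ Subgroup.orderOf_dvd_natCard _ e))
  · exact key (ReeCard.eq_one_of_sub e h ▸ one_dvd _)

theorem exists_conj_mem_D {x : G} (h : orderOf x ∣ Nat.card F + 1) : ∃ g, g⁻¹ * x * g ∈ S.D := by
  have key : orderOf x ∣ 2 → ∃ g, g⁻¹ * x * g ∈ S.D := fun e =>
    (S.exists_conj_of_dvd_two e).imp fun _ e => e.2
  rcases S.orderOf_cases x with e | e | ⟨g, e⟩ | e | e
  · exact key (dvd_two_of_not_three (Or.inl e) (ReeCard.not_three_dvd_add h))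
  · exact key (dvd_two_of_not_three (Or.inr e) (ReeCard.not_three_dvd_add h))
  · exact key (ReeCard.dvd_two_of (orderOf_conj x g ▸ S.card_H ▸ Subgroup.orderOf_dvd_natCard _ e) h)
  · exact e
  · exact key (ReeCard.eq_one_of_add e h ▸ one_dvd _)

theorem exists_conj_mem_M' {x : G} (h : orderOf x ∣ (Nat.card F + 1) / 4) :
    ∃ g, g⁻¹ * x * g ∈ S.M := by
  have := ReeCard.mod_24 F
  refine (S.exists_conj_mem_D (h.trans (Nat.div_dvd_of_dvd (by omega)))).imp fun g hg => ⟨hg, ?_⟩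
  rwa [← orderOf_dvd_iff_pow_eq_one, orderOf_conj]

theorem ncard_H {P : ℕ → Prop} (hP : ∀ d, P d → 2 < d ∧ d ∣ Nat.card F - 1) :
    2 * {x : G | P (orderOf x)}.ncard =
      {x | x ∈ S.H ∧ P (orderOf x)}.ncard * (Nat.card F ^ 3 * (Nat.card F ^ 3 + 1)) := by
  have := S.finite
  rw [ncard_orderOf_of_ti (fun x hx => S.exists_conj_mem_H (hP _ hx).2) le_rfl fun g x hx h hg =>
    S.mem_normalizer_H.mpr (S.mem_H_or_of_conj_mem_H hx (by rintro rfl; simpa using (hP _ h).1)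
      (by rintro rfl; simpa [S.orderOf_t] using (hP _ h).1) hg), mul_left_comm]
  congr 1
  have h := (Subgroup.normalizer (S.H : Set G)).card_mul_index
  have h8 := ReeField.le_card F
  rw [card_normalizer_H, S.card_eq] at h
  apply Nat.eq_of_mul_eq_mul_left (show 0 < Nat.card F - 1 by omega)
  linear_combination h

theorem ncard_D {P : ℕ → Prop} (hP : ∀ d, P d → 2 < d ∧ d ∣ Nat.card F + 1) :
    6 * {x : G | P (orderOf x)}.ncard = {x | x ∈ S.D ∧ P (orderOf x)}.ncard *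
      (Nat.card F ^ 3 * (Nat.card F - 1) * phi6 (Nat.card F)) := by
  have := S.finite
  rw [ncard_orderOf_of_ti (fun x hx => S.exists_conj_mem_D (hP _ hx).2) S.normalizer_D.ge
    fun g x hx h hg => S.mem_normalizer_V_of_conj hx (fun e => (hP _ h).1.not_ge (Nat.le_of_dvd
      two_pos (orderOf_dvd_of_pow_eq_one ((pow_two x).trans (S.mul_self_of_mem_V e))))) hg,
    mul_left_comm]
  congr 1
  have h := (Subgroup.normalizer (S.V : Set G)).card_mul_index
  rw [card_normalizer_V, S.card_eq'] at h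
  apply Nat.eq_of_mul_eq_mul_left (show 0 < Nat.card F + 1 by omega)
  linear_combination h

theorem ncard_H_all : {x | x ∈ S.H ∧ 2 < orderOf x ∧ orderOf x ∣ Nat.card F - 1}.ncard =
    Nat.card F - 3 := by
  have := S.finite
  have h : {x | x ∈ S.H ∧ 2 < orderOf x ∧ orderOf x ∣ Nat.card F - 1} = (S.H : Set G) \ {1, S.t} := by
    ext x
    constructor
    · rintro ⟨h1, h2, -⟩
      refine ⟨h1, ?_⟩
      rintro (rfl | rfl) <;> simp [S.orderOf_t] at h2
    · rintro ⟨h1, h2⟩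
      refine ⟨h1, ?_, S.card_H ▸ Subgroup.orderOf_dvd_natCard _ h1⟩
      by_contra h3
      have := orderOf_pos x
      refine h2 (S.eq_of_mem_H_of_mul_self h1 (pow_two x ▸ orderOf_dvd_iff_pow_eq_one.mp ?_))
      rcases (by omega : orderOf x = 1 ∨ orderOf x = 2) with e | e <;> simp [e]
  rw [h, Set.ncard_sdiff (by rintro _ (rfl | rfl); exacts [one_mem _, S.t_mem_H]),
    Set.ncard_pair S.t_ne_one.symm]
  change Nat.card S.H - 2 = _
  rw [card_H, Nat.sub_sub]

theorem ncard_D_all : {x | x ∈ S.D ∧ 2 < orderOf x ∧ orderOf x ∣ Nat.card F + 1}.ncard =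
    Nat.card F - 3 := by
  have := S.finite
  have h : {x | x ∈ S.D ∧ 2 < orderOf x ∧ orderOf x ∣ Nat.card F + 1} = (S.D : Set G) \ S.V := by
    ext x
    constructor
    · exact fun ⟨h1, h2, _⟩ => ⟨h1, fun e => h2.not_ge (Nat.le_of_dvd
        two_pos (orderOf_dvd_of_pow_eq_one ((pow_two x).trans (S.mul_self_of_mem_V e))))⟩
    · rintro ⟨h1, h2⟩
      refine ⟨h1, ?_, S.card_D ▸ Subgroup.orderOf_dvd_natCard _ h1⟩
      by_contra h3
      have := orderOf_pos x
      refine h2 (S.mem_V_of_mul_self h1 (pow_two x ▸ orderOf_dvd_iff_pow_eq_one.mp ?_))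
      rcases (by omega : orderOf x = 1 ∨ orderOf x = 2) with e | e <;> simp [e]
  rw [h, Set.ncard_sdiff S.V_le_D]
  change Nat.card S.D - Nat.card S.V = _
  rw [card_D, card_V]
  rfl

theorem three_mul_ncard_pi {r : ℕ} (hr : Nat.card F = r + 3) :
    3 * {x | S.IsPi x}.ncard = (r + 3) ^ 4 * (r + 2) * (r + 4) * (r + 1) := by
  have := S.finite
  have h1 : (Set.univ : Set G) = {x | orderOf x = 1 ∨ orderOf x = 2 ∨ orderOf x = 3 ∨
      orderOf x = 6 ∨ orderOf x = 9 ∨ (2 < orderOf x ∧ orderOf x ∣ Nat.card F - 1) ∨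
      (2 < orderOf x ∧ orderOf x ∣ Nat.card F + 1) ∨
      (orderOf x ≠ 1 ∧ orderOf x ∣ phi6 (Nat.card F))} := by
    symm
    rw [Set.eq_univ_iff_forall]
    intro x
    have h0 := orderOf_pos x
    change _ ∨ _
    rcases S.orderOf_cases x with e | e | ⟨g, e⟩ | ⟨g, e⟩ | e
    · have := Nat.le_of_dvd (by norm_num) e
      generalize orderOf x = d at *
      interval_cases d <;> simp_all
    · have := Nat.le_of_dvd (by norm_num) e
      generalize orderOf x = d at *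
      interval_cases d <;> simp_all
    · have := orderOf_conj x g ▸ S.card_H ▸ Subgroup.orderOf_dvd_natCard _ e
      omega
    · have := orderOf_conj x g ▸ S.card_D ▸ Subgroup.orderOf_dvd_natCard _ e
      omega
    · tauto
  have h2 := congrArg Set.ncard h1
  have a1 := @ReeCard.not_three_dvd_sub F _ _
  have a2 := @ReeCard.not_three_dvd_add F _ _
  have a3 : ∀ {d}, d ∣ phi6 (Nat.card F) → ¬ 2 ∣ d := fun h e =>
    ReeCard.not_two_dvd_phi6 F (e.trans h)
  have a4 : ∀ {d}, d ∣ phi6 (Nat.card F) → ¬ 3 ∣ d := fun h e =>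
    ReeCard.not_three_dvd_phi6 F (e.trans h)
  obtain ⟨A, hA⟩ : ∃ A : ℕ → Prop, A = fun d => 2 < d ∧ d ∣ Nat.card F - 1 := ⟨_, rfl⟩
  obtain ⟨B, hB⟩ : ∃ B : ℕ → Prop, B = fun d => 2 < d ∧ d ∣ Nat.card F + 1 := ⟨_, rfl⟩
  obtain ⟨C, hC⟩ : ∃ C : ℕ → Prop, C = fun d => d ≠ 1 ∧ d ∣ phi6 (Nat.card F) := ⟨_, rfl⟩
  have e1 := ncard_orderOf_or (G := G) (P := (· = 1))
    (Q := fun d => d = 2 ∨ d = 3 ∨ d = 6 ∨ d = 9 ∨ A d ∨ B d ∨ C d) (by
      subst hA hB hC; rintro _ rfl h; omega)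
  have e2 := ncard_orderOf_or (G := G) (P := (· = 2))
    (Q := fun d => d = 3 ∨ d = 6 ∨ d = 9 ∨ A d ∨ B d ∨ C d) (by
      subst hA hB hC
      rintro _ rfl (h | h | h | h | h | h)
      exacts [by omega, by omega, by omega, by omega, by omega, a3 h.2 dvd_rfl])
  have e3 := ncard_orderOf_or (G := G) (P := (· = 3))
    (Q := fun d => d = 6 ∨ d = 9 ∨ A d ∨ B d ∨ C d) (by
      subst hA hB hC
      rintro _ rfl (h | h | h | h | h)
      exacts [by omega, by omega, a1 h.2 dvd_rfl, a2 h.2 dvd_rfl, a4 h.2 dvd_rfl])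
  have e4 := ncard_orderOf_or (G := G) (P := (· = 6)) (Q := fun d => d = 9 ∨ A d ∨ B d ∨ C d) (by
      subst hA hB hC
      rintro _ rfl (h | h | h | h)
      exacts [by omega, a1 h.2 (by norm_num), a2 h.2 (by norm_num), a4 h.2 (by norm_num)])
  have e5 := ncard_orderOf_or (G := G) (P := (· = 9)) (Q := fun d => A d ∨ B d ∨ C d) (by
      subst hA hB hC
      rintro _ rfl (h | h | h)
      exacts [a1 h.2 (by norm_num), a2 h.2 (by norm_num), a4 h.2 (by norm_num)])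
  have e6 := ncard_orderOf_or (G := G) (P := A) (Q := fun d => B d ∨ C d) (by
      subst hA hB hC
      rintro d h1 (h2 | h2)
      · exact h1.1.not_ge (Nat.le_of_dvd two_pos (ReeCard.dvd_two_of h1.2 h2.2))
      · exact h2.1 (ReeCard.eq_one_of_sub h2.2 h1.2))
  have e7 := ncard_orderOf_or (G := G) (P := B) (Q := C) (by
      subst hA hB hC
      exact fun d h1 h2 => h2.1 (ReeCard.eq_one_of_add h2.2 h1.2))
  subst hA hB hC
  beta_reduce at e1 e2 e3 e4 e5 e6 e7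
  rw [Set.ncard_univ, e1, e2, e3, e4, e5, e6, e7, S.ncard_two, S.ncard_three, S.ncard_six,
    S.ncard_nine, S.card_eq'] at h2
  have h3 := S.ncard_H (P := fun d => 2 < d ∧ d ∣ Nat.card F - 1) fun _ h => h
  have h4 := S.ncard_D (P := fun d => 2 < d ∧ d ∣ Nat.card F + 1) fun _ h => h
  rw [ncard_H_all] at h3
  rw [ncard_D_all] at h4
  have h5 : {x : G | orderOf x = 1}.ncard = 1 := by simp
  have h6 : {x : G | orderOf x ≠ 1 ∧ orderOf x ∣ phi6 (Nat.card F)} = {x | S.IsPi x} := by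
    simp [IsPi]
  rw [h5, h6] at h2
  generalize {x : G | 2 < orderOf x ∧ orderOf x ∣ Nat.card F - 1}.ncard = A at *
  generalize {x : G | 2 < orderOf x ∧ orderOf x ∣ Nat.card F + 1}.ncard = B at *
  rw [hr] at h2 h3 h4
  rw [show (r + 3) ^ 2 - 1 = r ^ 2 + 6 * r + 8 by
    rw [Nat.sub_eq_iff_eq_add (Nat.one_le_pow _ _ (by omega))]; ring] at h2
  simp only [show r + 3 - 1 = r + 2 by omega, Nat.add_sub_cancel, phi6_add_three] at h2 h3 h4
  apply Nat.eq_of_mul_eq_mul_left two_pos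
  zify at h2 h3 h4 ⊢
  linear_combination -6 * h2 - 3 * h3 - h4

theorem exists_two_classes : ∃ x₁ x₂, S.IsPi x₁ ∧ S.IsPi x₂ ∧
    (∀ y, S.IsPi y → y ∈ conjSet (Subgroup.centralizer {x₁}) ∨
      y ∈ conjSet (Subgroup.centralizer {x₂})) ∧
    Nat.card (Subgroup.centralizer {x₁}) * Nat.card (Subgroup.centralizer {x₂}) =
      phi6 (Nat.card F) ∧
    Nat.card (Subgroup.centralizer {x₁}) + Nat.card (Subgroup.centralizer {x₂}) =
      2 * Nat.card F + 2 ∧
    (Subgroup.centralizer {x₁}).relIndex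
      (Subgroup.normalizer ((Subgroup.centralizer {x₁} : Subgroup G) : Set G)) = 6 ∧
    (Subgroup.centralizer {x₂}).relIndex
      (Subgroup.normalizer ((Subgroup.centralizer {x₂} : Subgroup G) : Set G)) = 6 := by
  have := S.finite
  have h8 := ReeField.le_card F
  obtain ⟨r, hr⟩ : ∃ r, Nat.card F = r + 3 := ⟨Nat.card F - 3, by omega⟩
  have hX := S.three_mul_ncard_pi hr
  have hN : Nat.card G = (r + 3) ^ 3 * (r + 2) * (r + 4) * (r ^ 2 + 5 * r + 7) := by
    rw [S.card_eq', hr, phi6_add_three]; rfl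
  have hlt : 3 * {x | S.IsPi x}.ncard < Nat.card G := by
    have : 0 < (r + 3) ^ 3 * (r + 2) * (r + 4) * (r + 4) := by positivity
    rw [hX, hN]; nlinarith
  have hdisj : ∀ {x y}, S.IsPi x → S.IsPi y → y ∉ conjSet (Subgroup.centralizer {x}) →
      Disjoint (conjSet (Subgroup.centralizer {x})) (conjSet (Subgroup.centralizer {y})) := by
    intro x y hx hy h
    rw [Set.disjoint_left]
    intro z h1 h2
    apply h
    rw [← hx.conjSet_eq h1, hy.conjSet_eq h2]
    exact hy.mem_conjSet_self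
  have hsub : ∀ {x}, S.IsPi x → conjSet (Subgroup.centralizer {x}) ⊆ {x | S.IsPi x} :=
    fun hx _ h => hx.of_mem_conjSet h
  have hG : phi6 (Nat.card F) ∣ Nat.card G := by rw [S.card_eq']; exact Dvd.intro_left _ rfl
  obtain ⟨p, hp, hpd⟩ := Nat.exists_prime_and_dvd (show phi6 (Nat.card F) ≠ 1 by
    rw [hr, phi6_add_three]; omega)
  obtain ⟨x₁, hx₁, -⟩ := S.exists_pi_prime hp hpd
  have c1 := hx₁.count
  have n1 := hx₁.relIndex_mem
  have f1 := arith_seven c1 hx₁.seven_le_card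
  by_cases hone : ∀ y, S.IsPi y → y ∈ conjSet (Subgroup.centralizer {x₁})
  · exfalso
    have e1 : conjSet (Subgroup.centralizer {x₁}) = {x | S.IsPi x} :=
      Set.Subset.antisymm (hsub hx₁) hone
    have e2 : Nat.card (Subgroup.centralizer {x₁}) = phi6 (Nat.card F) := by
      apply Nat.dvd_antisymm hx₁.card_centralizer_dvd
      rw [← (Subgroup.centralizer {x₁}).card_mul_index] at hG
      refine Nat.Coprime.dvd_of_dvd_mul_right (Nat.coprime_of_dvd fun r hr h1 => ?_) hG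
      obtain ⟨y, hy, rfl⟩ := S.exists_pi_prime hr h1
      exact hx₁.not_dvd_index hr (Model.orderOf_dvd_card_of_mem_conjSet (hone y hy))
    rw [e1, e2, hN, hr, phi6_add_three, show r ^ 2 + 5 * r + 7 - 1 = (r + 3) * (r + 2) by
      rw [Nat.sub_eq_iff_eq_add (by omega)]; ring] at c1
    generalize (Subgroup.centralizer {x₁}).relIndex
      (Subgroup.normalizer ((Subgroup.centralizer {x₁} : Subgroup G) : Set G)) = n at *
    generalize {x | S.IsPi x}.ncard = X at *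
    have key : ((r + 3) ^ 4 * (r + 2) * (r + 4) * (r ^ 2 + 5 * r + 7)) * ((r + 1) * n) =
        ((r + 3) ^ 4 * (r + 2) * (r + 4) * (r ^ 2 + 5 * r + 7)) * (3 * (r + 2)) := by
      zify at c1 hX ⊢
      linear_combination 3 * c1 - ((r : ℤ) ^ 2 + 5 * r + 7) * n * hX
    have := Nat.eq_of_mul_eq_mul_left (by positivity) key
    rcases n1 with rfl | rfl | rfl | rfl | rfl <;> omega
  push Not at hone
  obtain ⟨x₂, hx₂, h21⟩ := hone
  have c2 := hx₂.count
  have n2 := hx₂.relIndex_mem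
  have f2 := arith_seven c2 hx₂.seven_le_card
  have hcover : ∀ y, S.IsPi y → y ∈ conjSet (Subgroup.centralizer {x₁}) ∨
      y ∈ conjSet (Subgroup.centralizer {x₂}) := by
    intro x₃ hx₃
    by_contra hne
    push Not at hne
    have f3 := arith_seven hx₃.count hx₃.seven_le_card
    have h3 := Set.ncard_le_ncard (Set.union_subset (Set.union_subset (hsub hx₁) (hsub hx₂))
      (hsub hx₃))
    rw [Set.ncard_union_eq (Set.disjoint_union_left.mpr ⟨hdisj hx₁ hx₃ hne.1, hdisj hx₂ hx₃ hne.2⟩),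
      Set.ncard_union_eq (hdisj hx₁ hx₂ h21)] at h3
    have g1 := Nat.mul_le_mul_left (7 * (conjSet (Subgroup.centralizer {x₁})).ncard)
      hx₁.relIndex_le_six
    have g2 := Nat.mul_le_mul_left (7 * (conjSet (Subgroup.centralizer {x₂})).ncard)
      hx₂.relIndex_le_six
    have g3 := Nat.mul_le_mul_left (7 * (conjSet (Subgroup.centralizer {x₃})).ncard)
      hx₃.relIndex_le_six
    omega
  have e1 : (conjSet (Subgroup.centralizer {x₁})).ncard +
      (conjSet (Subgroup.centralizer {x₂})).ncard = {x | S.IsPi x}.ncard := by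
    rw [← Set.ncard_union_eq (hdisj hx₁ hx₂ h21)]
    congr 1
    exact Set.Subset.antisymm (Set.union_subset (hsub hx₁) (hsub hx₂)) hcover
  have e2 : Nat.card (Subgroup.centralizer {x₁}) * Nat.card (Subgroup.centralizer {x₂}) =
      phi6 (Nat.card F) := by
    apply Nat.dvd_antisymm
    · refine Nat.Coprime.mul_dvd_of_dvd_of_dvd (Nat.coprime_of_dvd fun r hr h1 h2 => ?_)
        hx₁.card_centralizer_dvd hx₂.card_centralizer_dvd
      have := Fact.mk hr
      obtain ⟨y, hy⟩ := exists_prime_orderOf_dvd_card' r h2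
      have hy1 : (y : G) ≠ 1 := fun e => by
        rw [show y = 1 from Subtype.ext e, orderOf_one] at hy
        exact hr.one_lt.ne hy
      have h3 := hx₁.mem_conjSet_of_dvd (hx₂.of_mem_centralizer hy1 y.2) hr h1
        (by rw [Subgroup.orderOf_coe, hy])
      exact Set.disjoint_left.mp (hdisj hx₁ hx₂ h21) h3 (mem_conjSet_of_mem y.2 hy1)
    · have k1 := hG
      have k2 := hG
      rw [← (Subgroup.centralizer {x₁}).card_mul_index] at k1
      rw [← (Subgroup.centralizer {x₂}).card_mul_index] at k2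
      have k3 : phi6 (Nat.card F) ∣ Nat.card (Subgroup.centralizer {x₁}) *
          Nat.card (Subgroup.centralizer {x₂}) *
          Nat.gcd (Subgroup.centralizer {x₁}).index (Subgroup.centralizer {x₂}).index := by
        rw [← Nat.gcd_mul_left]
        apply Nat.dvd_gcd
        · rw [mul_right_comm]
          exact k1.mul_right _
        · rw [mul_assoc]
          exact k2.mul_left _
      refine Nat.Coprime.dvd_of_dvd_mul_right (Nat.coprime_of_dvd fun r hr h1 h2 => ?_) k3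
      obtain ⟨y, hy, rfl⟩ := S.exists_pi_prime hr h1
      rcases hcover y hy with h | h
      · exact hx₁.not_dvd_index hr (Model.orderOf_dvd_card_of_mem_conjSet h)
          (h2.trans (Nat.gcd_dvd_left _ _))
      · exact hx₂.not_dvd_index hr (Model.orderOf_dvd_card_of_mem_conjSet h)
          (h2.trans (Nat.gcd_dvd_right _ _))
  obtain ⟨k1, k2, k3⟩ := arith_ree_final c1 c2 n1 n2 e1 hlt hX hN
    (by rw [e2, hr, phi6_add_three]) hx₁.seven_le_card hx₂.seven_le_card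
  exact ⟨x₁, x₂, hx₁, hx₂, hcover, e2, hr ▸ k1, k2, k3⟩

variable {S} in
theorem IsPi.card_normalizer {x : G} (hx : S.IsPi x) :
    Nat.card (Subgroup.normalizer ((Subgroup.centralizer {x} : Subgroup G) : Set G)) =
      6 * Nat.card (Subgroup.centralizer {x}) := by
  obtain ⟨x₁, x₂, h1, h2, hc, -, -, n1, n2⟩ := S.exists_two_classes
  rcases hc x hx with h | h
  · obtain ⟨g, hg⟩ := h1.centralizer_eq_conj h
    rw [hg, normalizer_conj_smul, card_conj_smul, card_conj_smul,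
      ← card_mul_relIndex Subgroup.le_normalizer, n1, mul_comm]
  · obtain ⟨g, hg⟩ := h2.centralizer_eq_conj h
    rw [hg, normalizer_conj_smul, card_conj_smul, card_conj_smul,
      ← card_mul_relIndex Subgroup.le_normalizer, n2, mul_comm]

omit [ReeField F] in
theorem tori_mul (m : ℕ) : (3 ^ (2 * m + 1) - 3 ^ (m + 1) + 1) * (3 ^ (2 * m + 1) + 3 ^ (m + 1) + 1) =
    phi6 (3 ^ (2 * m + 1)) := by
  zify [three_pow_le (m := m), Nat.le_self_pow two_ne_zero (3 ^ (2 * m + 1))]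
  ring

/-- The two classes of anisotropic tori. -/
theorem exists_tori {m : ℕ} (hF : Nat.card F = 3 ^ (2 * m + 1)) : ∃ x₁ x₂, S.IsPi x₁ ∧ S.IsPi x₂ ∧
    Nat.card (Subgroup.centralizer {x₁}) = 3 ^ (2 * m + 1) - 3 ^ (m + 1) + 1 ∧
    Nat.card (Subgroup.centralizer {x₂}) = 3 ^ (2 * m + 1) + 3 ^ (m + 1) + 1 ∧
    ∀ y, S.IsPi y → y ∈ conjSet (Subgroup.centralizer {x₁}) ∨
      y ∈ conjSet (Subgroup.centralizer {x₂}) := by
  obtain ⟨x₁, x₂, h1, h2, hc, e1, e2, -, -⟩ := S.exists_two_classes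
  rw [hF] at e1 e2
  have hle := three_pow_le (m := m)
  have key : ((Nat.card (Subgroup.centralizer {x₁}) : ℤ) - (3 ^ (2 * m + 1) + 3 ^ (m + 1) + 1)) *
      ((Nat.card (Subgroup.centralizer {x₁}) : ℤ) - (3 ^ (2 * m + 1) - 3 ^ (m + 1) + 1)) = 0 := by
    zify [Nat.le_self_pow two_ne_zero (3 ^ (2 * m + 1))] at e1 e2
    linear_combination (Nat.card (Subgroup.centralizer {x₁}) : ℤ) * e2 - e1
  rcases mul_eq_zero.mp key with h | h
  · refine ⟨x₂, x₁, h2, h1, ?_, ?_, fun y hy => (hc y hy).symm⟩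
    · zify [hle] at e2 ⊢
      linear_combination e2 - h
    · zify
      linear_combination h
  · refine ⟨x₁, x₂, h1, h2, ?_, ?_, hc⟩
    · zify [hle]
      linear_combination h
    · zify at e2 ⊢
      linear_combination e2 - h

variable {S} in
theorem IsPi.exists_conj_mem {x y : G} (hx : S.IsPi x)
    (h : orderOf y ∣ Nat.card (Subgroup.centralizer {x})) :
    ∃ g, g⁻¹ * y * g ∈ Subgroup.centralizer {x} := by
  by_cases h1 : y = 1
  · exact ⟨1, by simp [h1]⟩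
  obtain ⟨p, hp, hd⟩ := Nat.exists_prime_and_dvd (orderOf_eq_one_iff.not.mpr h1)
  exact (hx.mem_conjSet_of_dvd ⟨h1, h.trans hx.card_centralizer_dvd⟩ hp (hd.trans h) hd).2

variable {S} in
theorem IsPi.ncard_orderOf {x : G} (hx : S.IsPi x) {i : ℕ} (h1 : 1 < i)
    (h : i ∣ Nat.card (Subgroup.centralizer {x})) :
    6 * {y : G | orderOf y = i}.ncard * Nat.card (Subgroup.centralizer {x}) =
      i.totient * Nat.card G := by
  have := S.finite
  have := hx.isCyclic_centralizer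
  rw [ncard_orderOf_of_ti (P := (· = i)) (fun y hy => hx.exists_conj_mem (hy ▸ h)) le_rfl
    fun g y hy e hg => hx.isTI g y (by rintro rfl; simp at e; omega) hy hg, ncard_orderOf_cyclic h,
    ← (Subgroup.normalizer ((Subgroup.centralizer {x} : Subgroup G) : Set G)).card_mul_index,
    hx.card_normalizer]
  ring

end Ree

end Cfsg.Agent.H39
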