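import Cfsg.Agent.H39.ReeLocal

/-!
Small Ree groups: two generators, and the lower bound for the degrees of complex representations.
-/

set_option autoImplicit false

namespace Cfsg.Agent.H39

theorem card_dvd_finrank_of_char {A V : Type*} [Group A] [Finite A] [AddCommGroup V] [Module ℂ V]
    [FiniteDimensional ℂ V] (σ : Representation ℂ A V) (h : ∀ a, a ≠ 1 → σ.character a = 0) :
    Nat.card A ∣ Module.finrank ℂ V := by
  have := Fintype.ofFinite A
  have hA : (Nat.card A : ℂ) ≠ 0 := Nat.cast_ne_zero.mpr Nat.card_pos.ne'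
  have := invertibleOfNonzero hA
  have h1 := σ.card_inv_mul_sum_char_eq_finrank
  rw [Finset.sum_eq_single 1 (fun a _ => h a) (by simp), Representation.char_one,
    inv_mul_eq_iff_eq_mul₀ hA] at h1
  exact ⟨_, by exact_mod_cast h1⟩

namespace Ree

variable {G : Type*} [Group G] {F : Type*} [Field F] (S : Ree G F)

theorem exists_sq_mul_s [Finite F] (c : F) : ∃ a, a ^ 2 * S.s a = c :=
  Finite.surjective_of_injective (f := fun a => a ^ 2 * S.s a) (fun _ _ h => S.sq_mul_s_inj h) c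

theorem exists_unit_sq_mul_s [Finite F] {c : F} (hc : c ≠ 0) : ∃ k : Fˣ, (k : F) ^ 2 * S.s k = c := by
  obtain ⟨a, rfl⟩ := S.exists_sq_mul_s c
  exact ⟨Units.mk0 a (by rintro rfl; simp at hc), rfl⟩

theorem exists_unit_mul_s [ReeCard F] {b : F} (hb : b ≠ 0) :
    ∃ k : Fˣ, (k : F) * S.s k = b ∨ (k : F) * S.s k = -b := by
  obtain ⟨r, hr⟩ := exists_sq F (Units.mk0 b hb)
  obtain ⟨k, -, hk⟩ := S.exists_φ_uts r
  refine ⟨k, hr.imp (fun e => ?_) fun e => ?_⟩ <;> have e' := congrArg Units.val e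
  · rw [hk]; exact e'.symm
  · rw [hk, show b = -r ^ 2 from e', neg_neg]

/-- An `H`-invariant subgroup containing an element of order 9 of `U` contains `U`. -/
theorem U_le_of [ReeField F] {K : Subgroup G} (hH : ∀ k, ∀ x ∈ K, S.h k * x * (S.h k)⁻¹ ∈ K)
    {a b c : F} (ha : a ≠ 0) (h : S.u a b c ∈ K) : S.U ≤ K := by
  have h1 : ∀ a', ∃ b' c', S.u a' b' c' ∈ K := fun a' => by
    by_cases h0 : a' = 0
    · exact ⟨0, 0, by rw [h0, S.u_zero]; exact one_mem _⟩
    have := hH (Units.mk0 (a' / a) (div_ne_zero h0 ha)) _ h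
    rw [S.h_conj_u, Units.val_mk0, div_mul_cancel₀ _ ha] at this
    exact ⟨_, _, this⟩
  have h2 : ∀ c, S.u 0 0 c ∈ K := fun c => by
    obtain ⟨a, ha⟩ := S.exists_sq_mul_s (-c)
    obtain ⟨b', c', e⟩ := h1 a
    have := pow_mem e 3
    rwa [u_cube, ha, neg_neg] at this
  have h3 : ∀ b c, S.u 0 b c ∈ K → S.u 0 b 0 ∈ K := fun b c e => by
    have := mul_mem e (h2 (-c))
    rwa [u_zero_mul, add_zero, add_neg_cancel] at this
  obtain ⟨b₀, hb₀, h4⟩ : ∃ b₀ ≠ 0, S.u 0 b₀ 0 ∈ K := by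
    obtain ⟨e, e0, e1, e2⟩ := ReeField.exists_ne F
    obtain ⟨b₁, c₁, k1⟩ := h1 e
    obtain ⟨b₂, c₂, k2⟩ := h1 1
    have k3 := mul_mem (mul_mem k1 k2) (inv_mem (mul_mem k2 k1))
    obtain ⟨a, b, c, e'⟩ := mul_mem (mul_mem (S.u_mem_U e b₁ c₁) (S.u_mem_U 1 b₂ c₂))
      (inv_mem (mul_mem (S.u_mem_U 1 b₂ c₂) (S.u_mem_U e b₁ c₁)))
    rw [e'] at k3
    rw [mul_inv_eq_iff_eq_mul, u_mul, u_mul, u_mul, u_eq_iff] at e'
    obtain rfl : a = 0 := by linear_combination -e'.1
    refine ⟨b, fun hb => ?_, h3 _ _ k3⟩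
    have := S.s_eq_self (x := e) (by
      have := e'.2.1
      rw [map_one, hb] at this
      linear_combination this)
    tauto
  have h5 : ∀ b, S.u 0 b 0 ∈ K := fun b => by
    by_cases hb : b = 0
    · rw [hb, S.u_zero]; exact one_mem _
    obtain ⟨k, hk⟩ := S.exists_unit_mul_s (div_ne_zero hb hb₀)
    have := hH k _ h4
    rw [S.h_conj_u, mul_zero, mul_zero] at this
    rcases hk with e | e <;> rw [e] at this
    · rwa [div_mul_cancel₀ _ hb₀] at this
    · simpa [div_mul_cancel₀ _ hb₀, u_zero_inv] using inv_mem this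
  rintro _ ⟨a, b, c, rfl⟩
  obtain ⟨b', c', e⟩ := h1 a
  have := mul_mem (mul_mem (h5 (b - b')) (h2 (c - c' + (b - b') * a))) e
  rw [u_mul, u_mul] at this
  convert this using 2 <;> ring

include S in
theorem exists_closure_pair [ReeField F] :
    ∃ a b : G, Subgroup.closure ({a, b} : Set G) = ⊤ := by
  have := S.isCyclic_H
  obtain ⟨a, ha⟩ := exists_zpowers_eq S.H
  refine ⟨a, S.u 1 0 0 * S.w, ?_⟩
  have h1 : S.H ≤ Subgroup.closure ({a, S.u 1 0 0 * S.w} : Set G) :=
    ha ▸ Subgroup.zpowers_le.mpr (Subgroup.subset_closure (by simp))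
  have h2 : S.u 1 0 0 * S.w ∈ Subgroup.closure ({a, S.u 1 0 0 * S.w} : Set G) :=
    Subgroup.subset_closure (by simp)
  generalize Subgroup.closure ({a, S.u 1 0 0 * S.w} : Set G) = K at h1 h2
  obtain ⟨k, hk, -⟩ := ReeField.exists_unit_ne F
  have h3 := mul_mem (h1 (S.h_mem_H k)) (mul_mem (mul_mem h2 (h1 (S.h_mem_H k))) (inv_mem h2))
  rw [show S.h k * (S.u 1 0 0 * S.w * S.h k * (S.u 1 0 0 * S.w)⁻¹) =
    S.h k * S.u 1 0 0 * (S.w * S.h k * S.w⁻¹) * (S.u 1 0 0)⁻¹ by group, S.w_h, S.h_conj_u, u_inv,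
    u_mul] at h3
  have h4 := S.U_le_of (fun l x hx => mul_mem (mul_mem (h1 (S.h_mem_H l)) hx)
    (inv_mem (h1 (S.h_mem_H l)))) (fun e => hk (Units.ext (by rw [Units.val_one]; linear_combination e))) h3
  exact S.gen K (fun _ _ _ => h4 (S.u_mem_U ..)) ((mul_mem_cancel_left (h4 (S.u_mem_U ..))).mp h2)

variable {V : Type*} [AddCommGroup V] [Module ℂ V] (ρ : Representation ℂ G V)

/-- The weight space of a character of the centre of `U`. -/
def wt (φ : AddChar F ℂ) : Submodule ℂ V where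
  carrier := {v | ∀ c, ρ (S.u 0 0 c) v = φ c • v}
  add_mem' hv hw b := by rw [map_add, hv b, hw b, smul_add]
  zero_mem' b := by simp
  smul_mem' c v hv b := by rw [map_smul, hv b, smul_comm]

theorem u_mem_wt {φ : AddChar F ℂ} (a b c : F) (v : V) (hv : v ∈ S.wt ρ φ) :
    ρ (S.u a b c) v ∈ S.wt ρ φ := fun d => by
  rw [← Module.End.mul_apply, ← map_mul, show S.u 0 0 d * S.u a b c = S.u a b c * S.u 0 0 d by
    simp [u_comm_iff], map_mul, Module.End.mul_apply, hv d, map_smul]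

theorem isProj_wt [Fintype F] (φ : AddChar F ℂ) : LinearMap.IsProj (S.wt ρ φ)
    ((Fintype.card F : ℂ)⁻¹ • ∑ b, φ (-b) • ρ (S.u 0 0 b)) := by
  have hq : (Fintype.card F : ℂ) ≠ 0 := Nat.cast_ne_zero.mpr Fintype.card_ne_zero
  constructor
  · intro v
    rw [LinearMap.smul_apply]
    apply Submodule.smul_mem
    intro c
    rw [LinearMap.sum_apply, map_sum, Finset.smul_sum]
    refine Fintype.sum_equiv (Equiv.addLeft c) _ _ fun b => ?_
    rw [LinearMap.smul_apply, LinearMap.smul_apply, map_smul, ← Module.End.mul_apply, ← map_mul,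
      u_zero_mul, smul_smul, Equiv.coe_addLeft, ← AddChar.map_add_eq_mul, add_zero, neg_add,
      add_neg_cancel_left]
  · intro v hv
    rw [LinearMap.smul_apply, LinearMap.sum_apply, Finset.sum_congr rfl (g := fun _ => v)
      fun b _ => by rw [LinearMap.smul_apply, hv b, smul_smul, ← AddChar.map_add_eq_mul,
        neg_add_cancel, AddChar.map_zero_eq_one, one_smul]]
    rw [Finset.sum_const, Finset.card_univ, ← Nat.cast_smul_eq_nsmul ℂ, smul_smul,
      inv_mul_cancel₀ hq, one_smul]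

variable [FiniteDimensional ℂ V]

theorem card_mul_finrank_wt [Fintype F] (φ : AddChar F ℂ) :
    (Fintype.card F : ℂ) * Module.finrank ℂ (S.wt ρ φ) =
      Module.finrank ℂ V + (∑ b, φ (-b) - 1) * ρ.character (S.u 0 0 1) := by
  classical
  have hq : (Fintype.card F : ℂ) ≠ 0 := Nat.cast_ne_zero.mpr Fintype.card_ne_zero
  rw [← (S.isProj_wt ρ φ).trace, map_smul, map_sum, smul_eq_mul, mul_inv_cancel_left₀ hq]
  simp only [map_smul, smul_eq_mul]
  rw [← Finset.add_sum_erase _ _ (Finset.mem_univ (0 : F)),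
    ← Finset.add_sum_erase _ _ (Finset.mem_univ (0 : F)), neg_zero, AddChar.map_zero_eq_one,
    S.u_zero, map_one, LinearMap.trace_one, one_mul, add_sub_cancel_left, Finset.sum_mul]
  congr 1
  refine Finset.sum_congr rfl fun b hb => ?_
  obtain ⟨k, hk⟩ := S.exists_unit_sq_mul_s (Finset.ne_of_mem_erase hb)
  rw [← ρ.char_conj (S.u 0 0 1) (S.h k), S.h_conj_u, hk, mul_zero, mul_zero, mul_one]
  rfl

theorem finrank_eq_add [Finite F] {φ : AddChar F ℂ} (hφ : φ ≠ 1) :
    Module.finrank ℂ V = Module.finrank ℂ (S.wt ρ 1) +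
      (Nat.card F - 1) * Module.finrank ℂ (S.wt ρ φ) := by
  have := Fintype.ofFinite F
  have hq : (Fintype.card F : ℂ) ≠ 0 := Nat.cast_ne_zero.mpr Fintype.card_ne_zero
  have h1 := S.card_mul_finrank_wt ρ φ
  have h2 := S.card_mul_finrank_wt ρ 1
  rw [Fintype.sum_equiv (Equiv.neg F) (fun b => φ (-b)) φ fun _ => rfl, AddChar.sum_eq_zero_of_ne_one hφ] at h1
  simp only [AddChar.one_apply, Finset.sum_const, Finset.card_univ, nsmul_eq_mul, mul_one] at h2
  apply Nat.cast_injective (R := ℂ)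
  rw [Nat.card_eq_fintype_card]
  push_cast [Nat.cast_sub Fintype.card_pos]
  apply mul_left_cancel₀ hq
  linear_combination -h2 - (Fintype.card F - 1) * h1

theorem card_dvd_finrank_wt [Finite F] {φ : AddChar F ℂ} (hφ : φ ≠ 1) :
    Nat.card F ∣ Module.finrank ℂ (S.wt ρ φ) := by
  let R : F → F → F → Module.End ℂ (S.wt ρ φ) := fun a b c =>
    (ρ (S.u a b c)).restrict (S.u_mem_wt ρ a b c)
  have hR : ∀ a b c a' b' c', R a b c * R a' b' c' = R (a + a') (b + b' - a * S.s a')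
      (c + c' - b * a' + a * a' * S.s a' - a ^ 2 * S.s a') := fun a b c a' b' c' => by
    ext v
    change ρ (S.u a b c) (ρ (S.u a' b' c') v) = ρ (S.u _ _ _) v
    rw [← S.u_mul, map_mul, Module.End.mul_apply]
  have hR0 : ∀ c, R 0 0 c = φ c • 1 := fun c => by
    ext v
    exact v.2 c
  let σ : Representation ℂ (Multiplicative F) (S.wt ρ φ) :=
    { toFun b := R 0 b.toAdd 0
      map_one' := by rw [toAdd_one, hR0, AddChar.map_zero_eq_one, one_smul]
      map_mul' b b' := by rw [hR]; simp }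
  refine card_dvd_finrank_of_char (A := Multiplicative F) σ fun b hb => ?_
  obtain ⟨c, hc⟩ := AddChar.ne_one_iff.mp hφ
  have hb' : b.toAdd ≠ 0 := hb
  change LinearMap.trace ℂ _ (R 0 b.toAdd 0) = 0
  generalize b.toAdd = b at hb'
  obtain ⟨a, rfl⟩ : ∃ a, c = a * b := ⟨c / b, (div_mul_cancel₀ c hb').symm⟩
  have e1 : R a 0 0 * R 0 b 0 = R 0 0 (a * b) * R 0 b 0 * R a 0 0 := by
    rw [hR, hR, hR]
    congr 1 <;> simp [mul_comm]
  have e2 : R (-a) (-(a * S.s a)) (a ^ 2 * S.s a) * R a 0 0 = 1 := by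
    have := S.charP
    rw [hR, neg_add_cancel, show -(a * S.s a) + 0 - -a * S.s a = 0 by ring,
      show a ^ 2 * S.s a + 0 - -(a * S.s a) * a + -a * a * S.s a - (-a) ^ 2 * S.s a = 0 by ring, hR0,
      AddChar.map_zero_eq_one, one_smul]
  have e3 := congrArg (fun X => LinearMap.trace ℂ _ (X * R (-a) (-(a * S.s a)) (a ^ 2 * S.s a))) e1
  rw [LinearMap.trace_mul_comm, ← mul_assoc, e2, one_mul, mul_assoc, mul_eq_one_comm.mp e2, mul_one,
    hR0, smul_mul_assoc, one_mul, map_smul, smul_eq_mul] at e3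
  exact (mul_eq_zero.mp (show (φ (a * b) - 1) * _ = 0 by linear_combination -e3)).resolve_left
    (sub_ne_zero.mpr hc)

theorem le_finrank [ReeField F] (h : ρ (S.u 0 0 1) ≠ 1) :
    Nat.card F ^ 2 - Nat.card F + 1 ≤ Module.finrank ℂ V := by
  have := Fintype.ofFinite F
  have := S.finite
  obtain ⟨φ, h1⟩ : ∃ φ : AddChar F ℂ, φ ≠ 1 := by
    obtain ⟨φ, h⟩ := (AddChar.exists_apply_ne_zero (α := F) (a := 1)).mpr one_ne_zero
    exact ⟨φ, by rintro rfl; simp at h⟩
  have h3 := S.finrank_eq_add ρ h1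
  obtain ⟨d, hd⟩ := S.card_dvd_finrank_wt ρ h1
  have h4 : d ≠ 0 := by
    intro e
    rw [hd, e, mul_zero, mul_zero, add_zero] at h3
    apply h
    ext v
    have hv : v ∈ S.wt ρ 1 := by
      rw [Submodule.eq_top_of_finrank_eq h3.symm]
      trivial
    simpa using hv 1
  obtain ⟨n, hn⟩ := ReeCard.exists_eq F
  have h5 : Nat.card F ^ 2 - Nat.card F = (Nat.card F - 1) * Nat.card F := by
    rw [Nat.sub_one_mul, pow_two]
  rw [h5]
  by_contra hlt
  have h6 := Nat.mul_le_mul_left ((Nat.card F - 1) * Nat.card F) (Nat.one_le_iff_ne_zero.mpr h4)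
  rw [hd, ← mul_assoc] at h3
  have h7 : S.wt ρ 1 = ⊥ := Submodule.finrank_eq_zero.mp (by omega)
  have h8 : ρ.character S.t = 0 := by
    have e := S.isProj_wt ρ 1
    have e1 : ∑ b, ρ (S.u 0 0 b) = 0 := by
      ext v
      have := e.map_mem v
      rw [h7, Submodule.mem_bot, LinearMap.smul_apply, smul_eq_zero, inv_eq_zero] at this
      simpa using this.resolve_left (Nat.cast_ne_zero.mpr Fintype.card_ne_zero)
    have e2 := congrArg (fun X => LinearMap.trace ℂ _ (X * ρ S.t)) e1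
    simp only [Finset.sum_mul, map_sum, zero_mul, map_zero, ← map_mul] at e2
    rw [Finset.sum_congr rfl (g := fun _ => ρ.character S.t) fun b _ => by
      obtain ⟨g, hg⟩ := S.exists_conj_t_eq (x := S.u 0 0 b * S.t) (by rw [ut_sq]; simp [S.u_zero])
        fun e => S.neg_one_ne_one (S.uh_mem_U_iff.mp (e ▸ one_mem S.U))
      rw [← hg]
      exact ρ.char_conj _ _, Finset.sum_const, nsmul_eq_mul] at e2
    exact (mul_eq_zero.mp e2).resolve_left (Nat.cast_ne_zero.mpr Fintype.card_ne_zero)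
  have h9 := card_dvd_finrank_of_char (ρ.comp S.V.subtype) fun v hv => by
    obtain ⟨g, hg⟩ := S.exists_conj_t_eq (S.mul_self_of_mem_V v.2) fun e => hv (Subtype.ext e)
    change ρ.character v = 0
    rw [← hg, ρ.char_conj, h8]
  rw [card_V, show Module.finrank ℂ V = (Nat.card F - 1) * Nat.card F by omega, hn,
    show (24 * n + 3 - 1) * (24 * n + 3) = 4 * (144 * n ^ 2 + 30 * n + 1) + 2 by
      rw [show 24 * n + 3 - 1 = 24 * n + 2 by omega]; ring] at h9
  omega

end Ree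

end Cfsg.Agent.H39
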