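import Cfsg.Agent.H39.ReeCount
import Cfsg.Agent.H3.Fitting

/-!
Small Ree groups: cyclic Hall subgroups, element orders, solvable subgroups.
-/

set_option autoImplicit false

namespace Cfsg.Agent.H39

open scoped Pointwise
open Cfsg.Agent.H37 Cfsg.Agent.H77

theorem exists_orderOf_of_isCyclic {G : Type*} [Group G] [Finite G] {C : Subgroup G} [IsCyclic C]
    {i : ℕ} (hi : i ∣ Nat.card C) : ∃ x ∈ C, orderOf x = i :=
  Set.nonempty_of_ncard_ne_zero (s := {x | x ∈ C ∧ orderOf x = i}) (by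
    rw [ncard_orderOf_cyclic hi]
    exact (Nat.totient_pos.mpr (Nat.pos_of_dvd_of_pos hi Nat.card_pos)).ne')

theorem exists_orderOf_of_dvd {G : Type*} [Group G] [Finite G] {x : G} {d : ℕ} (h : d ∣ orderOf x) :
    ∃ y : G, orderOf y = d := (exists_prime_pow h).imp fun _ h => h.2.1

theorem exists_conj_of_isCyclic {G : Type*} [Group G] [Finite G] {C : Subgroup G} [IsCyclic C]
    {d : ℕ} (h : ∀ x, orderOf x = d → ∃ g, g⁻¹ * x * g ∈ C) {A B : Subgroup G} (hA : IsCyclic A)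
    (hB : IsCyclic B) (hAd : Nat.card A = d) (hBd : Nat.card B = d) :
    ∃ g : G, B = A.map (MulAut.conj g).toMonoidHom := by
  obtain ⟨a, rfl⟩ := exists_zpowers_eq A
  obtain ⟨b, rfl⟩ := exists_zpowers_eq B
  rw [Nat.card_zpowers] at hAd hBd
  obtain ⟨g, hg⟩ := h a hAd
  obtain ⟨k, hk⟩ := h b hBd
  have h1 : Subgroup.zpowers (k⁻¹ * b * k) = Subgroup.zpowers (g⁻¹ * a * g) := by
    refine Subgroup.eq_of_le_of_card_ge (Subgroup.zpowers_le.mpr (mem_of_pow_card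
      (Subgroup.zpowers_le.mpr hg) hk ?_)) ?_
    · rw [← orderOf_dvd_iff_pow_eq_one, Nat.card_zpowers, orderOf_conj, orderOf_conj, hAd, hBd]
    · rw [Nat.card_zpowers, Nat.card_zpowers, orderOf_conj, orderOf_conj, hAd, hBd]
  have h2 := congrArg (Subgroup.map (MulAut.conj k).toMonoidHom) h1
  rw [MonoidHom.map_zpowers, MonoidHom.map_zpowers] at h2
  refine ⟨k * g⁻¹, ?_⟩
  rw [MonoidHom.map_zpowers]
  simpa [mul_assoc] using h2

theorem exists_elem_normal {G : Type*} [Group G] [Finite G] {K N : Subgroup G}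
    (hK : Group.IsSolvable K) (hN : N ≤ K) (hn : ∀ g ∈ K, ∀ x ∈ N, g * x * g⁻¹ ∈ N) (h1 : N ≠ ⊥) :
    ∃ (p : ℕ) (E : Subgroup G), p.Prime ∧ E ≠ ⊥ ∧ E ≤ N ∧ (∀ x ∈ E, ∀ y ∈ E, x * y = y * x) ∧
      (∀ x ∈ E, x ^ p = 1) ∧ K ≤ Subgroup.normalizer (E : Set G) := by
  have : (N.subgroupOf K).Normal := ⟨fun x hx g => hn g g.2 x hx⟩
  obtain ⟨M, p, hp, hM, hM1, hMN, hMe, -⟩ := H3.exists_minimal_normal_elementary_le
    (N.subgroupOf K) inferInstance fun e => h1 (by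
      rw [← Subgroup.map_subgroupOf_eq_of_le hN, e, Subgroup.map_bot])
  refine ⟨p, M.map K.subtype, hp, fun e => hM1 ((Subgroup.map_eq_bot_iff_of_injective _
    K.subtype_injective).mp e), ?_, ?_, ?_, fun g hg => mem_normalizer_of_conj ?_⟩
  · rintro _ ⟨x, hx, rfl⟩
    exact hMN hx
  · rintro _ ⟨x, hx, rfl⟩ _ ⟨y, hy, rfl⟩
    exact congrArg (fun z : M => ((z : K) : G)) (hMe.1.is_comm.comm ⟨x, hx⟩ ⟨y, hy⟩)
  · rintro _ ⟨x, hx, rfl⟩
    rw [← map_pow, hMe.2 x hx, map_one]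
  · rintro _ ⟨x, hx, rfl⟩
    exact ⟨_, hM.conj_mem x hx ⟨g, hg⟩, rfl⟩

namespace Ree

variable {G : Type*} [Group G] {F : Type*} [Field F] (S : Ree G F)

theorem ne_t_of_odd {x : G} (h : Odd (orderOf x)) : x ≠ S.t := by
  rintro rfl
  rw [orderOf_t] at h
  exact absurd h (by decide)

variable [ReeField F]

theorem odd_half (F : Type*) [Field F] [ReeCard F] : Odd ((Nat.card F - 1) / 2) := by
  have := ReeCard.mod_24 F
  rw [Nat.odd_iff]; omega

theorem half_dvd (F : Type*) [Field F] [ReeCard F] : (Nat.card F - 1) / 2 ∣ Nat.card F - 1 := by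
  have := ReeCard.mod_24 F
  exact Nat.div_dvd_of_dvd (by omega)

theorem exists_model_of_coprime {z : G} (h2 : ¬ 2 ∣ orderOf z) (h3 : ¬ 3 ∣ orderOf z) :
    (∃ S' : Ree G F, z ∈ S'.H) ∨ (∃ S' : Ree G F, z ∈ S'.M) ∨ S.IsPi z := by
  have key : orderOf z ∣ 6 ∨ orderOf z ∣ 9 → z ∈ S.H := fun e => by
    rw [orderOf_eq_one_iff.mp (((Nat.dvd_prime Nat.prime_two).mp
      (dvd_two_of_not_three e h3)).resolve_right fun e => h2 (e ▸ dvd_rfl))]
    exact one_mem _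
  rcases S.orderOf_cases z with e | e | ⟨g, e⟩ | ⟨g, e⟩ | e
  · exact Or.inl ⟨S, key (Or.inl e)⟩
  · exact Or.inl ⟨S, key (Or.inr e)⟩
  · exact Or.inl ⟨_, S.mem_twist_H.mpr e⟩
  · exact Or.inr (Or.inl ⟨S.twist g, ((S.twist g).mem_M_iff_odd (S.mem_twist_D.mpr e)).mpr
      (Nat.odd_iff.mpr (by omega))⟩)
  · by_cases h : z = 1
    · exact Or.inl ⟨S, h ▸ one_mem _⟩
    · exact Or.inr (Or.inr ⟨h, e⟩)

/-- A subgroup of order prime to 6 with a non-trivial central element lies in a cyclic torus. -/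
theorem exists_le_torus {P : Subgroup G} (h2 : ∀ x ∈ P, ¬ 2 ∣ orderOf x)
    (h3 : ∀ x ∈ P, ¬ 3 ∣ orderOf x) {z : G} (hz : z ∈ P) (h1 : z ≠ 1)
    (hc : P ≤ Subgroup.centralizer {z}) : (∃ S' : Ree G F, P ≤ S'.H) ∨
      (∃ S' : Ree G F, P ≤ S'.M) ∨ ∃ x, S.IsPi x ∧ P ≤ Subgroup.centralizer {x} := by
  rcases S.exists_model_of_coprime (h2 z hz) (h3 z hz) with ⟨S', e⟩ | ⟨S', e⟩ | e
  · exact Or.inl ⟨S', S'.centralizer_eq_H e h1 (S'.ne_t_of_odd
      (Nat.odd_iff.mpr (by have := h2 z hz; omega))) ▸ hc⟩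
  · exact Or.inr (Or.inl ⟨S', fun x hx => (S'.mem_M_iff_odd (S'.centralizer_eq_D e h1 ▸ hc hx)).mpr
      (Nat.odd_iff.mpr (by have := h2 x hx; omega))⟩)
  · exact Or.inr (Or.inr ⟨z, e, hc⟩)

include S in
theorem isCyclic_of_isPGroup {p : ℕ} [hp : Fact p.Prime] (h : 3 < p) {P : Subgroup G}
    (hP : IsPGroup p P) : IsCyclic P := by
  have := S.finite
  rcases P.bot_or_nontrivial with rfl | _
  · infer_instance
  have := hP.center_nontrivial
  obtain ⟨z, hz⟩ := exists_ne (1 : Subgroup.center P)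
  have key : ∀ r : ℕ, r.Prime → r ≤ 3 → ∀ x ∈ P, ¬ r ∣ orderOf x := fun r hr h1 x hx e => by
    obtain ⟨k, hk⟩ := hP ⟨x, hx⟩
    have := (Nat.prime_dvd_prime_iff_eq hr hp.out).mp (hr.dvd_of_dvd_pow
      (e.trans (orderOf_dvd_of_pow_eq_one (congrArg Subtype.val hk))))
    omega
  rcases S.exists_le_torus (key 2 Nat.prime_two (by norm_num)) (key 3 Nat.prime_three le_rfl)
    z.1.2 (fun e => hz (Subtype.ext (Subtype.ext e))) (fun g hg =>
      Subgroup.mem_centralizer_singleton_iff.mpr (congrArg Subtype.val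
        (Subgroup.mem_center_iff.mp z.2 ⟨g, hg⟩))) with ⟨S', e⟩ | ⟨S', e⟩ | ⟨x, hx, e⟩
  · have := S'.isCyclic_H
    exact Subgroup.isCyclic_of_le e
  · have := S'.isCyclic_M
    exact Subgroup.isCyclic_of_le e
  · have := hx.isCyclic_centralizer
    exact Subgroup.isCyclic_of_le e

theorem normalizer_eq_of_odd {A : Subgroup G} (hA : A ≤ S.H) (h : A ≠ ⊥)
    (ho : ∀ x ∈ A, Odd (orderOf x)) :
    Subgroup.normalizer (A : Set G) = Subgroup.normalizer (S.H : Set G) := by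
  obtain ⟨⟨x, hx⟩, h1⟩ := Subgroup.ne_bot_iff_exists_ne_one.mp h
  exact S.normalizer_eq_of_le_H hA hx (fun e => h1 (Subtype.ext e)) (S.ne_t_of_odd (ho x hx))

theorem exists_half : ∃ A ≤ S.H, IsCyclic A ∧ Nat.card A = (Nat.card F - 1) / 2 ∧ A ≠ ⊥ ∧
    ∀ x ∈ A, Odd (orderOf x) := by
  have := S.finite
  have := S.isCyclic_H
  have := ReeField.le_card F
  obtain ⟨x, hx, h⟩ := exists_orderOf_of_isCyclic (C := S.H) (i := (Nat.card F - 1) / 2)
    (by rw [card_H]; exact half_dvd F)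
  refine ⟨Subgroup.zpowers x, Subgroup.zpowers_le.mpr hx, inferInstance, Nat.card_zpowers x ▸ h,
    fun e => ?_, fun y hy => (odd_half F).of_dvd_nat (h ▸ orderOf_dvd_of_mem_zpowers hy)⟩
  rw [Subgroup.zpowers_eq_bot.mp e, orderOf_one] at h
  omega

include S in
theorem orderOf_iff {m : ℕ} (hF : Nat.card F = 3 ^ (2 * m + 1)) (d : ℕ) :
    (∃ g : G, orderOf g = d) ↔ (d ∣ 6 ∨ d ∣ 9 ∨ d ∣ Nat.card F - 1 ∨ d ∣ (Nat.card F + 1) / 2 ∨
      d ∣ 3 ^ (2 * m + 1) - 3 ^ (m + 1) + 1 ∨ d ∣ 3 ^ (2 * m + 1) + 3 ^ (m + 1) + 1) := by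
  have := S.finite
  obtain ⟨x₁, x₂, h1, h2, c1, c2, hc⟩ := S.exists_tori hF
  constructor
  · rintro ⟨x, rfl⟩
    rcases S.orderOf_cases x with e | e | ⟨g, e⟩ | ⟨g, e⟩ | e
    · tauto
    · tauto
    · have := orderOf_conj x g ▸ S.card_H ▸ Subgroup.orderOf_dvd_natCard _ e
      tauto
    · have := orderOf_conj x g ▸ orderOf_dvd_of_pow_eq_one (S.pow_half_of_mem_D e)
      tauto
    · by_cases h : x = 1
      · simp [h]
      rcases hc x ⟨h, e⟩ with e | e <;> have := Model.orderOf_dvd_card_of_mem_conjSet e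
      · rw [c1] at this; tauto
      · rw [c2] at this; tauto
  · rintro (h | h | h | h | h | h)
    · have h6 : S.u 0 1 0 * S.t ∈ {x | x ∈ S.B ∧ orderOf x = 6} := by
        rw [mem_B_orderOf_six]
        exact ⟨(0, 1, 0), ⟨trivial, by simp⟩, rfl⟩
      exact exists_orderOf_of_dvd (h6.2 ▸ h)
    · have h9 : S.u 1 0 0 ∈ {x | x ∈ S.B ∧ orderOf x = 9} := by
        rw [mem_B_orderOf_nine]
        exact ⟨S.u_mem_U .., by simp [u_mem_Y_iff]⟩
      exact exists_orderOf_of_dvd (h9.2 ▸ h)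
    · have := S.isCyclic_H
      exact (exists_orderOf_of_isCyclic (S.card_H ▸ h)).imp fun _ e => e.2
    · obtain ⟨x, hx, e⟩ := S.exists_M_eq
      have h3 : x ∈ S.M := hx ▸ Subgroup.mem_zpowers x
      refine exists_orderOf_of_dvd (x := S.t * x) ?_
      have := ReeCard.mod_24 F
      rwa [Commute.orderOf_mul_eq_mul_orderOf_of_coprime (S.D_comm S.t_mem_D h3.1), orderOf_t, e,
        show 2 * ((Nat.card F + 1) / 4) = (Nat.card F + 1) / 2 by omega]
      rw [orderOf_t, e]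
      exact Nat.coprime_two_left.mpr (odd_quarter F)
    · have := h1.isCyclic_centralizer
      exact (exists_orderOf_of_isCyclic (c1 ▸ h)).imp fun _ e => e.2
    · have := h2.isCyclic_centralizer
      exact (exists_orderOf_of_isCyclic (c2 ▸ h)).imp fun _ e => e.2

include S in
theorem ncard_of_dvd_sub {i : ℕ} (h1 : 2 < i) (h : i ∣ Nat.card F - 1) :
    2 * {x : G | orderOf x = i}.ncard = i.totient * Nat.card F ^ 3 * (Nat.card F ^ 3 + 1) := by
  have := S.finite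
  have := S.isCyclic_H
  rw [S.ncard_H (P := (· = i)) (by rintro _ rfl; exact ⟨h1, h⟩), ncard_orderOf_cyclic (S.card_H ▸ h),
    mul_assoc]

theorem exists_V_mul_M {x : G} (hx : x ∈ S.D) : ∃ v ∈ S.V, ∃ m ∈ S.M, x = v * m := by
  obtain ⟨k, hk⟩ := odd_quarter F
  refine ⟨x ^ (2 * k + 1), S.mem_V_of_mul_self (pow_mem hx _) ?_, ((x ^ 2) ^ k)⁻¹,
    inv_mem (pow_mem (S.sq_mem_M hx) k), by rw [← pow_mul, pow_succ', mul_inv_cancel_right]⟩
  rw [← pow_add, ← S.pow_half_of_mem_D hx]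
  congr 1
  have := ReeCard.mod_24 F
  omega

theorem orderOf_V_mul_M {v m : G} (hv : v ∈ S.V) (h1 : v ≠ 1) (hm : m ∈ S.M) :
    orderOf (v * m) = 2 * orderOf m := by
  have h2 : orderOf v = 2 := orderOf_eq_prime ((pow_two v).trans (S.mul_self_of_mem_V hv)) h1
  rw [Commute.orderOf_mul_eq_mul_orderOf_of_coprime (S.D_comm (S.V_le_D hv) hm.1), h2]
  rw [h2]
  exact Nat.coprime_two_left.mpr ((S.mem_M_iff_odd hm.1).mp hm)

include S in
theorem ncard_of_dvd_quarter {i : ℕ} (h1 : 1 < i) (h : i ∣ (Nat.card F + 1) / 4) :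
    6 * {x : G | orderOf x = i}.ncard =
      i.totient * Nat.card F ^ 3 * (Nat.card F - 1) * phi6 (Nat.card F) ∧
    2 * {x : G | orderOf x = 2 * i}.ncard =
      i.totient * Nat.card F ^ 3 * (Nat.card F - 1) * phi6 (Nat.card F) := by
  have := S.finite
  have := S.isCyclic_M
  have := ReeCard.mod_24 F
  have ho := (odd_quarter F).of_dvd_nat h
  have h2 := ncard_orderOf_cyclic (S.card_M ▸ h)
  have h3 : 2 * i ∣ Nat.card F + 1 := (Nat.mul_dvd_mul_left 2 h).trans ⟨2, by omega⟩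
  constructor
  · rw [S.ncard_D (P := (· = i)) (by
      rintro _ rfl; exact ⟨by rw [Nat.odd_iff] at ho; omega, (Dvd.intro_left 2 rfl).trans h3⟩),
      show {x | x ∈ S.D ∧ orderOf x = i} = {x | x ∈ S.M ∧ orderOf x = i} from Set.ext fun x =>
        ⟨fun e => ⟨(S.mem_M_iff_odd e.1).mpr (e.2 ▸ ho), e.2⟩, fun e => ⟨e.1.1, e.2⟩⟩, h2]
    ring
  · have h4 : {x | x ∈ S.D ∧ orderOf x = 2 * i} = (fun p : G × G => p.1 * p.2) ''
        (((S.V : Set G) \ {1}) ×ˢ {x | x ∈ S.M ∧ orderOf x = i}) := by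
      ext x
      constructor
      · rintro ⟨hx, e⟩
        obtain ⟨v, hv, m, hm, rfl⟩ := S.exists_V_mul_M hx
        have hv1 : v ≠ 1 := by
          rintro rfl
          have := (S.mem_M_iff_odd hm.1).mp hm
          rw [← one_mul m, e, Nat.odd_iff] at this
          omega
        rw [S.orderOf_V_mul_M hv hv1 hm] at e
        exact ⟨(v, m), ⟨⟨hv, hv1⟩, hm, Nat.eq_of_mul_eq_mul_left two_pos e⟩, rfl⟩
      · rintro ⟨⟨v, m⟩, ⟨⟨hv, hv1⟩, hm, e⟩, rfl⟩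
        exact ⟨mul_mem (S.V_le_D hv) hm.1, (S.orderOf_V_mul_M hv hv1 hm).trans (congrArg _ e)⟩
    have h5 := S.ncard_D (P := (· = 2 * i)) (by rintro _ rfl; exact ⟨by omega, h3⟩)
    rw [h4, Set.InjOn.ncard_image, Set.ncard_prod, ncard_V_diff, h2] at h5
    · apply Nat.eq_of_mul_eq_mul_left three_pos
      linear_combination h5
    · rintro ⟨v, m⟩ ⟨⟨hv, -⟩, hm, -⟩ ⟨v', m'⟩ ⟨⟨hv', -⟩, hm', -⟩ e
      have e' : v'⁻¹ * v = m' * m⁻¹ := by
        rw [inv_mul_eq_iff_eq_mul, ← mul_assoc, eq_mul_inv_iff_mul_eq]; exact e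
      have h6 := S.eq_one_of_mem_M_V (e' ▸ mul_mem hm' (inv_mem hm)) (mul_mem (inv_mem hv') hv)
      exact Prod.ext (inv_mul_eq_one.mp h6).symm (mul_inv_eq_one.mp (e'.symm.trans h6)).symm

variable {S} in
theorem IsPi.ncard_orderOf' {x : G} (hx : S.IsPi x) {i b : ℕ} (h1 : 1 < i)
    (h : i ∣ Nat.card (Subgroup.centralizer {x}))
    (hb : Nat.card (Subgroup.centralizer {x}) * b = phi6 (Nat.card F)) :
    6 * {y : G | orderOf y = i}.ncard = i.totient * Nat.card F ^ 3 * (Nat.card F ^ 2 - 1) * b := by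
  have := S.finite
  apply Nat.eq_of_mul_eq_mul_right (Nat.card_pos (α := Subgroup.centralizer {x}))
  rw [hx.ncard_orderOf h1 h, S.card_eq', ← hb, show Nat.card F ^ 2 - 1 =
    (Nat.card F + 1) * (Nat.card F - 1) from Nat.sq_sub_sq _ 1]
  ring

/-- An elementary abelian 2-subgroup of order 4 is conjugate to `V`. -/
theorem exists_V_eq {v v' : G} (h1 : v ≠ 1) (h2 : v * v = 1) (h3 : v' * v' = 1)
    (h : v' * v = v * v') (S : Ree G F) : ∃ S' : Ree G F, S'.t = v ∧ v' ∈ S'.V := by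
  obtain ⟨S', rfl⟩ := S.exists_t_eq h2 h1
  obtain ⟨y, hy⟩ := S'.exists_conj_mem_V h h3
  exact ⟨S'.twist (S'.φ y), by rw [twist_t, φ_comm_t, mul_inv_cancel_right], S'.mem_twist_V.mpr hy⟩

include S in
theorem exists_le_normalizer {m : ℕ} (hF : Nat.card F = 3 ^ (2 * m + 1)) {K : Subgroup G}
    (hK : Group.IsSolvable K) : ∃ A : Subgroup G, K ≤ Subgroup.normalizer (A : Set G) ∧
      ((∃ P : Sylow 2 G, A = P) ∨ (∃ P : Sylow 3 G, A = P) ∨
        (IsCyclic A ∧ (Nat.card A = (Nat.card F - 1) / 2 ∨ Nat.card A = (Nat.card F + 1) / 4 ∨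
          Nat.card A = 3 ^ (2 * m + 1) - 3 ^ (m + 1) + 1 ∨
          Nat.card A = 3 ^ (2 * m + 1) + 3 ^ (m + 1) + 1))) := by
  have := S.finite
  have hV : ∀ S' : Ree G F, K ≤ Subgroup.normalizer (S'.V : Set G) → _ := fun S' h =>
    (⟨S'.M, h.trans S'.normalizer_V_le, Or.inr (Or.inr ⟨S'.isCyclic_M, Or.inr (Or.inl S'.card_M)⟩)⟩ :
      ∃ A : Subgroup G, K ≤ Subgroup.normalizer (A : Set G) ∧
      ((∃ P : Sylow 2 G, A = P) ∨ (∃ P : Sylow 3 G, A = P) ∨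
        (IsCyclic A ∧ (Nat.card A = (Nat.card F - 1) / 2 ∨ Nat.card A = (Nat.card F + 1) / 4 ∨
          Nat.card A = 3 ^ (2 * m + 1) - 3 ^ (m + 1) + 1 ∨
          Nat.card A = 3 ^ (2 * m + 1) + 3 ^ (m + 1) + 1))))
  by_contra hne
  have key : ∀ N ≤ K, (∀ g ∈ K, ∀ x ∈ N, g * x * g⁻¹ ∈ N) → N ≠ ⊥ →
      ∃ v ∈ N, v ≠ 1 ∧ v * v = 1 ∧ K ≤ Subgroup.centralizer {v} := fun N hN hn h1 => by
    obtain ⟨p, E, hp, hE, hEN, hc, hpow, hKE⟩ := exists_elem_normal hK hN hn h1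
    obtain ⟨⟨z, hz⟩, hz1⟩ := Subgroup.ne_bot_iff_exists_ne_one.mp hE
    have hz1 : z ≠ 1 := fun e => hz1 (Subtype.ext e)
    have hP : IsPGroup p E := fun x => ⟨1, Subtype.ext ((pow_one p).symm ▸ hpow x x.2)⟩
    by_cases h2 : p = 2
    · subst h2
      simp only [pow_two] at hpow
      by_cases h4 : ∀ x ∈ E, x = 1 ∨ x = z
      · refine ⟨z, hEN hz, hz1, hpow z hz, fun g hg => Subgroup.mem_centralizer_singleton_iff.mpr
          (mul_inv_eq_iff_eq_mul.mp ((h4 _ (conj_mem_of_mem_normalizer (hKE hg) hz)).resolve_left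
            (conj_ne_one' hz1 g)))⟩
      exfalso
      push Not at h4
      obtain ⟨y, hy, hy1, hyz⟩ := h4
      obtain ⟨S', rfl, hy'⟩ := exists_V_eq hz1 (hpow z hz) (hpow y hy) (hc y hy z hz) S
      have hVE : S'.V ≤ E := fun x hx => by
        rcases S'.V_cases S'.t_mem_V hy' hx hz1 hy1 hyz.symm with rfl | rfl | rfl | rfl
        exacts [one_mem _, hz, hy, mul_mem hz hy]
      obtain ⟨P, hEP⟩ := hP.exists_le_sylow
      have d1 := Subgroup.card_dvd_of_le hVE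
      have d2 := Subgroup.card_dvd_of_le hEP
      rw [card_V] at d1
      rw [S.card_sylow_two] at d2
      have d3 := Nat.le_of_dvd (by norm_num) d2
      by_cases h8 : Nat.card E = 8
      · exact hne ⟨E, hKE, Or.inl ⟨P, Subgroup.eq_of_le_of_card_ge hEP
          (by rw [h8, S.card_sylow_two])⟩⟩
      · exact hne (hV S' (Subgroup.eq_of_le_of_card_ge hVE (by rw [card_V]; omega) ▸ hKE))
    exfalso
    by_cases h3 : p = 3
    · subst h3
      obtain ⟨g, hg⟩ := S.exists_twist_le_U hP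
      exact hne ⟨(S.twist g).U, fun k hk => (S.twist g).isTI_U k z hz1 (hg hz)
        (hg ((Subgroup.mem_normalizer_iff''.mp (hKE hk) z).mp hz)),
          Or.inr (Or.inl ⟨(S.twist g).sylowU, rfl⟩)⟩
    have key : ∀ r : ℕ, r.Prime → r ≠ p → ∀ x ∈ E, ¬ r ∣ orderOf x := fun r hr h1 x hx e =>
      h1 ((Nat.prime_dvd_prime_iff_eq hr hp).mp (e.trans (orderOf_dvd_of_pow_eq_one (hpow x hx))))
    rcases S.exists_le_torus (key 2 Nat.prime_two (Ne.symm h2)) (key 3 Nat.prime_three (Ne.symm h3))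
      hz hz1 (fun g hg => Subgroup.mem_centralizer_singleton_iff.mpr (hc g hg z hz)) with
      ⟨S', e⟩ | ⟨S', e⟩ | ⟨x, hx, e⟩
    · obtain ⟨A, hA, h5, h6, h7, h8⟩ := S'.exists_half
      refine hne ⟨A, ?_, Or.inr (Or.inr ⟨h5, Or.inl h6⟩)⟩
      rwa [S'.normalizer_eq_of_odd hA h7 h8, ← S'.normalizer_eq_of_odd e hE fun x hx =>
        Nat.odd_iff.mpr (by have := key 2 Nat.prime_two (Ne.symm h2) x hx; omega)]
    · exact hne (hV S' (S'.normalizer_eq_of_le_M e hE ▸ hKE))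
    · refine hne ⟨_, hx.normalizer_eq e hE ▸ hKE, Or.inr (Or.inr ⟨hx.isCyclic_centralizer,
        Or.inr (Or.inr ?_)⟩)⟩
      obtain ⟨x₁, x₂, h1, h2, c1, c2, hc⟩ := S.exists_tori hF
      refine (hc x hx).imp (fun e => ?_) fun e => ?_
      · obtain ⟨g, hg⟩ := h1.centralizer_eq_conj e
        rw [hg, card_conj_smul, c1]
      · obtain ⟨g, hg⟩ := h2.centralizer_eq_conj e
        rw [hg, card_conj_smul, c2]
  by_cases h0 : K = ⊥
  · exact hne (hV S (h0 ▸ bot_le))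
  obtain ⟨v, h0, h1, h2, h3⟩ := key K le_rfl
    (fun g hg x hx => mul_mem (mul_mem hg hx) (inv_mem hg)) h0
  obtain ⟨S', rfl⟩ := S.exists_t_eq h2 h1
  by_cases h4 : K ⊓ S'.L = ⊥
  · refine hne (hV S' fun g hg => Subgroup.le_normalizer ?_)
    have h5 := (Subgroup.eq_bot_iff_forall _).mp h4
    obtain ⟨y, rfl | rfl⟩ := S'.mem_C_iff.mp (h3 hg)
    · exact h5 _ ⟨hg, S'.φ_mem_L y⟩ ▸ one_mem _
    · rw [h5 _ ⟨(mul_mem_cancel_left h0).mp hg, S'.φ_mem_L y⟩, mul_one]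
      exact S'.t_mem_V
  obtain ⟨v, hv, h5, h6, h7⟩ := key _ inf_le_left (fun g hg x hx =>
    ⟨K.mul_mem (K.mul_mem hg hx.1) (K.inv_mem hg), S'.conj_mem_L (h3 hg) hx.2⟩) h4
  obtain ⟨S'', e, hv'⟩ := exists_V_eq h1 h2 h6 (Subgroup.mem_centralizer_singleton_iff.mp
    (h3 hv.1)) S
  refine hne (hV S'' fun g hg => Subgroup.centralizer_le_normalizer _ fun x hx => ?_)
  have h8 := Subgroup.mem_centralizer_singleton_iff.mp (h3 hg)
  have h9 := Subgroup.mem_centralizer_singleton_iff.mp (h7 hg)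
  rcases S''.V_cases (e ▸ S''.t_mem_V) hv' hx h1 h5 (fun e => S'.t_notMem_L (e ▸ hv.2)) with
    rfl | rfl | rfl | rfl
  · simp
  · exact h8.symm
  · exact h9.symm
  · rw [mul_assoc, ← h9, ← mul_assoc, ← h8, mul_assoc]

end Ree

end Cfsg.Agent.H39
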