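import Cfsg.Agent.H39.ReeCent

/-!
Small Ree groups: the tori of orders dividing `q² - q + 1` and the class equation.
-/

set_option autoImplicit false

namespace Cfsg.Agent.H39

open scoped Pointwise
open Cfsg.Agent.H37 Cfsg.Agent.H77

section Irr

open Matrix Module

variable {n : Type*} [Fintype n] [DecidableEq n] {F : Type*} [Field F]

theorem card_modEq_one_of_no_fixed [Finite F] {Y : Matrix n n F} {p : ℕ} (hp : p.Prime)
    (hY : Y ^ p = 1) (W : Submodule F (n → F)) (hW : ∀ v ∈ W, Y *ᵥ v ∈ W)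
    (h : ∀ v ∈ W, Y *ᵥ v = v → v = 0) : Nat.card F ^ finrank F W ≡ 1 [MOD p] := by
  classical
  have := Fintype.ofFinite W
  have := Fact.mk hp
  let f : Function.End W := fun v => ⟨Y *ᵥ v.1, hW v.1 v.2⟩
  have hf : ∀ (k : ℕ) (v : W), ((f ^ k) v).1 = Y ^ k *ᵥ v.1 := by
    intro k
    induction k with
    | zero => intro v; simp; rfl
    | succ k ih =>
      intro v
      rw [pow_succ', pow_succ', ← Matrix.mulVec_mulVec, ← ih]
      rfl
  have hfp : f ^ p ^ 1 = 1 := by
    funext v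
    apply Subtype.ext
    rw [hf, pow_one, hY, Matrix.one_mulVec]
    rfl
  have hmod := Equiv.Perm.card_fixedPoints_modEq hfp
  have h2 : Fintype.card (Function.fixedPoints f) = 1 := by
    rw [Fintype.card_eq_one_iff]
    refine ⟨⟨0, Subtype.ext (by simp [f])⟩, ?_⟩
    rintro ⟨v, hv⟩
    exact Subtype.ext (Subtype.ext (h v.1 v.2 (congrArg Subtype.val hv)))
  rwa [h2, ← Nat.card_eq_fintype_card, Module.natCard_eq_pow_finrank (K := F)] at hmod

/-- The moved space of a matrix. -/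
abbrev mvd (Y : Matrix n n F) : Submodule F (n → F) := LinearMap.range (Matrix.toLin' (Y - 1))

theorem mulVec_mem_mvd {Y A : Matrix n n F} (h : Y * A = A * Y) {v : n → F} (hv : v ∈ mvd Y) :
    A *ᵥ v ∈ mvd Y := by
  obtain ⟨u, rfl⟩ := hv
  refine ⟨A *ᵥ u, ?_⟩
  simp only [Matrix.toLin'_apply, Matrix.mulVec_mulVec, Matrix.sub_mul, Matrix.mul_sub,
    Matrix.one_mul, Matrix.mul_one, h]

theorem eq_zero_of_fixed_mvd {Y : Matrix n n F} {p : ℕ} (hY : Y ^ p = 1) (hp : (p : F) ≠ 0)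
    {v : n → F} (hv : v ∈ mvd Y) (h : Y *ᵥ v = v) : v = 0 := by
  obtain ⟨u, rfl⟩ := hv
  simp only [Matrix.toLin'_apply] at h ⊢
  set v := (Y - 1) *ᵥ u with hv
  have h3 : Y *ᵥ u = u + v := by
    rw [hv, Matrix.sub_mulVec, Matrix.one_mulVec]
    abel
  have h4 : ∀ k : ℕ, Y ^ k *ᵥ u = u + (k : F) • v := by
    intro k
    induction k with
    | zero => simp
    | succ k ih =>
      rw [pow_succ', ← Matrix.mulVec_mulVec, ih, Matrix.mulVec_add, Matrix.mulVec_smul, h,
        h3, Nat.cast_succ, add_smul, one_smul]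
      abel
  have h5 := h4 p
  rw [hY, Matrix.one_mulVec, left_eq_add, smul_eq_zero] at h5
  exact h5.resolve_left hp

/-- Restriction of the centraliser algebra to an invariant subspace. -/
def resAlg (Y : Matrix n n F) (W : Submodule F (n → F))
    (hW : ∀ A, Y * A = A * Y → ∀ v ∈ W, A *ᵥ v ∈ W) :
    Subalgebra.centralizer F {Y} →ₐ[F] Module.End F W where
  toFun A := (Matrix.toLin' A.1).restrict fun _ hv =>
    hW _ ((Subalgebra.mem_centralizer_iff F).mp A.2 _ rfl) _ hv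
  map_one' := by ext; simp
  map_mul' _ _ := LinearMap.ext fun _ => Subtype.ext (Matrix.mulVec_mulVec ..).symm
  map_zero' := by ext; simp
  map_add' _ _ := LinearMap.ext fun _ => Subtype.ext (Matrix.add_mulVec ..)
  commutes' _ := by ext; simp [Algebra.algebraMap_eq_smul_one]

theorem exists_domain_of_injective.{u} {A : Type*} [Semiring A] [Algebra F A] {V : Type u}
    [AddCommGroup V] [Module F V] [Nontrivial V] [Finite V] (f : A →ₐ[F] Module.End F V)
    (h : ∀ a, f a ≠ 0 → Function.Injective (f a)) :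
    ∃ (D : Type u) (_ : Ring D) (_ : IsDomain D) (_ : Finite D) (_ : Algebra F D) (g : A →ₐ[F] D),
      ∀ a, g a = 1 → f a = 1 := by
  have : Finite (Module.End F V) := Finite.of_injective _ DFunLike.coe_injective
  have : NoZeroDivisors f.range := ⟨fun {a b} hab => by
    obtain ⟨_, a, rfl⟩ := a
    refine or_iff_not_imp_left.mpr fun ha => Subtype.ext (LinearMap.ext fun v => ?_)
    apply h a fun e => ha (Subtype.ext e)
    exact (LinearMap.congr_fun (congrArg Subtype.val hab) v).trans (map_zero _).symm⟩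
  exact ⟨f.range, inferInstance, NoZeroDivisors.to_isDomain _, inferInstance, inferInstance,
    f.rangeRestrict, fun a ha => congrArg Subtype.val ha⟩

theorem exists_domain.{u, v} {n : Type u} [Fintype n] [DecidableEq n] {F : Type v} [Field F]
    [Finite F] {G : Type*} [Group G] (ρ : G →* Matrix n n F) (y : G) {W : Submodule F (n → F)}
    (hW : ∀ A, ρ y * A = A * ρ y → ∀ v ∈ W, A *ᵥ v ∈ W) (h0 : W ≠ ⊥)
    (h : ∀ W' ≤ W, (∀ v ∈ W', ρ y *ᵥ v ∈ W') → W' ≠ ⊥ → W' = W) :
    ∃ (D : Type (max u v)) (_ : Ring D) (_ : IsDomain D) (_ : Finite D) (_ : Algebra F D)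
      (f : Subgroup.centralizer {y} →* D), (∀ g, f g = 1 → ∀ v ∈ W, ρ g *ᵥ v = v) ∧
        ∀ g, Polynomial.aeval (f g) (ρ g).charpoly = 0 := by
  let c : Subgroup.centralizer {y} →* Subalgebra.centralizer F {ρ y} :=
    { toFun g := ⟨ρ g, (Subalgebra.mem_centralizer_iff F).mpr (by
        rintro _ rfl
        rw [← map_mul, ← map_mul, Subgroup.mem_centralizer_singleton_iff.mp g.2])⟩
      map_one' := Subtype.ext (by simp)
      map_mul' _ _ := Subtype.ext (by simp) }
  have := Submodule.nontrivial_iff_ne_bot.mpr h0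
  obtain ⟨D, _, _, _, _, f, hf⟩ := exists_domain_of_injective (resAlg (ρ y) W hW) fun a hne => by
    have ha : ρ y * a.1 = a.1 * ρ y := (Subalgebra.mem_centralizer_iff F).mp a.2 _ rfl
    have hk : LinearMap.ker (Matrix.toLin' a.1) ⊓ W = ⊥ := by
      by_contra hk
      have := h _ inf_le_right (by
        rintro v ⟨hv, hv'⟩
        refine ⟨?_, hW _ rfl _ hv'⟩
        rw [SetLike.mem_coe, LinearMap.mem_ker, Matrix.toLin'_apply] at hv ⊢
        rw [Matrix.mulVec_mulVec, ← ha, ← Matrix.mulVec_mulVec, hv, Matrix.mulVec_zero]) hk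
      exact hne (LinearMap.ext fun v => Subtype.ext (this.ge v.2).1)
    rw [injective_iff_map_eq_zero]
    exact fun v hv => Subtype.ext ((Submodule.eq_bot_iff _).mp hk _ ⟨congrArg Subtype.val hv, v.2⟩)
  refine ⟨D, _, ‹_›, ‹_›, ‹_›, f.toMonoidHom.comp c, fun g hg v hv =>
    congrArg Subtype.val (LinearMap.congr_fun (hf _ hg) ⟨v, hv⟩), fun g => ?_⟩
  change Polynomial.aeval (f (c g)) _ = 0
  rw [Polynomial.aeval_algHom_apply, ← map_zero f]
  congr 1
  apply Subtype.val_injective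
  exact (Polynomial.aeval_algHom_apply (Subalgebra.centralizer F {ρ y}).val _ _).symm.trans
    (Matrix.aeval_self_charpoly _)

end Irr

/-! ### Arithmetic -/

/-- The sixth cyclotomic value. -/
abbrev phi6 (q : ℕ) : ℕ := q ^ 2 - q + 1

theorem phi6_eq (n : ℕ) : phi6 (24 * n + 3) = 576 * n ^ 2 + 120 * n + 7 := by
  rw [phi6, show (24 * n + 3) ^ 2 = 576 * n ^ 2 + 120 * n + 6 + (24 * n + 3) by ring,
    Nat.add_sub_cancel]

namespace ReeCard

variable (F : Type*) [Field F] [ReeCard F]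

theorem coprime_phi6 : (phi6 (Nat.card F)).Coprime
    (Nat.card F ^ 3 * (Nat.card F - 1) * (Nat.card F + 1)) := by
  obtain ⟨n, hn⟩ := exists_eq F
  rw [hn, phi6_eq, show 24 * n + 3 - 1 = 24 * n + 2 by omega]
  refine Nat.Coprime.mul_right (Nat.Coprime.mul_right (Nat.Coprime.pow_right _ ?_) ?_) ?_
  · rw [show 576 * n ^ 2 + 120 * n + 7 = 1 + (24 * n + 2) * (24 * n + 3) by ring]; simp
  · rw [show 576 * n ^ 2 + 120 * n + 7 = 1 + (24 * n + 3) * (24 * n + 2) by ring]; simp
  · rw [show 576 * n ^ 2 + 120 * n + 7 = 3 + (24 * n + 1) * (24 * n + 3 + 1) by ring,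
      Nat.coprime_add_mul_right_left, Nat.prime_three.coprime_iff_not_dvd]
    omega

theorem not_two_dvd_phi6 : ¬ 2 ∣ phi6 (Nat.card F) := by
  obtain ⟨n, hn⟩ := exists_eq F
  rw [hn, phi6_eq]; omega

theorem not_three_dvd_phi6 : ¬ 3 ∣ phi6 (Nat.card F) := by
  obtain ⟨n, hn⟩ := exists_eq F
  rw [hn, phi6_eq]; omega

theorem eq_six_of_modEq {p d : ℕ} (hp : p.Prime) (h : p ∣ phi6 (Nat.card F)) (h0 : 0 < d)
    (h7 : d ≤ 7) (e : Nat.card F ^ d ≡ 1 [MOD p]) : d = 6 := by
  by_contra hd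
  have := Fact.mk hp
  have e1 : (Nat.card F : ZMod p) ^ d = 1 := by
    simpa using (ZMod.natCast_eq_natCast_iff _ _ _).mpr e
  have e2 : (Nat.card F : ZMod p) ^ 2 - Nat.card F + 1 = 0 := by
    simpa [Nat.cast_sub (Nat.le_self_pow two_ne_zero (Nat.card F))] using
      (ZMod.natCast_eq_zero_iff _ _).mpr h
  have e3 : ((2 * 3 : ℕ) : ZMod p) = 0 := by
    generalize (Nat.card F : ZMod p) = q at *
    interval_cases d <;> push_cast <;> grind
  rcases hp.dvd_mul.mp ((ZMod.natCast_eq_zero_iff _ _).mp e3) with e4 | e4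
  · exact not_two_dvd_phi6 F ((Nat.prime_dvd_prime_iff_eq hp Nat.prime_two).mp e4 ▸ h)
  · exact not_three_dvd_phi6 F ((Nat.prime_dvd_prime_iff_eq hp Nat.prime_three).mp e4 ▸ h)

theorem not_five_dvd : ¬ 5 ∣ Nat.card F ^ 3 * (Nat.card F - 1) * (Nat.card F ^ 3 + 1) := by
  have h := mod_five F
  obtain ⟨k, hk⟩ : ∃ k, Nat.card F = k + 1 := ⟨Nat.card F - 1, by omega⟩
  rw [hk] at h ⊢
  rw [Nat.add_sub_cancel, Nat.dvd_iff_mod_eq_zero]
  have : k % 5 = 1 ∨ k % 5 = 2 := by omega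
  rcases this with e | e <;> simp [Nat.mul_mod, Nat.add_mod, Nat.pow_mod, e]

variable {F}

theorem dvd_two_of {d : ℕ} (h1 : d ∣ Nat.card F - 1) (h2 : d ∣ Nat.card F + 1) : d ∣ 2 := by
  have := mod_24 F
  exact (Nat.dvd_add_right h1).mp (show Nat.card F - 1 + 2 = Nat.card F + 1 by omega ▸ h2)

theorem eq_one_of_sub {d : ℕ} (h1 : d ∣ phi6 (Nat.card F)) (h2 : d ∣ Nat.card F - 1) : d = 1 :=
  Nat.eq_one_of_dvd_coprimes (coprime_phi6 F) h1 ((h2.mul_left _).mul_right _)

theorem eq_one_of_add {d : ℕ} (h1 : d ∣ phi6 (Nat.card F)) (h2 : d ∣ Nat.card F + 1) : d = 1 :=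
  Nat.eq_one_of_dvd_coprimes (coprime_phi6 F) h1 (h2.mul_left _)

theorem not_three_dvd_sub {d : ℕ} (h : d ∣ Nat.card F - 1) : ¬ 3 ∣ d := fun e => by
  have := mod_24 F
  have := e.trans h
  omega

theorem not_three_dvd_add {d : ℕ} (h : d ∣ Nat.card F + 1) : ¬ 3 ∣ d := fun e => by
  have := mod_24 F
  have := e.trans h
  omega

end ReeCard

namespace Ree

variable {G : Type*} [Group G] {F : Type*} [Field F] (S : Ree G F)

section Irreducible

open Matrix Module

variable [ReeCard F]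

theorem finrank_eq_six {y : G} {p : ℕ} (hp : p.Prime) (hy : orderOf y = p)
    (h : p ∣ phi6 (Nat.card F)) {W : Submodule F (Fin 7 → F)} (h1 : W ≤ mvd (S.ρ y))
    (hW : ∀ v ∈ W, S.ρ y *ᵥ v ∈ W) (h0 : W ≠ ⊥) : finrank F W = 6 := by
  have := S.charP
  have hY : S.ρ y ^ p = 1 := by rw [← map_pow, ← hy, pow_orderOf_eq_one, map_one]
  refine ReeCard.eq_six_of_modEq F hp h
    (Nat.pos_of_ne_zero fun e => h0 (Submodule.finrank_eq_zero.mp e))
    (by simpa using W.finrank_le) (card_modEq_one_of_no_fixed hp hY W hW fun v hv =>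
      eq_zero_of_fixed_mvd hY (fun e => ?_) (h1 hv))
  exact ReeCard.not_three_dvd_phi6 F (((CharP.cast_eq_zero_iff F 3 p).mp e).trans h)

omit [ReeCard F] in
theorem mvd_ne_bot {y : G} (hy : y ≠ 1) : mvd (S.ρ y) ≠ ⊥ := fun e => by
  rw [LinearMap.range_eq_bot, LinearEquiv.map_eq_zero_iff, sub_eq_zero, ← map_one S.ρ] at e
  exact hy (S.ρ_inj e)

theorem finrank_mvd {y : G} {p : ℕ} (hp : p.Prime) (hy : orderOf y = p)
    (h : p ∣ phi6 (Nat.card F)) : finrank F (mvd (S.ρ y)) = 6 :=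
  S.finrank_eq_six hp hy h le_rfl (fun _ => mulVec_mem_mvd rfl)
    (S.mvd_ne_bot (by rintro rfl; exact hp.one_lt.ne (orderOf_one.symm.trans hy)))

end Irreducible

/-- Elements of order dividing `q² - q + 1`. -/
def IsPi (_S : Ree G F) (x : G) : Prop := x ≠ 1 ∧ orderOf x ∣ phi6 (Nat.card F)

variable {S} in
theorem IsPi.conj {x : G} (hx : S.IsPi x) (g : G) : S.IsPi (g⁻¹ * x * g) :=
  ⟨conj_ne_one hx.1 g, by rw [orderOf_conj]; exact hx.2⟩

variable {S} in
theorem IsPi.conj' {x : G} (hx : S.IsPi x) (g : G) : S.IsPi (g * x * g⁻¹) := by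
  simpa using hx.conj g⁻¹

include S in
theorem card_eq' [Finite F] : Nat.card G = Nat.card F ^ 3 * (Nat.card F - 1) * (Nat.card F + 1) *
    phi6 (Nat.card F) := by rw [S.card_eq, cube_add_one, mul_assoc _ (_ + 1)]

include S in
theorem dvd_phi6_of_primes [ReeCard F] {d : ℕ} (hd : d ∣ Nat.card G)
    (h : ∀ r : ℕ, r.Prime → r ∣ d → r ∣ phi6 (Nat.card F)) : d ∣ phi6 (Nat.card F) := by
  rw [S.card_eq'] at hd
  exact Nat.Coprime.dvd_of_dvd_mul_left (Nat.coprime_of_dvd fun r hr h1 h2 => hr.one_lt.ne'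
    (Nat.eq_one_of_dvd_coprimes (ReeCard.coprime_phi6 F) (h r hr h1) h2)) hd

variable {S} in
theorem IsPi.notMem_B [ReeCard F] {x : G} (hx : S.IsPi x) : x ∉ S.B := fun h =>
  hx.1 (orderOf_eq_one_iff.mp (Nat.eq_one_of_dvd_coprimes (ReeCard.coprime_phi6 F) hx.2
    ((S.card_B ▸ Subgroup.orderOf_dvd_natCard _ h).mul_right _)))

variable {S} in
theorem IsPi.notMem_C [ReeCard F] {x : G} (hx : S.IsPi x) : x ∉ Subgroup.centralizer {S.t} :=
  fun h => hx.1 (orderOf_eq_one_iff.mp (Nat.eq_one_of_dvd_coprimes (ReeCard.coprime_phi6 F) hx.2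
    ((S.card_C ▸ Subgroup.orderOf_dvd_natCard _ h).trans ⟨Nat.card F ^ 2, by ring⟩)))

section Field

variable [ReeField F]

theorem exists_centralizer_le {z : G} {r : ℕ} (hr : r.Prime) (hz : orderOf z = r)
    (h : ¬ r ∣ phi6 (Nat.card F)) : ∃ g, (∀ y ∈ Subgroup.centralizer {z}, g⁻¹ * y * g ∈ S.B) ∨
      ∀ y ∈ Subgroup.centralizer {z}, g⁻¹ * y * g ∈ Subgroup.centralizer {S.t} := by
  have := S.finite
  have h1 : z ≠ 1 := by rintro rfl; exact hr.one_lt.ne (orderOf_one.symm.trans hz)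
  by_cases h3 : r = 3
  · obtain ⟨g, hg⟩ := S.exists_conj_mem_U (x := z) (n := 1)
      (by rw [pow_one, ← h3, ← hz, pow_orderOf_eq_one])
    exact ⟨g, Or.inl fun y hy => S.mem_B_of_comm hg (conj_ne_one h1 g)
      (Subgroup.mem_centralizer_singleton_iff.mp (conj_mem_centralizer hy g))⟩
  by_cases h2 : r = 2
  · obtain ⟨g, hg⟩ := S.exists_conj_t_eq (x := z) (by rw [← pow_two, ← h2, ← hz, pow_orderOf_eq_one]) h1
    exact ⟨g, Or.inr fun y hy => eq_conj_iff.mp hg.symm ▸ conj_mem_centralizer hy g⟩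
  have h6 : ∀ g, ¬ (g⁻¹ * z * g) ^ 18 = 1 := fun g e => by
    rw [← orderOf_dvd_iff_pow_eq_one, orderOf_conj, hz, show 18 = 2 * 3 ^ 2 from rfl, hr.dvd_mul] at e
    exact e.elim (fun e => h2 ((Nat.prime_dvd_prime_iff_eq hr Nat.prime_two).mp e)) fun e =>
      h3 ((Nat.prime_dvd_prime_iff_eq hr Nat.prime_three).mp (hr.dvd_of_dvd_pow e))
  obtain ⟨g, hg⟩ := exists_conj_mem_of_not_dvd_index hr (K := Subgroup.centralizer {S.t}) (by
    rw [index_C, hr.dvd_mul]
    exact fun e => e.elim (fun e => h3 (ReeCard.eq_one_of_dvd F hr (hr.dvd_of_dvd_pow e))) h) hz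
  obtain ⟨y, hy⟩ := S.exists_conj_of_mem_C hg
  rw [show (S.φ y)⁻¹ * (g⁻¹ * z * g) * S.φ y = (g * S.φ y)⁻¹ * z * (g * S.φ y) by group] at hy
  generalize g * S.φ y = k at hy
  rcases hy with hy | hy
  · rcases S.cases_of_mem_B hy with e | ⟨a, b, c, e⟩ | ⟨l, e1, e2, e3⟩
    · exact absurd (by rw [show 18 = 9 * 2 from rfl, pow_mul, S.pow_nine_of_mem_U e, one_pow]) (h6 k)
    · exact absurd (by rw [show 18 = 6 * 3 from rfl, pow_mul, e, S.ut_pow_six, one_pow]) (h6 k)
    · refine ⟨k * l, Or.inr fun x hx => S.H_le_C ?_⟩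
      rw [← S.centralizer_eq_H e1 e2 e3]
      simpa [mul_assoc] using conj_mem_centralizer hx (k * l)
  · refine ⟨k, Or.inr fun x hx => S.D_le_C ?_⟩
    rw [← S.centralizer_eq_D' hy fun e => h6 k (by
      rw [show 18 = 2 * 9 from rfl, pow_mul, pow_two, S.mul_self_of_mem_V e, one_pow])]
    exact conj_mem_centralizer hx k

theorem exists_prime_not_dvd {x : G} (h : ¬ orderOf x ∣ phi6 (Nat.card F)) (S : Ree G F) :
    ∃ z ∈ Subgroup.zpowers x, Subgroup.centralizer {x} ≤ Subgroup.centralizer {z} ∧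
      (orderOf z).Prime ∧ ¬ orderOf z ∣ phi6 (Nat.card F) := by
  have := S.finite
  by_contra hne
  refine h (S.dvd_phi6_of_primes (orderOf_dvd_natCard x) fun r hr h1 => ?_)
  obtain ⟨z, hz, rfl, hle⟩ := exists_prime_pow h1
  by_contra h2
  exact hne ⟨z, hz, hle, hr, h2⟩

/-- Every element is conjugate into `B` or `D`, or has order dividing `q² - q + 1`. -/
theorem trichotomy (x : G) : (∃ g, g⁻¹ * x * g ∈ S.B) ∨ (∃ g, g⁻¹ * x * g ∈ S.D) ∨
    orderOf x ∣ phi6 (Nat.card F) := by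
  by_cases h : orderOf x ∣ phi6 (Nat.card F)
  · exact Or.inr (Or.inr h)
  obtain ⟨z, -, hle, h1, h2⟩ := exists_prime_not_dvd h S
  obtain ⟨g, hg | hg⟩ := S.exists_centralizer_le h1 rfl h2
  · exact Or.inl ⟨g, hg x (hle (self_mem_centralizer x))⟩
  · obtain ⟨y, hy⟩ := S.exists_conj_of_mem_C (hg x (hle (self_mem_centralizer x)))
    rw [show (S.φ y)⁻¹ * (g⁻¹ * x * g) * S.φ y = (g * S.φ y)⁻¹ * x * (g * S.φ y) by group] at hy
    exact hy.imp (fun e => ⟨_, e⟩) fun e => Or.inl ⟨_, e⟩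

variable {S}

theorem IsPi.of_mem_centralizer {x y : G} (hx : S.IsPi x) (hy : y ≠ 1)
    (h : y ∈ Subgroup.centralizer {x}) : S.IsPi y := by
  refine ⟨hy, ?_⟩
  by_contra h0
  obtain ⟨z, -, hle, h1, h2⟩ := exists_prime_not_dvd h0 S
  have h3 : x ∈ Subgroup.centralizer {z} := hle (Subgroup.mem_centralizer_singleton_iff.mpr
    (Subgroup.mem_centralizer_singleton_iff.mp h).symm)
  obtain ⟨g, hg | hg⟩ := S.exists_centralizer_le h1 rfl h2
  exacts [(hx.conj g).notMem_B (hg x h3), (hx.conj g).notMem_C (hg x h3)]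

theorem IsPi.card_centralizer_dvd {x : G} (hx : S.IsPi x) :
    Nat.card (Subgroup.centralizer {x}) ∣ phi6 (Nat.card F) := by
  have := S.finite
  refine S.dvd_phi6_of_primes (Subgroup.card_subgroup_dvd_card _) fun r hr h => ?_
  have := Fact.mk hr
  obtain ⟨y, hy⟩ := exists_prime_orderOf_dvd_card' r h
  rw [← hy, ← Subgroup.orderOf_coe]
  refine (hx.of_mem_centralizer (fun e => ?_) y.2).2
  rw [show y = 1 from Subtype.ext e, orderOf_one] at hy
  exact hr.one_lt.ne hy

variable (S)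

open Matrix Module in
theorem exists_domain_inj.{v} {F : Type v} [Field F] [ReeField F] (S : Ree G F) {y : G} {p : ℕ}
    (hp : p.Prime) (hy : orderOf y = p) (h : p ∣ phi6 (Nat.card F)) :
    ∃ (D : Type v) (_ : Ring D) (_ : IsDomain D) (_ : Finite D) (_ : Algebra F D)
      (f : Subgroup.centralizer {y} →* D), Function.Injective f ∧
        ∀ g, Polynomial.aeval (f g) (S.ρ g).charpoly = 0 := by
  have := S.finite
  have hpi : S.IsPi y := ⟨by rintro rfl; exact hp.one_lt.ne (orderOf_one.symm.trans hy), hy ▸ h⟩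
  obtain ⟨D, _, _, _, _, f, hf, hf'⟩ := exists_domain S.ρ y (W := mvd (S.ρ y))
    (fun _ h _ => mulVec_mem_mvd h) (S.mvd_ne_bot hpi.1) fun _ h1 hW h0 =>
      Submodule.eq_of_le_of_finrank_eq h1
        (by rw [S.finrank_eq_six hp hy h h1 hW h0, S.finrank_mvd hp hy h])
  refine ⟨D, _, ‹_›, ‹_›, ‹_›, f, ?_, hf'⟩
  rw [injective_iff_map_eq_one]
  intro g hg
  by_contra h1
  obtain ⟨r, hr, h2⟩ := Nat.exists_prime_and_dvd (orderOf_eq_one_iff.not.mpr h1)
  obtain ⟨z, hz', hz, -⟩ := exists_prime_pow h2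
  have h3 : f z = 1 := (Subgroup.zpowers_le (H := f.ker)).mpr hg hz'
  have h4 := S.finrank_mvd hr ((Subgroup.orderOf_coe z).trans hz) (h2.trans (by
    rw [← Subgroup.orderOf_coe]
    exact (hpi.of_mem_centralizer (fun e => h1 (Subtype.ext e)) g.2).2))
  have h5 : mvd (S.ρ y) ≤ LinearMap.ker (Matrix.toLin' (S.ρ z - 1)) := fun v hv => by
    rw [LinearMap.mem_ker, Matrix.toLin'_apply, Matrix.sub_mulVec, Matrix.one_mulVec, sub_eq_zero]
    exact hf z h3 v hv
  have h6 := Submodule.finrank_mono h5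
  have h7 := LinearMap.finrank_range_add_finrank_ker (Matrix.toLin' (S.ρ z - 1))
  rw [S.finrank_mvd hp hy h] at h6
  rw [h4, Module.finrank_fin_fun] at h7
  omega

include S in
theorem isCyclic_centralizer_prime {y : G} {p : ℕ} (hp : p.Prime) (hy : orderOf y = p)
    (h : p ∣ phi6 (Nat.card F)) : IsCyclic (Subgroup.centralizer {y}) := by
  obtain ⟨D, _, _, _, _, f, hf, -⟩ := S.exists_domain_inj hp hy h
  exact isCyclic_of_injective_finite_domain f hf

include S in
theorem relIndex_le_six_prime {y : G} {p : ℕ} (hp : p.Prime) (hy : orderOf y = p)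
    (h : p ∣ phi6 (Nat.card F)) : (Subgroup.centralizer {y}).relIndex
      (Subgroup.normalizer ((Subgroup.centralizer {y} : Subgroup G) : Set G)) ≤ 6 := by
  have := S.finite
  obtain ⟨D, _, _, _, _, f, hf, hf'⟩ := S.exists_domain_inj hp hy h
  have hy1 : y ≠ 1 := by rintro rfl; exact hp.one_lt.ne (orderOf_one.symm.trans hy)
  rw [relIndex_centralizer_eq_ncard, ← Nat.succ_le_succ_iff, Nat.succ_eq_add_one,
    ← Set.ncard_insert_of_notMem (a := 1) (by rintro ⟨n, -, e⟩; exact conj_ne_one' hy1 n e)]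
  have h1 := ncard_roots_le_of_finite (D := D) (S.ρ y).charpoly_monic.ne_zero
  rw [Matrix.charpoly_natDegree_eq_dim, Fintype.card_fin] at h1
  refine le_trans ?_ h1
  have h2 : {g : Subgroup.centralizer {y} | Polynomial.aeval (f g) (S.ρ y).charpoly = 0}.ncard ≤
      {d : D | Polynomial.aeval d (S.ρ y).charpoly = 0}.ncard :=
    Set.ncard_le_ncard_of_injOn f (fun g hg => hg) hf.injOn
  refine le_trans ?_ h2
  rw [← Set.ncard_image_of_injective {g : Subgroup.centralizer {y} | _} Subtype.val_injective]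
  refine Set.ncard_le_ncard ?_ (Set.toFinite _)
  rintro _ (rfl | ⟨n, hn, rfl⟩)
  · refine ⟨1, ?_, rfl⟩
    have h3 : (S.ρ y).charpoly.IsRoot 1 := by
      rw [← Matrix.charpoly_toLin', ← Module.End.hasEigenvalue_iff_isRoot_charpoly,
        Module.End.hasEigenvalue_iff, Module.End.eigenspace_def, one_smul]
      intro e
      have h7 := LinearMap.finrank_range_add_finrank_ker (Matrix.toLin' (S.ρ y - 1))
      rw [S.finrank_mvd hp hy h, Module.finrank_fin_fun, map_sub, Matrix.toLin'_one,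
        ← Module.End.one_eq_id, e, finrank_bot] at h7
      omega
    rw [Set.mem_ofPred_eq, map_one, ← map_one (algebraMap F D), Polynomial.aeval_algebraMap_apply,
      Polynomial.coe_aeval_eq_eval, h3, map_zero]
  · refine ⟨⟨_, conj_mem_of_mem_normalizer hn (self_mem_centralizer y)⟩, ?_, rfl⟩
    have h4 : (S.ρ (n * y * n⁻¹)).charpoly = (S.ρ y).charpoly := by
      rw [map_mul, Matrix.charpoly_mul_comm, ← map_mul, inv_mul_cancel_left]
    rw [Set.mem_ofPred_eq, ← h4]
    exact hf' _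

variable {S}

theorem IsPi.exists_prime {x : G} (hx : S.IsPi x) : ∃ (y : G) (p : ℕ), p.Prime ∧ orderOf y = p ∧
    p ∣ phi6 (Nat.card F) ∧ Subgroup.centralizer {x} = Subgroup.centralizer {y} := by
  have := S.finite
  obtain ⟨p, hp, hd⟩ := Nat.exists_prime_and_dvd (orderOf_eq_one_iff.not.mpr hx.1)
  obtain ⟨y, -, hy, hle⟩ := exists_prime_pow hd
  have h := hd.trans hx.2
  have hc := S.isCyclic_centralizer_prime hp hy h
  exact ⟨_, p, hp, hy, h, Model.centralizer_eq_of_isCyclic hc (Subgroup.isCyclic_of_le hle)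
    (hle (self_mem_centralizer x))⟩

theorem IsPi.isCyclic_centralizer {x : G} (hx : S.IsPi x) :
    IsCyclic (Subgroup.centralizer {x}) := by
  obtain ⟨y, p, hp, hy, h, e⟩ := hx.exists_prime
  rw [e]
  exact S.isCyclic_centralizer_prime hp hy h

theorem IsPi.relIndex_le_six {x : G} (hx : S.IsPi x) : (Subgroup.centralizer {x}).relIndex
      (Subgroup.normalizer ((Subgroup.centralizer {x} : Subgroup G) : Set G)) ≤ 6 := by
  obtain ⟨y, p, hp, hy, h, e⟩ := hx.exists_prime
  rw [e]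
  exact S.relIndex_le_six_prime hp hy h

theorem IsPi.centralizer_eq {x y : G} (hx : S.IsPi x) (hy : y ≠ 1)
    (h : y ∈ Subgroup.centralizer {x}) : Subgroup.centralizer {y} = Subgroup.centralizer {x} :=
  Model.centralizer_eq_of_isCyclic hx.isCyclic_centralizer
    (hx.of_mem_centralizer hy h).isCyclic_centralizer h

theorem IsPi.isTI {x : G} (hx : S.IsPi x) : IsTI (Subgroup.centralizer {x}) := by
  intro g y h1 hy hg
  rw [← inv_mem_iff, ← hx.centralizer_eq h1 hy]
  apply mem_normalizer_centralizer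
  rw [inv_inv, hx.centralizer_eq (conj_ne_one h1 g) hg, hx.centralizer_eq h1 hy]

theorem IsPi.normalizer_eq {x : G} (hx : S.IsPi x) {A : Subgroup G}
    (hA : A ≤ Subgroup.centralizer {x}) (h : A ≠ ⊥) : Subgroup.normalizer (A : Set G) =
      Subgroup.normalizer ((Subgroup.centralizer {x} : Subgroup G) : Set G) := by
  have := S.finite
  have := hx.isCyclic_centralizer
  obtain ⟨⟨y, hy⟩, h1⟩ := Subgroup.ne_bot_iff_exists_ne_one.mp h
  exact le_antisymm (fun g hg => hx.isTI g y (fun e => h1 (Subtype.ext e)) (hA hy)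
    (hA ((Subgroup.mem_normalizer_iff''.mp hg _).mp hy))) (normalizer_le_of_isCyclic hA)

theorem IsPi.of_mem_conjSet {x y : G} (hx : S.IsPi x)
    (h : y ∈ conjSet (Subgroup.centralizer {x})) : S.IsPi y := by
  obtain ⟨h1, g, hg⟩ := h
  simpa [mul_assoc] using (hx.of_mem_centralizer (conj_ne_one h1 g) hg).conj' g

theorem IsPi.centralizer_eq_conj {x y : G} (hx : S.IsPi x)
    (h : y ∈ conjSet (Subgroup.centralizer {x})) :
    ∃ g : G, Subgroup.centralizer {y} = MulAut.conj g • Subgroup.centralizer {x} := by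
  obtain ⟨h1, g, hg⟩ := h
  refine ⟨g, ?_⟩
  rw [← hx.centralizer_eq (conj_ne_one h1 g) hg, ← centralizer_conj]
  simp [mul_assoc]

theorem IsPi.conjSet_eq {x y : G} (hx : S.IsPi x) (h : y ∈ conjSet (Subgroup.centralizer {x})) :
    conjSet (Subgroup.centralizer {y}) = conjSet (Subgroup.centralizer {x}) := by
  obtain ⟨g, hg⟩ := hx.centralizer_eq_conj h
  rw [hg, conjSet_conj_smul]

omit [ReeField F] in
theorem IsPi.mem_conjSet_self {x : G} (hx : S.IsPi x) : x ∈ conjSet (Subgroup.centralizer {x}) :=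
  mem_conjSet_of_mem (self_mem_centralizer x) hx.1

theorem IsPi.exists_sylow_le {x : G} (hx : S.IsPi x) {p : ℕ} [hp : Fact p.Prime]
    (h : p ∣ Nat.card (Subgroup.centralizer {x})) :
    ∃ P : Sylow p G, (P : Subgroup G) ≤ Subgroup.centralizer {x} ∧ (P : Subgroup G) ≠ ⊥ := by
  have := S.finite
  obtain ⟨y, hy⟩ := exists_prime_orderOf_dvd_card' p h
  have hy1 : (y : G) ≠ 1 := by
    intro e
    rw [show y = 1 from Subtype.ext e, orderOf_one] at hy
    exact hp.out.one_lt.ne hy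
  have hP : IsPGroup p (Subgroup.zpowers (y : G)) :=
    IsPGroup.of_card (n := 1) (by rw [Nat.card_zpowers, Subgroup.orderOf_coe, hy, pow_one])
  obtain ⟨P, hP⟩ := hP.exists_le_sylow
  have hyP : (y : G) ∈ (P : Subgroup G) := hP (Subgroup.mem_zpowers _)
  have : Nontrivial (P : Subgroup G) := ⟨⟨⟨y, hyP⟩, 1, fun e => hy1 (congrArg Subtype.val e)⟩⟩
  have := P.isPGroup'.center_nontrivial
  obtain ⟨z, hz⟩ := exists_ne (1 : Subgroup.center (P : Subgroup G))
  have hz1 : ((z : (P : Subgroup G)) : G) ≠ 1 := fun e => hz (Subtype.ext (Subtype.ext e))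
  have hzc : ∀ g ∈ (P : Subgroup G), g ∈ Subgroup.centralizer {((z : (P : Subgroup G)) : G)} := by
    intro g hg
    rw [Subgroup.mem_centralizer_singleton_iff]
    exact congrArg Subtype.val (Subgroup.mem_center_iff.mp z.2 ⟨g, hg⟩)
  have hyfree := hx.of_mem_centralizer hy1 y.2
  have hzy : ((z : (P : Subgroup G)) : G) ∈ Subgroup.centralizer {(y : G)} := by
    rw [Subgroup.mem_centralizer_singleton_iff]
    exact (Subgroup.mem_centralizer_singleton_iff.mp (hzc _ hyP)).symm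
  refine ⟨P, ?_, (Subgroup.nontrivial_iff_ne_bot _).mp inferInstance⟩
  rw [← hx.centralizer_eq hy1 y.2, ← hyfree.centralizer_eq hz1 hzy]
  exact hzc

theorem IsPi.not_dvd_index {x : G} (hx : S.IsPi x) {p : ℕ} (hp : p.Prime)
    (h : p ∣ Nat.card (Subgroup.centralizer {x})) : ¬ p ∣ (Subgroup.centralizer {x}).index := by
  have := S.finite
  have := Fact.mk hp
  obtain ⟨P, hP, -⟩ := hx.exists_sylow_le h
  exact fun e => P.not_dvd_index (e.trans (Subgroup.index_dvd_of_le hP))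

theorem IsPi.mem_conjSet_of_dvd {x y : G} (hx : S.IsPi x) (hy : S.IsPi y) {p : ℕ}
    (hp : p.Prime) (h : p ∣ Nat.card (Subgroup.centralizer {x})) (h' : p ∣ orderOf y) :
    y ∈ conjSet (Subgroup.centralizer {x}) := by
  have := S.finite
  obtain ⟨z, -, hz, hle⟩ := exists_prime_pow h'
  obtain ⟨g, hg⟩ := exists_conj_mem_of_not_dvd_index hp (hx.not_dvd_index hp h) hz
  refine ⟨hy.1, g, ?_⟩
  rw [← hx.centralizer_eq (conj_ne_one (by
    rintro rfl; exact hp.one_lt.ne (orderOf_one.symm.trans hz)) g) hg]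
  exact conj_mem_centralizer (hle (self_mem_centralizer y)) g

theorem IsPi.seven_le_card {x : G} (hx : S.IsPi x) : 7 ≤ Nat.card (Subgroup.centralizer {x}) := by
  have := S.finite
  have h1 : ¬ 2 ∣ Nat.card (Subgroup.centralizer {x}) := fun e =>
    ReeCard.not_two_dvd_phi6 F (e.trans hx.card_centralizer_dvd)
  have h2 : ¬ 3 ∣ Nat.card (Subgroup.centralizer {x}) := fun e =>
    ReeCard.not_three_dvd_phi6 F (e.trans hx.card_centralizer_dvd)
  have h3 : ¬ 5 ∣ Nat.card (Subgroup.centralizer {x}) := fun e =>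
    ReeCard.not_five_dvd F (S.card_eq ▸ e.trans (Subgroup.card_subgroup_dvd_card _))
  have h4 : Nat.card (Subgroup.centralizer {x}) ≠ 1 := fun e =>
    hx.1 (Subgroup.mem_bot.mp (Subgroup.card_eq_one.mp e ▸ self_mem_centralizer x))
  by_contra h
  push Not at h
  generalize Nat.card (Subgroup.centralizer {x}) = n at *
  interval_cases n <;> simp_all

theorem IsPi.relIndex_mem {x : G} (hx : S.IsPi x) : (Subgroup.centralizer {x}).relIndex
      (Subgroup.normalizer ((Subgroup.centralizer {x} : Subgroup G) : Set G)) ∈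
      ({1, 2, 3, 4, 6} : Set ℕ) := by
  have := S.finite
  have h1 := hx.relIndex_le_six
  have h2 : (Subgroup.centralizer {x}).relIndex
      (Subgroup.normalizer ((Subgroup.centralizer {x} : Subgroup G) : Set G)) ∣ Nat.card G :=
    (Subgroup.index_dvd_card _).trans (Subgroup.card_subgroup_dvd_card _)
  have h3 := S.card_eq ▸ ReeCard.not_five_dvd F
  have h4 : (Subgroup.centralizer {x}).relIndex
      (Subgroup.normalizer ((Subgroup.centralizer {x} : Subgroup G) : Set G)) ≠ 0 :=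
    Subgroup.index_ne_zero_of_finite
  generalize (Subgroup.centralizer {x}).relIndex
      (Subgroup.normalizer ((Subgroup.centralizer {x} : Subgroup G) : Set G)) = n at *
  interval_cases n <;> simp_all

theorem IsPi.count {x : G} (hx : S.IsPi x) :
    (conjSet (Subgroup.centralizer {x})).ncard * (Nat.card (Subgroup.centralizer {x}) *
      (Subgroup.centralizer {x}).relIndex
        (Subgroup.normalizer ((Subgroup.centralizer {x} : Subgroup G) : Set G))) =
      (Nat.card (Subgroup.centralizer {x}) - 1) * Nat.card G := by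
  have := S.finite
  rw [card_mul_relIndex Subgroup.le_normalizer, ncard_conjSet_mul hx.isTI]

variable (S)

theorem exists_pi_prime {p : ℕ} (hp : p.Prime) (h : p ∣ phi6 (Nat.card F)) :
    ∃ x, S.IsPi x ∧ orderOf x = p := by
  have := S.finite
  have := Fact.mk hp
  obtain ⟨x, hx⟩ := exists_prime_orderOf_dvd_card' (G := G) p
    (by rw [S.card_eq']; exact h.mul_left _)
  exact ⟨x, ⟨by rintro rfl; exact hp.one_lt.ne (orderOf_one.symm.trans hx), hx ▸ h⟩, hx⟩

end Field

end Ree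

end Cfsg.Agent.H39
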