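import Cfsg.Agent.H39.SpRl1A
import Cfsg.Agent.H69.SpRl0
import Cfsg.Agent.H45.AnPin
import Cfsg.Agent.H68.SpDefs2

/-!
Project SP, piece RL1: the pinning of type `A₂ₖ` in the odd dimensional linear case.
-/

set_option autoImplicit false

namespace Cfsg.Agent.H39.Rl1

open Cfsg Cfsg.Agent.H63 Cfsg.Agent.H63.SL Cfsg.Agent.H26 Cfsg.Agent.H68.Sp
open Cfsg.Agent.H78 hiding tv tv_zero
open Cfsg.Agent.H29.SpK Cfsg.Agent.H36.SpY Cfsg.Agent.H69.SpRl
open Cfsg.Agent.H40.LF (x_mem_UU UU_le)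
open Subgroup Module
open scoped commutatorElement

universe u v

section Pin

variable {A : Type v} [CommRing A] {G : Type u} [Group G] {n : ℕ}

theorem pin_of_st {x : Fin (n + 1) → Fin (n + 1) → A → G} (h : St x) :
    Pin (An.R n) fun r => x r.1.1 r.1.2 where
  two := h.two
  add r := h.add r.2
  com r s e a d := by
    obtain ⟨j, k, jk, rfl⟩ := An.exists_rt r
    obtain ⟨l, m, lm, rfl⟩ := An.exists_rt s
    obtain ⟨h1, h2⟩ := H45.An.com_cases e
    exact h.com jk lm h1 h2 a d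
  rel r s q e a d := by
    obtain ⟨j, k, jk, rfl⟩ := An.exists_rt r
    obtain ⟨l, m, lm, rfl⟩ := An.exists_rt s
    obtain ⟨p, q, pq, rfl⟩ := An.exists_rt q
    rcases H45.An.rel_cases e with ⟨rfl, rfl, rfl⟩ | ⟨rfl, rfl, rfl⟩
    · exact h.rel jk lm pq a d
    · have := h.rel lm jk pq d a
      rw [← commutatorElement_inv, inv_eq_iff_eq_inv, h.inv pq, mul_comm] at this
      exact this
  inj r a e := h.inj r.2 a e

/-- The root elements indexed by pairs. -/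
def xm (x : An.Φ n → A → G) (i j : Fin (n + 1)) (a : A) : G :=
  if h : i ≠ j then x (An.rt i j h) a else 1

omit [CommRing A] in
theorem xm_eq (x : An.Φ n → A → G) {i j : Fin (n + 1)} (h : i ≠ j) (a : A) :
    xm x i j a = x (An.rt i j h) a := dif_pos h

theorem st_of_pin {x : An.Φ n → A → G} (h : Pin (An.R n) x) : St (xm x) where
  two := h.two
  add e a b := by rw [xm_eq x e, xm_eq x e, xm_eq x e, h.add]
  com {i j k l} e1 e2 e3 e4 a b := by
    rw [xm_eq x e1, xm_eq x e2]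
    refine h.com _ _ ?_ a b
    have h3 : (j : ℕ) ≠ k := fun e => e3 (Fin.ext e)
    have h4 : (i : ℕ) ≠ l := fun e => e4 (Fin.ext e.symm)
    simp only [An.pair_rt, An.δ]
    split_ifs <;> omega
  rel e1 e2 e3 a b := by
    rw [xm_eq x e1, xm_eq x e2, xm_eq x e3]
    exact h.rel _ _ _ (An.rc_add _ _ _ e1 e2 e3) a b
  inj e a ha := h.inj _ a (xm_eq x e a ▸ ha)

theorem exists_equiv {m k : ℕ} (h : m = 2 * k) : ∃ e : Fin (2 * k + 1) ≃ Option (Fin m),
    ∀ i, e i.rev = (e i).map Fin.rev := by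
  subst h
  have hm : (⟨k, by omega⟩ : Fin (2 * k + 1)).rev = ⟨k, by omega⟩ :=
    Fin.ext (by simp only [Fin.val_rev]; omega)
  refine ⟨finSuccEquiv' ⟨k, by omega⟩, fun i => ?_⟩
  rcases Fin.eq_self_or_eq_succAbove ⟨k, by omega⟩ i with rfl | ⟨j, rfl⟩
  · rw [hm, finSuccEquiv'_at]; rfl
  · rw [Fin.rev_succAbove, hm, finSuccEquiv'_succAbove, finSuccEquiv'_succAbove]; rfl

theorem six {m : ℕ} (h : 6 ≤ m) (a b c d e : Fin m) :
    ∃ z, z ≠ a ∧ z ≠ b ∧ z ≠ c ∧ z ≠ d ∧ z ≠ e := by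
  obtain ⟨z, hz⟩ : ∃ z, z ∉ ({a, b, c, d, e} : Finset (Fin m)) := by
    by_contra! H
    have := (Finset.card_le_card fun z (_ : z ∈ Finset.univ) => H z).trans Finset.card_le_five
    simp at this
    omega
  exact ⟨z, by simpa using hz⟩

end Pin

variable {F V : Type v} [Field F] [AddCommGroup V] [Module F V] {G : Type u} [Group G]
  {P : PForm F V} {φ : P.E →* G} {L : Subgroup G} {k : ℕ} {t : G} {c0 ρ : F} {y : V → V → G}
  {p : V → G}

theorem comm_p (pc : PC P φ L t y p) {w : V} {e : P.E} (he : e.1 w = w) : Commute (φ e) (p w) := by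
  have := pc.conj w e
  rw [he] at this
  exact mul_inv_eq_iff_eq_mul.1 this

theorem xx_comm_p (C : Cx P φ L k t c0 ρ y) (pc : PC P φ L t y p) {u v w : V} (H : I2 P u v)
    (h1 : P.f u w = 0) (h2 : P.f v w = 0) (c : F) : Commute (xx P φ c0 ρ y u v c) (p w) := by
  rw [xx, YA]
  refine Commute.mul_left (comm_p pc (eE_fix C.h (PForm.f_symm_zero h1) ?_ 0)) ?_
  · rw [fr C.h, PForm.f_symm_zero h2, mul_zero]
  · by_cases hc : c = 0
    · subst hc
      change Commute (y u ((0 : F) • v)) _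
      rw [ys_zero C.Y]
      exact Commute.one_left _
    · exact (pc.comY w u _ (i2_smul_right H hc) h1 (by rw [P.f_smul_left, h2, mul_zero])).symm

theorem xx_y (C : Cx P φ L k t c0 ρ y) {u v : V} (H : I2 P u v) :
    xx P φ c0 ρ y u v (1 + ρ) * xx P φ c0 ρ y v u ρ = y u v := by
  rw [C.xx_swap H, xx, ← YA_adds C.Y C.h H, YA]
  have := C.h.two
  simp only [QuadraticAlgebra.re_add, QuadraticAlgebra.im_add]
  rw [show (1 + ρ) * ρ + (ρ * ρ + ρ) = 0 by linear_combination (ρ * ρ + ρ) * this,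
    show 1 + ρ + ρ = 1 by linear_combination ρ * this, zero_smul, Es_zero, one_mul, one_smul]

section Frame

variable {n : ℕ} {b : Fin (n + 1) → V} {x : An.Φ n → F → G}

theorem rev_ne (hn : n + 1 = 2 * k) (i : Fin (n + 1)) : i.rev ≠ i := fun e => by
  have := congrArg Fin.val e
  rw [Fin.val_rev] at this
  omega

theorem i2_b (hb : ∀ i j, P.f (b i) (b j) = if j = Fin.rev i then 1 else 0) {i j : Fin (n + 1)}
    (h1 : j ≠ i) (h2 : j ≠ i.rev) : I2 P (b i) (b j) :=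
  i2_of (by rw [hb, if_neg h2]) fun c d h0 => by
    have k1 := congrArg (fun z => P.f z (b i.rev)) h0
    have k2 := congrArg (fun z => P.f z (b j.rev)) h0
    simp only [P.f_add_left, P.f_smul_left, hb, P.f_zero_left, if_true, Fin.rev_inj, if_neg h1,
      if_neg h1.symm, mul_one, mul_zero, add_zero, zero_add] at k1 k2
    exact ⟨k1, k2⟩

theorem ex_of (C : Cx P φ L k t c0 ρ y) (pc : PC P φ L t y p) (hk : 3 ≤ k) (hn : n + 1 = 2 * k)
    (tt : t * t = 1) (hb : ∀ i j, P.f (b i) (b j) = if j = Fin.rev i then 1 else 0)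
    (pin : Pin (An.R n) x) (ht : ∀ r a, t * x r a * t⁻¹ = x (An.γ n r) a)
    (h1 : ∀ i j h c, i ≠ Fin.rev j → x (An.rt i j h) c = xx P φ c0 ρ y (b (Fin.rev j)) (b i) c)
    (h2 : ∀ i h c, x (An.rt i (Fin.rev i) h) c = tv P φ (b i) c) :
    Ex Fin.rev (xm x) t (fun i => p (b i)) ρ := by
  have hE : ∀ {l c : Fin (n + 1)}, c ≠ l → c ≠ l.rev →
      EE Fin.rev (xm x) l c * p (b l) * (EE Fin.rev (xm x) l c)⁻¹ = p (b l + b c) := by
    intro l c e1 e2
    have H : I2 P (b l.rev) (b c) := i2_b hb e2 (by rwa [Fin.rev_rev])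
    rw [EE, xm_eq x e1, xm_eq x (Fin.rev_injective.ne e1.symm), h1 _ _ _ _ e2,
      h1 _ _ _ _ (by rw [Fin.rev_rev]; exact e2.symm), Fin.rev_rev, C.xx_mul H, one_smul, Es,
      ET_eq, pc.conj, Es_apply C.h H.1, hb, hb, if_pos rfl, if_neg e2, one_smul, zero_smul, add_zero]
  refine ⟨st_of_pin pin, Fin.rev_rev, rev_ne hn, six (by omega), tt, fun e a => ?_,
    fun {l i j} e1 e2 e3 a => ?_, fun l => ?_, fun {l c} e1 e2 => ?_, fun {l c} e1 e2 => ?_⟩
  · rw [xm_eq x e, ht, An.γ_rt, xm_eq]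
  · rw [xm_eq x e1]
    have f1 : P.f (b i) (b l) = 0 := by
      rw [hb, if_neg fun e => e3 (by rw [e, Fin.rev_rev])]
    by_cases e : i = j.rev
    · obtain rfl : j = i.rev := by rw [e, Fin.rev_rev]
      rw [h2]
      exact comm_p pc (eE_fix C.h (PForm.f_symm_zero f1) (P.f_zero_right _) a)
    · rw [h1 _ _ _ _ e]
      exact xx_comm_p C pc (i2_b hb e (by rwa [Fin.rev_rev]))
        (by rw [hb, Fin.rev_rev, if_neg e2.symm]) f1 a
  · rw [xm_eq x (rev_ne hn l).symm, h2, pc.tact]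
  · have H : I2 P (b l) (b c) := i2_b hb e1 e2
    have e3 : l ≠ c.rev := fun e => e2 (by rw [e, Fin.rev_rev])
    rw [hE e1 e2, xm_eq x e2, xm_eq x e3, h1 _ _ _ _ (by rwa [Fin.rev_rev]),
      h1 _ _ _ _ (by rw [Fin.rev_rev]; exact e1.symm), Fin.rev_rev, Fin.rev_rev, xx_y C H,
      pc.add _ _ H]
  · rw [hE e1 e2, hE e1.symm fun e => e2 (by rw [e, Fin.rev_rev]), add_comm]

end Frame

/-- The explicit form of RL0. -/
def RL0XStmt : Prop := CAll.{u, v} fun {F V} _ _ _ G _ P φ L k t =>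
  ∀ c0 y, Y1 P φ L t 1 y → Sh P φ 1 c0 y → AddU P φ c0 y → ∀ ρ : F, ρ * ρ + ρ = c0 →
    ∀ n, n + 1 = 2 * k → ∃ (b : Fin (n + 1) → V) (x : An.Φ n → F → G),
      (∀ i j, P.f (b i) (b j) = if j = Fin.rev i then 1 else 0) ∧ Pin (An.R n) x ∧
      (∀ r a, t * x r a * t⁻¹ = x (An.γ n r) a) ∧ UU x Set.univ = GA P φ L t ∧
      (∀ i j h c, i ≠ Fin.rev j → x (An.rt i j h) c = xx P φ c0 ρ y (b (Fin.rev j)) (b i) c) ∧
      ∀ i h c, x (An.rt i (Fin.rev i) h) c = tv P φ (b i) c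

theorem rl1_of (r0 : RL0XStmt.{u, v}) : RL1Stmt.{u, v} := by
  intro F V _ _ _ _ _ G _ _ P φ L k t c c0 y p Y S A pc ρ hρ
  have hk := c.k3
  obtain ⟨n, hn⟩ : ∃ n, n + 1 = 2 * k := ⟨2 * k - 1, by omega⟩
  obtain ⟨b, x, hb, pin, ht, hU, h1, h2⟩ := r0 P φ L k t c c0 y Y S A ρ hρ n hn
  have C := cx_of c Y S A hρ
  have tt : t * t = 1 := by rw [← pow_two, ← c.tc.t2, pow_orderOf_eq_one]
  have ex := ex_of C pc hk hn tt hb pin ht h1 h2
  obtain ⟨e, he⟩ := exists_equiv hn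
  have b0 : ∀ i, b i ≠ 0 := fun i h0 => by
    have := hb i i.rev
    rw [h0, P.f_zero_left, if_pos rfl] at this
    exact zero_ne_one this
  refine ⟨fun r => ex.ext (e r.1.1) (e r.1.2), pin_of_st (ex.st_ext.comp e.injective),
    fun r a => ?_, le_antisymm (UU_le fun r _ a => ?_) ?_⟩
  · obtain ⟨i, j, h, rfl⟩ := An.exists_rt r
    rw [An.γ_rt]
    change t * ex.ext (e i) (e j) a * t⁻¹ = ex.ext (e j.rev) (e i.rev) a
    rw [ex.t_ext (e.injective.ne h), he, he]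
  · refine ex.ext_mem (fun i j h a => ?_) (fun i => ?_) (e.injective.ne r.2) a
    · rw [xm_eq x h]
      exact mem_sup_left (hU ▸ x_mem_UU (Set.mem_univ _) a)
    · refine mem_sup_right (subset_closure ⟨b i, b0 i, (pc.canon _ (b0 i) _).2 ⟨1, 0, ?_⟩⟩)
      rw [one_smul, tv_zero, mul_one]
  · generalize hK : UU (fun r : An.Φ (2 * k) => ex.ext (e r.1.1) (e r.1.2)) Set.univ = K
    have m1 : ∀ i j, i ≠ j → ∀ a, ex.ext i j a ∈ K := fun i j h a => by
      have := x_mem_UU (x := fun r : An.Φ (2 * k) => ex.ext (e r.1.1) (e r.1.2))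
        (Set.mem_univ (An.rt (e.symm i) (e.symm j) (e.symm.injective.ne h))) a
      rw [hK] at this
      simpa [An.rt] using this
    have m2 : GA P φ L t ≤ K := by
      rw [← hU]
      refine UU_le fun r _ a => ?_
      obtain ⟨i, j, h, rfl⟩ := An.exists_rt r
      rw [← xm_eq x h]
      exact m1 (some i) (some j) (by simpa using h) a
    have m3 : L ≤ K := le_sup_left.trans m2
    have m4 : ∀ w, p w ∈ K := fun w => by
      by_cases hw : w = 0
      · rw [hw, pc.zero]; exact K.one_mem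
      obtain ⟨g, hg⟩ := c.g1.witt ![b 0] ![w] (by simpa using b0 0) (by simpa using hw)
        (fun i j => by simp [Fin.fin_one_eq_zero i, Fin.fin_one_eq_zero j, fs C.h])
      have := pc.conj (b 0) g
      rw [show g.1 (b 0) = w from hg 0] at this
      rw [← this]
      exact K.mul_mem (K.mul_mem (m3 (φ_mem C.h g)) (ex.p_mem m1 0)) (K.inv_mem (m3 (φ_mem C.h g)))
    refine sup_le m2 ((closure_le _).2 ?_)
    rintro q ⟨w, hw, hq⟩
    obtain ⟨s, a, rfl⟩ := (pc.canon w hw q).1 hq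
    exact K.mul_mem (m4 _) (m3 (ET_mem C.h _ _ _))

/-- **RL1** -/
theorem rl1 : RL1Stmt.{u, v} :=
  rl1_of fun _ _ _ _ _ c _ _ Y S A _ hρ _ hn => rl0x c Y S A hρ hn

end Cfsg.Agent.H39.Rl1
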