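import Mathlib

/-!
Project SP, piece RL1, abstract part: extension of Steinberg's relations of type `A` by one index.
-/

set_option autoImplicit false

namespace Cfsg.Agent.H39.Rl1

open scoped commutatorElement

universe u v

variable {ι : Type} {A : Type v} [CommRing A] {G : Type u} [Group G]

/-- Steinberg's relations of type `A` in characteristic two. -/
structure St (x : ι → ι → A → G) : Prop where
  two : (2 : A) = 0
  add : ∀ {i j}, i ≠ j → ∀ a b, x i j (a + b) = x i j a * x i j b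
  com : ∀ {i j k l}, i ≠ j → k ≠ l → j ≠ k → l ≠ i → ∀ a b, Commute (x i j a) (x k l b)
  rel : ∀ {i j k}, i ≠ j → j ≠ k → i ≠ k → ∀ a b, ⁅x i j a, x j k b⁆ = x i k (a * b)
  inj : ∀ {i j}, i ≠ j → ∀ a, x i j a = 1 → a = 0

theorem zero_of_add {f : A → G} (h : ∀ a b, f (a + b) = f a * f b) : f 0 = 1 := by
  have := h 0 0
  rw [add_zero] at this
  exact left_eq_mul.1 this

theorem sq_of_add (two : (2 : A) = 0) {f : A → G} (h : ∀ a b, f (a + b) = f a * f b) (a : A) :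
    f a * f a = 1 := by
  rw [← h, ← two_mul, two, zero_mul, zero_of_add h]

theorem inv_of_add (two : (2 : A) = 0) {f : A → G} (h : ∀ a b, f (a + b) = f a * f b) (a : A) :
    (f a)⁻¹ = f a := inv_eq_of_mul_eq_one_right (sq_of_add two h a)

theorem conj_of_comm {g h c : G} (e : ⁅g, h⁆ = c) : g * h * g⁻¹ = c * h := by
  rw [← e, commutatorElement_def]; group

namespace St

variable {x : ι → ι → A → G} (h : St x)
include h

theorem sq {i j : ι} (e : i ≠ j) (a : A) : x i j a * x i j a = 1 := sq_of_add h.two (h.add e) a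

theorem inv {i j : ι} (e : i ≠ j) (a : A) : (x i j a)⁻¹ = x i j a := inv_of_add h.two (h.add e) a

theorem cj1 {i j k : ι} (e1 : i ≠ j) (e2 : j ≠ k) (e3 : i ≠ k) (a b : A) :
    x i j a * x j k b * (x i j a)⁻¹ = x i k (a * b) * x j k b := conj_of_comm (h.rel e1 e2 e3 a b)

theorem cj2 {i j k : ι} (e1 : i ≠ j) (e2 : j ≠ k) (e3 : i ≠ k) (a b : A) :
    x j k b * x i j a * (x j k b)⁻¹ = x i k (a * b) * x i j a :=
  conj_of_comm (by rw [← commutatorElement_inv, h.rel e1 e2 e3, h.inv e3])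

theorem comp {κ : Type} {e : κ → ι} (he : Function.Injective e) :
    St fun i j => x (e i) (e j) :=
  ⟨h.two, fun a => h.add (he.ne a), fun a b c d => h.com (he.ne a) (he.ne b) (he.ne c) (he.ne d),
    fun a b c => h.rel (he.ne a) (he.ne b) (he.ne c), fun a => h.inj (he.ne a)⟩

end St

/-- The short root element that maps the `b`-th basis vector to the sum with the `c`-th one. -/
def EE (s : ι → ι) (x : ι → ι → A → G) (b c : ι) : G := x c b 1 * x (s b) (s c) 1

/-- The data for the extension. -/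
structure Ex (s : ι → ι) (x : ι → ι → A → G) (t : G) (p : ι → G) (ρ : A) : Prop extends St x where
  ss : ∀ i, s (s i) = i
  sne : ∀ i, s i ≠ i
  six : ∀ a b c d e : ι, ∃ z, z ≠ a ∧ z ≠ b ∧ z ≠ c ∧ z ≠ d ∧ z ≠ e
  tt : t * t = 1
  tx : ∀ {i j}, i ≠ j → ∀ a, t * x i j a * t⁻¹ = x (s j) (s i) a
  pc : ∀ {b i j}, i ≠ j → j ≠ b → i ≠ s b → ∀ a, Commute (x i j a) (p b)
  tp : ∀ b, t * p b * t⁻¹ = p b * x b (s b) 1
  ad : ∀ {b c}, c ≠ b → c ≠ s b →
    EE s x b c * p b * (EE s x b c)⁻¹ = p b * p c * (x c (s b) (1 + ρ) * x b (s c) ρ)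
  sy : ∀ {b c}, c ≠ b → c ≠ s b →
    EE s x b c * p b * (EE s x b c)⁻¹ = EE s x c b * p c * (EE s x c b)⁻¹

/-- The new root elements, with an auxiliary index. -/
def xb (s : ι → ι) (x : ι → ι → A → G) (p : ι → G) (ρ : A) (b i : ι) (c : A) : G :=
  x i b c * p b * (x i b c)⁻¹ * (p b)⁻¹ * x i (s b) (ρ * c)

namespace Ex

variable {s : ι → ι} {x : ι → ι → A → G} {t : G} {p : ι → G} {ρ : A} (h : Ex s x t p ρ)
include h

theorem step {b c i : ι} (h1 : c ≠ b) (h2 : c ≠ s b) (i1 : i ≠ b) (i2 : i ≠ s b) (i4 : i ≠ s c)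
    (a : A) : x i b a * (EE s x b c * p b * (EE s x b c)⁻¹) * (x i b a)⁻¹ =
      x i b a * p b * (x i b a)⁻¹ * (p b)⁻¹ * x i (s c) (ρ * a) *
        (EE s x b c * p b * (EE s x b c)⁻¹) := by
  have ss := h.ss
  have sne := h.sne
  rw [h.ad h1 h2]
  have c1 := (h.pc (b := c) i1 h1.symm i4 a).eq
  have c2 := (h.com i1 h2 h1.symm i2.symm a (1 + ρ)).eq
  have c3 := h.cj1 i1 (k := s c) (by grind) i4 a ρ
  have c4 := (h.com i4 h2 (sne c) i2.symm (ρ * a) (1 + ρ)).eq
  have c5 := (h.pc (b := b) i4 (by grind) i2 (ρ * a)).eq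
  have c6 := (h.pc (b := c) i4 (sne c) i4 (ρ * a)).eq
  rw [mul_comm a] at c3
  generalize x i b a = X at *
  generalize x c (s b) (1 + ρ) = Y at *
  generalize x b (s c) ρ = Z at *
  generalize x i (s c) (ρ * a) = D at *
  calc _ = X * p b * X⁻¹ * (X * p c) * X⁻¹ * (X * Y) * X⁻¹ * (X * Z * X⁻¹) := by group
    _ = X * p b * X⁻¹ * p c * (Y * D) * Z := by rw [c1, c2, c3]; group
    _ = X * p b * X⁻¹ * (p b)⁻¹ * (p b * D) * p c * Y * Z := by
      rw [← c4, ← mul_assoc _ D, mul_assoc _ (p c), ← c6]; group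
    _ = _ := by rw [← c5]; group

theorem indep {b c i : ι} (h1 : c ≠ b) (h2 : c ≠ s b) (i1 : i ≠ b) (i2 : i ≠ s b) (i3 : i ≠ c)
    (i4 : i ≠ s c) (a : A) : xb s x p ρ b i a = xb s x p ρ c i a := by
  have ss := h.ss
  have sne := h.sne
  have f1 := h.step h1 h2 i1 i2 i4 a
  have f2 := h.step h1.symm (by grind) i3 i4 i2 a
  rw [← h.sy h1 h2] at f2
  have f3 : EE s x b c * x i c a * (EE s x b c)⁻¹ = x i b a * x i c a := by
    have c1 := (h.com (i := s b) (j := s c) (by grind) i3 i4.symm h2 1 a).eq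
    have c2 := h.cj2 i3 h1 i1 a 1
    rw [mul_one] at c2
    rw [← c2, EE]
    calc _ = x c b 1 * (x (s b) (s c) 1 * x i c a) * (x (s b) (s c) 1)⁻¹ * (x c b 1)⁻¹ := by group
      _ = _ := by rw [c1]; group
  have f4 : Commute (x i b a * x i c a) (EE s x b c * p b * (EE s x b c)⁻¹) := by
    rw [← f3]
    exact (h.pc i3 h1 i2 a).conj _
  have q1 := h.sq i1 a
  have q2 := h.sq i2 (ρ * a)
  have q4 := h.sq i4 (ρ * a)
  have c1 := (h.com i2 i4 i2.symm i4.symm (ρ * a) (ρ * a)).eq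
  unfold xb
  generalize EE s x b c * p b * (EE s x b c)⁻¹ = P at *
  generalize x i b a = X at *
  generalize x i c a = X' at *
  generalize x i (s b) (ρ * a) = D at *
  generalize x i (s c) (ρ * a) = D' at *
  have f5 : X * P * X⁻¹ = X' * P * X'⁻¹ := by
    have e : X⁻¹ = X := inv_eq_of_mul_eq_one_right q1
    calc _ = X⁻¹ * (P * (X * X')) * X'⁻¹ := by rw [e]; group
      _ = _ := by rw [← f4.eq]; group
  rw [f1, f2, mul_left_inj] at f5
  calc _ = X * p b * X⁻¹ * (p b)⁻¹ * (D' * D') * D := by rw [q4, mul_one]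
    _ = X * p b * X⁻¹ * (p b)⁻¹ * D' * (D' * D) := by group
    _ = X' * p c * X'⁻¹ * (p c)⁻¹ * (D * D) * D' := by rw [f5, ← c1]; group
    _ = _ := by rw [q2, mul_one]

theorem indep2 {b c i : ι} (i1 : i ≠ b) (i2 : i ≠ s b) (i3 : i ≠ c) (i4 : i ≠ s c) (a : A) :
    xb s x p ρ b i a = xb s x p ρ c i a := by
  have ss := h.ss
  have sne := h.sne
  by_cases h1 : c = b
  · rw [h1]
  by_cases h2 : c = s b
  · obtain ⟨z, z1, z2, z3, z4, -⟩ := h.six i (s i) b (s b) b
    rw [h.indep z3 z4 i1 i2 z1.symm (by grind),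
      h.indep (b := c) (c := z) (by grind) (by grind) i3 i4 z1.symm (by grind)]
  · exact h.indep h1 h2 i1 i2 i3 i4 a

/-- The new root elements. -/
noncomputable def ξ (i : ι) (a : A) : G := xb s x p ρ (h.six i (s i) i i i).choose i a

theorem ξ_eq {b i : ι} (i1 : i ≠ b) (i2 : i ≠ s b) (a : A) : h.ξ i a = xb s x p ρ b i a := by
  have ss := h.ss
  obtain ⟨z1, z2, -⟩ := (h.six i (s i) i i i).choose_spec
  exact h.indep2 z1.symm (fun e => z2 (by rw [← ss (Exists.choose _), ← e])) i1 i2 a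

theorem r1 {l m i : ι} (e : l ≠ m) (e' : m ≠ i) (a c : A) : Commute (x l m a) (h.ξ i c) := by
  have ss := h.ss
  obtain ⟨b, z1, z2, z3, z4, z5⟩ := h.six i (s i) l (s l) m
  have i2 : i ≠ s b := by grind
  have c1 := h.com e z1.symm e' z3 a c
  have c2 := h.pc (b := b) e z5.symm (by grind) a
  rw [h.ξ_eq z1.symm i2, xb]
  exact (((c1.mul_right c2).mul_right c1.inv_right).mul_right c2.inv_right).mul_right
    (h.com e i2 e' (by grind) _ _)

theorem kk {b i : ι} (i1 : i ≠ b) (i2 : i ≠ s b) (a : A) :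
    x i b a * p b * (x i b a)⁻¹ = h.ξ i a * x i (s b) (ρ * a) * p b := by
  rw [h.ξ_eq i1 i2, xb, mul_assoc _ (x i (s b) _) (x i (s b) _), h.sq i2]; group

theorem two_step {b i l : ι} (i1 : i ≠ b) (i2 : i ≠ s b) (l1 : l ≠ b) (l2 : l ≠ s b) (a c : A) :
    x i b a * x l b c * p b * (x i b a * x l b c)⁻¹ =
      h.ξ l c * h.ξ i a * (x l (s b) (ρ * c) * x i (s b) (ρ * a)) * p b := by
  have k1 := h.kk i1 i2 a
  have k2 := h.kk l1 l2 c
  have c1 := (h.r1 i1 l1.symm a c).eq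
  have c2 := (h.com i1 l2 l1.symm i2.symm a (ρ * c)).eq
  have c3 := (h.r1 l2 i2.symm (ρ * c) a).eq
  calc _ = x i b a * (x l b c * p b * (x l b c)⁻¹) * (x i b a)⁻¹ := by group
    _ = (x i b a * h.ξ l c) * (x i b a)⁻¹ * (x i b a * x l (s b) (ρ * c)) * (x i b a)⁻¹ *
        (x i b a * p b * (x i b a)⁻¹) := by rw [k2]; group
    _ = h.ξ l c * (x l (s b) (ρ * c) * h.ξ i a) * x i (s b) (ρ * a) * p b := by
      rw [c1, c2, k1]; group
    _ = _ := by rw [c3]; group

theorem ξ_add (i : ι) (a c : A) : h.ξ i (a + c) = h.ξ i a * h.ξ i c := by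
  have ss := h.ss
  obtain ⟨b, z1, z2, -⟩ := h.six i (s i) i i i
  have i2 : i ≠ s b := by grind
  have k := h.two_step z1.symm i2 z1.symm i2 c a
  rw [← h.add z1.symm, ← h.add i2, ← mul_add, add_comm c, h.kk z1.symm i2] at k
  simpa using k

theorem ξ_inv (i : ι) (a : A) : (h.ξ i a)⁻¹ = h.ξ i a := inv_of_add h.two (h.ξ_add i) a

theorem ξ_com (i l : ι) (a c : A) : Commute (h.ξ i a) (h.ξ l c) := by
  have ss := h.ss
  obtain ⟨b, z1, z2, z3, z4, -⟩ := h.six i (s i) l (s l) l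
  have i2 : i ≠ s b := by grind
  have l2 : l ≠ s b := by grind
  have k1 := h.two_step z1.symm i2 z3.symm l2 a c
  have k2 := h.two_step z3.symm l2 z1.symm i2 c a
  rw [(h.com z1.symm z3.symm z3 z1 a c).eq, k2, (h.com i2 l2 l2.symm i2.symm _ _).eq] at k1
  exact mul_right_cancel (mul_right_cancel k1)

theorem r2 {l i : ι} (e : l ≠ i) (a c : A) : ⁅x l i a, h.ξ i c⁆ = h.ξ l (a * c) := by
  have ss := h.ss
  obtain ⟨b, z1, z2, z3, z4, -⟩ := h.six i (s i) l (s l) l
  have i2 : i ≠ s b := by grind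
  have l2 : l ≠ s b := by grind
  have k1 := h.two_step z3.symm l2 z1.symm i2 (a * c) c
  have k2 := h.kk z1.symm i2 c
  have c1 := h.cj1 e z1.symm z3.symm a c
  have c2 := h.cj1 e i2 l2 a (ρ * c)
  have c3 := (h.pc (b := b) e z1.symm l2 a).eq
  have c4 := (h.com i2 l2 l2.symm i2.symm (ρ * c) (ρ * (a * c))).eq
  rw [mul_left_comm a] at c2
  rw [← c1, c4, ← c2] at k1
  have k3 : x l i a * h.ξ i c * (x l i a)⁻¹ = h.ξ i c * h.ξ l (a * c) := by
    have : x l i a * h.ξ i c * (x l i a)⁻¹ * (x l i a * x i (s b) (ρ * c) * (x l i a)⁻¹) * p b =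
        h.ξ i c * h.ξ l (a * c) * (x l i a * x i (s b) (ρ * c) * (x l i a)⁻¹) * p b := by
      rw [← k1]
      calc _ = x l i a * (h.ξ i c * x i (s b) (ρ * c) * p b) * (x l i a)⁻¹ *
            ((x l i a * (p b)⁻¹) * (x l i a)⁻¹ * p b) := by group
        _ = x l i a * (x i b c * p b * (x i b c)⁻¹) * (x l i a)⁻¹ := by
          rw [← k2, (h.pc (b := b) e z1.symm l2 a).inv_right.eq]; group
        _ = x l i a * x i b c * (x l i a)⁻¹ * (x l i a * p b) * (x i b c)⁻¹ * (x l i a)⁻¹ := by group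
        _ = _ := by rw [c3]; group
    exact mul_right_cancel (mul_right_cancel this)
  rw [commutatorElement_def, k3, (h.ξ_com i l _ _).eq, mul_inv_cancel_right]

/-- The images under `t`. -/
noncomputable def η (j : ι) (a : A) : G := t * h.ξ (s j) a * t⁻¹

theorem tx' {i j : ι} (e : i ≠ j) (a : A) : x i j a = t * x (s j) (s i) a * t⁻¹ := by
  have ss := h.ss
  rw [h.tx (by grind), ss, ss]

theorem r1' {l m j : ι} (e : l ≠ m) (e' : l ≠ j) (a c : A) : Commute (x l m a) (h.η j c) := by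
  have ss := h.ss
  rw [h.tx' e, η]
  exact (h.r1 (by grind) (by grind) a c).conj t

theorem η_add (j : ι) (a c : A) : h.η j (a + c) = h.η j a * h.η j c := by
  rw [η, η, η, h.ξ_add]; group

theorem η_inv (j : ι) (a : A) : (h.η j a)⁻¹ = h.η j a := inv_of_add h.two (h.η_add j) a

theorem η_com (i l : ι) (a c : A) : Commute (h.η i a) (h.η l c) := (h.ξ_com _ _ a c).conj t

theorem r2' {j m : ι} (e : j ≠ m) (a c : A) : ⁅h.η j c, x j m a⁆ = h.η m (c * a) := by
  have ss := h.ss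
  rw [← commutatorElement_inv, h.tx' e, η, ← conjugate_commutatorElement, h.r2 (by grind),
    mul_comm c]
  exact h.η_inv m _

theorem kk' {b j : ι} (j1 : j ≠ b) (j2 : j ≠ s b) (a : A) :
    x (s b) j a * p b * (x (s b) j a)⁻¹ = h.η j a * x b j ((1 + ρ) * a) * p b := by
  have ss := h.ss
  have sne := h.sne
  have k := h.kk (b := b) (i := s j) (by grind) (by grind) a
  have e1 : t * x (s j) b a * t⁻¹ = x (s b) j a := by rw [h.tx (by grind), ss]
  have e2 := h.tx' j1.symm (ρ * a)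
  have e3 := h.cj2 (i := b) (j := s b) (k := j) (sne b).symm j2.symm j1.symm 1 a
  have c1 := (h.pc (b := b) j1.symm j1 (sne b).symm a).eq
  have q := h.sq j1.symm a
  rw [one_mul] at e3
  have k2 : x (s b) j a * p b * (x (s b) j a)⁻¹ * (x b j a * x b (s b) 1) =
      h.η j a * x b j (ρ * a) * (p b * x b (s b) 1) := by
    rw [← e3, ← h.tp, e2, η]
    calc _ = x (s b) j a * (p b * x b (s b) 1) * (x (s b) j a)⁻¹ := by group
      _ = t * (x (s j) b a * p b * (x (s j) b a)⁻¹) * t⁻¹ := by rw [← h.tp, ← e1]; group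
      _ = _ := by rw [k]; group
  rw [add_mul, one_mul, add_comm, h.add j1.symm]
  calc _ = x (s b) j a * p b * (x (s b) j a)⁻¹ * (x b j a * x b j a) := by rw [q, mul_one]
    _ = x (s b) j a * p b * (x (s b) j a)⁻¹ * (x b j a * x b (s b) 1) * (x b (s b) 1)⁻¹ *
        x b j a := by group
    _ = h.η j a * x b j (ρ * a) * (p b * x b j a) := by rw [k2]; group
    _ = _ := by rw [← c1]; group

theorem r5 {i j : ι} (e : i ≠ j) (a c : A) : ⁅h.ξ i a, h.η j c⁆ = x i j (a * c) := by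
  have ss := h.ss
  have sne := h.sne
  obtain ⟨b, z1, z2, z3, z4, -⟩ := h.six i (s i) j (s j) j
  have i2 : i ≠ s b := by grind
  have j2 : j ≠ s b := by grind
  have k1 := h.kk z1.symm i2 a
  have k2 := h.kk' z3.symm j2 c
  have c0 := (h.com z1.symm j2.symm (sne b).symm e.symm a c).eq
  have c1 := (h.r1' z1.symm e a c).eq
  have c2 := h.cj1 z1.symm z3 e a ((1 + ρ) * c)
  have c3 := (h.r1 j2.symm e.symm c a).eq
  have c4 := h.cj2 i2 j2.symm e (ρ * a) c
  have d1 := (h.r1 z3 e.symm ((1 + ρ) * c) a).eq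
  have d2 := (h.r1 e e.symm (a * ((1 + ρ) * c)) a).eq
  have d3 := (h.r1' i2 e (ρ * a) c).eq
  have d4 := (h.r1' e e (ρ * a * c) c).eq
  have d5 := (h.com z3 i2 e.symm (sne b) ((1 + ρ) * c) (ρ * a)).eq
  have d6 : x i j (a * ((1 + ρ) * c)) = x i j (a * c) * x i j (ρ * a * c) := by
    rw [← h.add e]; congr 1; ring
  have d7 := (h.r1 e e.symm (a * c) a).eq
  have d8 := (h.r1' e e (a * c) c).eq
  generalize x i b a = X at *
  generalize x (s b) j c = Y at *
  generalize h.ξ i a = ξ at *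
  generalize h.η j c = η at *
  generalize x i (s b) (ρ * a) = D at *
  generalize x b j ((1 + ρ) * c) = D' at *
  generalize x i j (a * ((1 + ρ) * c)) = U at *
  generalize x i j (ρ * a * c) = U' at *
  generalize x i j (a * c) = W at *
  have l1 : X * Y * p b * (X * Y)⁻¹ = η * ξ * U * (D' * D) * p b := by
    calc _ = X * (Y * p b * Y⁻¹) * X⁻¹ := by group
      _ = (X * η) * X⁻¹ * (X * D' * X⁻¹) * (X * p b * X⁻¹) := by rw [k2]; group
      _ = η * U * (D' * ξ) * D * p b := by rw [c1, c2, k1]; group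
      _ = η * (U * ξ) * D' * D * p b := by rw [d1]; group
      _ = _ := by rw [d2]; group
  have l2 : Y * X * p b * (Y * X)⁻¹ = ξ * η * U' * (D * D') * p b := by
    calc _ = Y * (X * p b * X⁻¹) * Y⁻¹ := by group
      _ = (Y * ξ) * Y⁻¹ * (Y * D * Y⁻¹) * (Y * p b * Y⁻¹) := by rw [k1]; group
      _ = ξ * U' * (D * η) * D' * p b := by rw [c3, c4, k2]; group
      _ = ξ * (U' * η) * D * D' * p b := by rw [d3]; group
      _ = _ := by rw [d4]; group
  rw [c0, l2, d5, d6, mul_left_inj, mul_left_inj, ← mul_assoc, mul_left_inj] at l1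
  calc _ = ξ * η * (η * ξ)⁻¹ := by rw [commutatorElement_def]; group
    _ = η * (ξ * W) * (η * ξ)⁻¹ := by rw [l1]; group
    _ = (η * W) * η⁻¹ := by rw [← d7]; group
    _ = W := by rw [← d8]; group

/-- The extended family. -/
noncomputable def ext : Option ι → Option ι → A → G
  | some i, some j => x i j
  | some i, none => h.ξ i
  | none, some j => h.η j
  | none, none => fun _ => 1

theorem st_ext : St h.ext := by
  have sne := h.sne
  refine ⟨h.two, ?_, ?_, ?_, ?_⟩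
  · rintro (_ | i) (_ | j) e
    exacts [absurd rfl e, h.η_add j, h.ξ_add i, h.add fun e' => e (congrArg _ e')]
  · rintro (_ | i) (_ | j) (_ | k) (_ | l) e1 e2 e3 e4 a b <;>
      simp only [ne_eq, not_true_eq_false, Option.some.injEq] at e1 e2 e3 e4
    · exact h.η_com _ _ a b
    · exact (h.r1' e2 (Ne.symm e3) b a).symm
    · exact h.ξ_com _ _ a b
    · exact (h.r1 e2 e4 b a).symm
    · exact h.r1' e1 (Ne.symm e4) a b
    · exact h.r1 e1 e3 a b
    · exact h.com e1 e2 e3 e4 a b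
  · rintro (_ | i) (_ | j) (_ | k) e1 e2 e3 a b <;>
      simp only [ne_eq, not_true_eq_false, Option.some.injEq] at e1 e2 e3
    · exact h.r2' e2 b a
    · exact h.r5 e3 a b
    · exact h.r2 e1 a b
    · exact h.rel e1 e2 e3 a b
  · rintro (_ | i) (_ | j) e a ha
    · exact absurd rfl e
    · have := h.r5 (sne j) 1 a
      rw [show h.η j a = 1 from ha, commutatorElement_one_right, one_mul] at this
      exact h.inj (sne j) a this.symm
    · have := h.r5 (sne i).symm a 1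
      rw [show h.ξ i a = 1 from ha, commutatorElement_one_left, mul_one] at this
      exact h.inj (sne i).symm a this.symm
    · exact h.inj (fun e' => e (congrArg _ e')) a ha

theorem t_ext {i j : Option ι} (e : i ≠ j) (a : A) :
    t * h.ext i j a * t⁻¹ = h.ext (j.map s) (i.map s) a := by
  rcases i with _ | i <;> rcases j with _ | j
  · exact absurd rfl e
  · change t * (t * h.ξ (s j) a * t⁻¹) * t⁻¹ = h.ξ (s j) a
    calc _ = (t * t) * h.ξ (s j) a * (t * t)⁻¹ := by group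
      _ = _ := by rw [h.tt]; group
  · change _ = t * h.ξ (s (s i)) a * t⁻¹
    rw [h.ss]; rfl
  · exact h.tx (fun e' => e (congrArg _ e')) a

theorem ξ_mem {K : Subgroup G} (hx : ∀ i j, i ≠ j → ∀ a, x i j a ∈ K) (hp : ∀ b, p b ∈ K) (i : ι)
    (a : A) : h.ξ i a ∈ K := by
  have ss := h.ss
  obtain ⟨b, z1, z2, -⟩ := h.six i (s i) i i i
  have i2 : i ≠ s b := by grind
  rw [h.ξ_eq z1.symm i2, xb]
  exact K.mul_mem (K.mul_mem (K.mul_mem (K.mul_mem (hx _ _ z1.symm _) (hp b))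
    (K.inv_mem (hx _ _ z1.symm _))) (K.inv_mem (hp b))) (hx _ _ i2 _)

theorem η_mem {K : Subgroup G} (hx : ∀ i j, i ≠ j → ∀ a, x i j a ∈ K) (hp : ∀ b, p b ∈ K) (j : ι)
    (a : A) : h.η j a ∈ K := by
  have ss := h.ss
  obtain ⟨b, z1, z2, -⟩ := h.six j (s j) j j j
  have j2 : j ≠ s b := by grind
  have e : h.η j a = x (s b) j a * p b * (x (s b) j a)⁻¹ * (p b)⁻¹ * (x b j ((1 + ρ) * a))⁻¹ := by
    rw [h.kk' z1.symm j2]; group
  rw [e]
  exact K.mul_mem (K.mul_mem (K.mul_mem (K.mul_mem (hx _ _ j2.symm _) (hp b))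
    (K.inv_mem (hx _ _ j2.symm _))) (K.inv_mem (hp b))) (K.inv_mem (hx _ _ z1 _))

theorem ext_mem {K : Subgroup G} (hx : ∀ i j, i ≠ j → ∀ a, x i j a ∈ K) (hp : ∀ b, p b ∈ K)
    {i j : Option ι} (e : i ≠ j) (a : A) : h.ext i j a ∈ K := by
  rcases i with _ | i <;> rcases j with _ | j
  exacts [absurd rfl e, h.η_mem hx hp j a, h.ξ_mem hx hp i a, hx _ _ (fun e' => e (congrArg _ e')) a]

theorem p_mem {K : Subgroup G} (hK : ∀ i j, i ≠ j → ∀ a, h.ext i j a ∈ K) (c : ι) : p c ∈ K := by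
  have ss := h.ss
  have sne := h.sne
  have hx : ∀ {i j}, i ≠ j → ∀ a, x i j a ∈ K := fun {i j} e a =>
    hK (some i) (some j) (by simpa using e) a
  have hξ : ∀ i a, h.ξ i a ∈ K := fun i a => hK (some i) none (by simp) a
  have hη : ∀ i a, h.η i a ∈ K := fun i a => hK none (some i) (by simp) a
  obtain ⟨b, z1, z2, -⟩ := h.six c (s c) c c c
  have c2 : c ≠ s b := by grind
  have k1 := h.kk z1.symm c2 1
  have k2 := h.kk' (b := b) (j := s c) z2.symm (by grind) 1
  have k3 := (h.sy z1.symm c2).trans (h.ad z1 z2)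
  have d1 := (h.pc (b := b) z2 z2.symm (sne b).symm (1 + ρ)).mul_left (h.pc c2 (sne b) c2 ρ)
  have m1 := K.mul_mem (hx z2 (1 + ρ)) (hx c2 ρ)
  rw [mul_assoc (p c), ← d1.eq, EE] at k3
  generalize x b (s c) (1 + ρ) * x c (s b) ρ = Y at *
  have e : p c = x c b 1 * (h.η (s c) 1 * x b (s c) ((1 + ρ) * 1)) * (x c b 1)⁻¹ *
      (h.ξ c 1 * x c (s b) (ρ * 1)) * Y⁻¹ := by
    calc _ = p c * (Y * p b) * (p b)⁻¹ * Y⁻¹ := by group
      _ = x c b 1 * (x (s b) (s c) 1 * p b * (x (s b) (s c) 1)⁻¹) * (x c b 1)⁻¹ * (p b)⁻¹ * Y⁻¹ := by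
        rw [← k3]; group
      _ = x c b 1 * (h.η (s c) 1 * x b (s c) ((1 + ρ) * 1)) * (x c b 1)⁻¹ *
          (x c b 1 * p b * (x c b 1)⁻¹) * (p b)⁻¹ * Y⁻¹ := by rw [k2]; group
      _ = _ := by rw [k1]; group
  rw [e]
  exact K.mul_mem (K.mul_mem (K.mul_mem (K.mul_mem (hx z1.symm _) (K.mul_mem (hη _ _) (hx z2 _)))
    (K.inv_mem (hx z1.symm _))) (K.mul_mem (hξ _ _) (hx c2 _))) (K.inv_mem m1)

end Ex

end Cfsg.Agent.H39.Rl1
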