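import Cfsg.Agent.H39.SzSub

/-!
Suzuki groups: the lower bound for the degrees of complex representations.
-/

set_option autoImplicit false

namespace Cfsg.Agent.H39

theorem Tits.exists_trace {F : Type*} [Field F] [Finite F] (T : Tits F) {m : ℕ}
    (hF : Nat.card F = 2 ^ (2 * m + 1)) : ∃ τ : F →+ ZMod 2, (∀ x, τ (T.θ x) = τ x) ∧ τ 1 = 1 ∧
      ∀ a, (∀ c, τ (a * c) = 0) → a = 0 := by
  have := T.charP
  let := ZMod.algebra F 2
  refine ⟨(Algebra.trace (ZMod 2) F).toAddMonoidHom, fun x => ?_, ?_, fun a ha => ?_⟩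
  · let e : F ≃ₐ[ZMod 2] F := AlgEquiv.ofRingEquiv (f := RingEquiv.ofBijective T.θ
      (Finite.injective_iff_bijective.mp T.θ.injective)) (fun x =>
        RingHom.congr_fun (Subsingleton.elim (T.θ.comp (algebraMap (ZMod 2) F))
          (algebraMap (ZMod 2) F)) x)
    exact Algebra.trace_eq_of_algEquiv e x
  · have h := FiniteField.pow_finrank_eq_natCard 2 F
    rw [hF] at h
    change Algebra.trace (ZMod 2) F 1 = 1
    rw [← map_one (algebraMap (ZMod 2) F), Algebra.trace_algebraMap,
      Nat.pow_right_injective le_rfl h]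
    simp only [nsmul_eq_mul, mul_one]
    push_cast
    rw [show (2 : ZMod 2) = 0 from rfl, zero_mul, zero_add]
  · exact (traceForm_nondegenerate (ZMod 2) F).1 a ha

namespace Model

variable {G : Type*} [Group G] {F : Type*} [Field F] (S : Model G F)
  {V : Type*} [AddCommGroup V] [Module ℂ V] (ρ : Representation ℂ G V)

/-- The weight space of a character of `Z`. -/
def wt (φ : AddChar F ℂ) : Submodule ℂ V where
  carrier := {v | ∀ b, ρ (S.u 0 b) v = φ b • v}
  add_mem' hv hw b := by rw [map_add, hv b, hw b, smul_add]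
  zero_mem' b := by simp
  smul_mem' c v hv b := by rw [map_smul, hv b, smul_comm]

theorem u_mem_wt {φ : AddChar F ℂ} (a b : F) (v : V) (hv : v ∈ S.wt ρ φ) :
    ρ (S.u a b) v ∈ S.wt ρ φ := fun c => by
  rw [← Module.End.mul_apply, ← map_mul, u_zero_comm, map_mul, Module.End.mul_apply, hv c, map_smul]

theorem card_mul_finrank_wt [Fintype F] [FiniteDimensional ℂ V] (φ : AddChar F ℂ) :
    (Fintype.card F : ℂ) * Module.finrank ℂ (S.wt ρ φ) = ∑ b, φ b * ρ.character (S.u 0 b) := by
  have := S.charP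
  have hq : (Fintype.card F : ℂ) ≠ 0 := Nat.cast_ne_zero.mpr Fintype.card_ne_zero
  have hφ : ∀ b, φ b * φ b = 1 := fun b => by
    rw [← AddChar.map_add_eq_mul, CharTwo.add_self_eq_zero, AddChar.map_zero_eq_one]
  have h : LinearMap.IsProj (S.wt ρ φ) ((Fintype.card F : ℂ)⁻¹ • ∑ b, φ b • ρ (S.u 0 b)) := by
    constructor
    · intro v
      rw [LinearMap.smul_apply]
      apply Submodule.smul_mem
      intro c
      rw [LinearMap.sum_apply, map_sum, Finset.smul_sum]
      refine Fintype.sum_equiv (Equiv.addLeft c) _ _ fun b => ?_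
      rw [LinearMap.smul_apply, LinearMap.smul_apply, map_smul, ← Module.End.mul_apply, ← map_mul,
        u_zero_mul, smul_smul, Equiv.coe_addLeft, AddChar.map_add_eq_mul, ← mul_assoc, hφ, one_mul]
    · intro v hv
      rw [LinearMap.smul_apply, LinearMap.sum_apply, Finset.sum_congr rfl (g := fun _ => v)
        fun b _ => by rw [LinearMap.smul_apply, hv b, smul_smul, hφ, one_smul]]
      rw [Finset.sum_const, Finset.card_univ, ← Nat.cast_smul_eq_nsmul ℂ, smul_smul,
        inv_mul_cancel₀ hq, one_smul]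
  rw [← h.trace, map_smul, map_sum, smul_eq_mul, mul_inv_cancel_left₀ hq]
  simp only [map_smul, smul_eq_mul]
  rfl

theorem card_mul_finrank_wt' [Fintype F] [FiniteDimensional ℂ V] (φ : AddChar F ℂ) :
    (Fintype.card F : ℂ) * Module.finrank ℂ (S.wt ρ φ) =
      Module.finrank ℂ V + (∑ b, φ b - 1) * ρ.character (S.u 0 1) := by
  classical
  rw [card_mul_finrank_wt, ← Finset.add_sum_erase _ _ (Finset.mem_univ (0 : F)),
    ← Finset.add_sum_erase _ _ (Finset.mem_univ (0 : F)), AddChar.map_zero_eq_one, u_zero,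
    Representation.char_one, one_mul, add_sub_cancel_left, Finset.sum_mul]
  congr 1
  refine Finset.sum_congr rfl fun b hb => ?_
  obtain ⟨k, hk⟩ := S.exists_unit_sq_θ one_ne_zero (Finset.ne_of_mem_erase hb)
  rw [← ρ.char_conj (S.u 0 1) (S.h k), h_conj_u, hk, mul_zero]

theorem finrank_eq_add [Finite F] [FiniteDimensional ℂ V] {φ : AddChar F ℂ} (hφ : φ ≠ 1) :
    Module.finrank ℂ V = Module.finrank ℂ (S.wt ρ 1) +
      (Nat.card F - 1) * Module.finrank ℂ (S.wt ρ φ) := by
  have := Fintype.ofFinite F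
  have hq : (Fintype.card F : ℂ) ≠ 0 := Nat.cast_ne_zero.mpr Fintype.card_ne_zero
  have h1 := S.card_mul_finrank_wt' ρ φ
  have h2 := S.card_mul_finrank_wt' ρ 1
  rw [AddChar.sum_eq_zero_of_ne_one hφ] at h1
  simp only [AddChar.one_apply, Finset.sum_const, Finset.card_univ, nsmul_eq_mul, mul_one] at h2
  apply Nat.cast_injective (R := ℂ)
  rw [Nat.card_eq_fintype_card]
  push_cast [Nat.cast_sub Fintype.card_pos]
  apply mul_left_cancel₀ hq
  linear_combination -h2 - (Fintype.card F - 1) * h1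

theorem two_pow_le_finrank_wt [Finite F] [FiniteDimensional ℂ V] {m : ℕ}
    (hF : Nat.card F = 2 ^ (2 * m + 1)) : ∃ φ : AddChar F ℂ, φ ≠ 1 ∧
      (Module.finrank ℂ (S.wt ρ φ) ≠ 0 → 2 ^ m ≤ Module.finrank ℂ (S.wt ρ φ)) := by
  have := S.charP
  obtain ⟨τ, hθ, h1, hτ⟩ := S.exists_trace hF
  let φ : AddChar F ℂ := (AddChar.zmodChar 2 (ζ := -1) (by norm_num)).compAddMonoidHom τ
  have hφ : ∀ x, τ x ≠ 0 → φ x = -1 := fun x hx => by
    have : τ x = 1 := by
      revert hx
      generalize τ x = y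
      decide +revert
    rw [AddChar.compAddMonoidHom_apply, this, AddChar.zmodChar_apply]
    exact pow_one _
  refine ⟨φ, fun e => ?_, fun hd => ?_⟩
  · have := hφ 1 (by rw [h1]; exact one_ne_zero)
    rw [e, AddChar.one_apply] at this
    norm_num at this
  let R : F → F → Module.End ℂ (S.wt ρ φ) := fun a b => (ρ (S.u a b)).restrict (S.u_mem_wt ρ a b)
  have hR : ∀ a b c d, R a b * R c d = R (a + c) (b + d + S.θ a * c) := fun a b c d => by
    ext v
    change ρ (S.u a b) (ρ (S.u c d) v) = ρ (S.u _ _) v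
    rw [← u_mul, map_mul, Module.End.mul_apply]
  have hR0 : ∀ b, R 0 b = φ b • 1 := fun b => by
    ext v
    exact v.2 b
  have htr : ∀ a b, a ≠ 0 → τ a = 0 → LinearMap.trace ℂ _ (R a b) = 0 := fun a b ha ha' => by
    obtain ⟨c, hc⟩ : ∃ c, τ (S.θ a * c + S.θ c * a) ≠ 0 := by
      by_contra h
      push Not at h
      have h2 : a ^ 2 + a = 0 := hτ _ fun c => by
        obtain ⟨d, rfl⟩ := S.θ_surj c
        rw [← h d, map_add, ← hθ (S.θ a * d), ← map_add, map_mul S.θ, S.θθ a]
        congr 1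
        ring
      have h3 : a * (a - 1) = 0 := by grind
      rw [sub_eq_zero.mp ((mul_eq_zero.mp h3).resolve_left ha), h1] at ha'
      exact one_ne_zero ha'
    have e1 : R c 0 * R a b * R c (c * S.θ c) = R 0 (S.θ a * c + S.θ c * a) * R a b := by
      rw [hR, hR, hR]
      simp only [map_add, map_zero]
      congr 1 <;> grind
    have e2 : R c (c * S.θ c) * R c 0 = 1 := by
      rw [hR, show c + c = 0 by grind, show c * S.θ c + 0 + S.θ c * c = 0 by grind, hR0,
        AddChar.map_zero_eq_one, one_smul]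
    have e3 := congrArg (LinearMap.trace ℂ _) e1
    rw [LinearMap.trace_mul_comm, ← mul_assoc, e2, one_mul, hR0, hφ _ hc, smul_mul_assoc, one_mul,
      map_smul, smul_eq_mul] at e3
    linear_combination e3 / 2
  have hli : LinearIndependent ℂ (fun a : τ.ker => R a 0) := by
    have := Fintype.ofFinite τ.ker
    rw [Fintype.linearIndependent_iff]
    intro g hg a
    have e := congrArg (fun X => LinearMap.trace ℂ _ (R a (a * S.θ a) * X)) hg
    simp only [Finset.mul_sum, map_sum, mul_smul_comm, map_smul, mul_zero, map_zero, hR] at e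
    rw [Finset.sum_eq_single a] at e
    · rw [show (a : F) + a = 0 by grind, show (a : F) * S.θ a + 0 + S.θ a * a = 0 by grind, hR0,
        AddChar.map_zero_eq_one, one_smul, LinearMap.trace_one, smul_eq_mul] at e
      exact (mul_eq_zero.mp e).resolve_right (Nat.cast_ne_zero.mpr hd)
    · intro b _ hb
      rw [htr _ _ (fun e => hb (Subtype.ext (by grind))) (τ.ker.add_mem a.2 b.2), smul_zero]
    · exact fun h => absurd (Finset.mem_univ a) h
  have hcard : Nat.card τ.ker = 2 ^ (2 * m) := by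
    have e := τ.ker.card_mul_index
    rw [AddSubgroup.index_ker, AddMonoidHom.range_eq_top.mpr (fun y => by
      revert y
      have h0 : ∃ a, τ a = 0 := ⟨0, map_zero τ⟩
      have h1 : ∃ a, τ a = 1 := ⟨1, h1⟩
      intro y
      fin_cases y
      · exact h0
      · exact h1), AddSubgroup.card_top, Nat.card_zmod, hF, pow_succ] at e
    exact Nat.eq_of_mul_eq_mul_right two_pos e
  have := Fintype.ofFinite τ.ker
  have h2 := hli.fintype_card_le_finrank
  rw [← Nat.card_eq_fintype_card, hcard, Module.finrank_linearMap, mul_comm 2 m, pow_mul,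
    ← pow_two] at h2
  exact (Nat.pow_le_pow_iff_left two_ne_zero).mp h2

theorem le_finrank [Finite F] [FiniteDimensional ℂ V] {m : ℕ}
    (hF : Nat.card F = 2 ^ (2 * m + 1)) (h : ρ (S.u 0 1) ≠ 1) :
    2 ^ m * (2 ^ (2 * m + 1) - 1) ≤ Module.finrank ℂ V := by
  obtain ⟨φ, h1, h2⟩ := S.two_pow_le_finrank_wt ρ hF
  have h3 := S.finrank_eq_add ρ h1
  have h4 : Module.finrank ℂ (S.wt ρ φ) ≠ 0 := by
    intro e
    rw [e, mul_zero, add_zero] at h3
    apply h
    ext v
    have hv : v ∈ S.wt ρ 1 := by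
      rw [Submodule.eq_top_of_finrank_eq h3.symm]
      trivial
    simpa using hv 1
  rw [h3, hF, mul_comm]
  exact le_add_left (Nat.mul_le_mul_left _ (h2 h4))

end Model

end Cfsg.Agent.H39
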