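import Cfsg.Agent.H39.SzTable
import Cfsg.Agent.H12.Burnside

/-!
Suzuki groups: squares of conjugacy classes.
-/

set_option autoImplicit false
set_option linter.unusedSimpArgs false
set_option linter.unreachableTactic false
set_option linter.unusedTactic false
set_option linter.unnecessarySeqFocus false

namespace Cfsg.Agent.H39

open Cfsg
open scoped ComplexConjugate

theorem le_re_of_eq {r : ℝ} {z : ℂ} (h : z = r) : r ≤ z.re := by simp [h]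

theorem neg_le_re_sum {ι : Type*} [Fintype ι] (f k : ι → ℂ) {M e : ℝ}
    (h1 : ∑ j, f j * conj (f j) = M) (h2 : ∀ j, ‖k j‖ ≤ e) :
    -(e * M) ≤ (∑ j, f j * f j * conj (k j)).re := by
  have h3 : ∑ j, ‖f j‖ ^ 2 = M := by
    simp only [Complex.mul_conj, Complex.normSq_eq_norm_sq] at h1
    exact_mod_cast h1
  have h4 : ‖∑ j, f j * f j * conj (k j)‖ ≤ e * M := by
    refine (norm_sum_le _ _).trans ?_
    rw [← h3, Finset.mul_sum]
    refine Finset.sum_le_sum fun j _ => ?_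
    rw [norm_mul, norm_mul, Complex.norm_conj, ← pow_two, mul_comm]
    exact mul_le_mul_of_nonneg_right (h2 j) (by positivity)
  have h5 := Complex.abs_re_le_norm (∑ j, f j * f j * conj (k j))
  linarith [(abs_le.mp (h5.trans h4)).1]

namespace Model

namespace Ctx

variable {G : Type*} [Group G] [Fintype G] {F : Type*} [Field F] [SzField F] {S : Model G F}
  (C : S.Ctx)

theorem at_zed {b : F} (hb : b ≠ 0) : C.St (S.u 0 b) = 0 ∧ (∀ j, C.X j (S.u 0 b) = 1) ∧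
    (∀ j, C.Y j (S.u 0 b) = 2 * C.s - 1) ∧ (∀ j, C.Z j (S.u 0 b) = -2 * C.s - 1) ∧
    C.W (S.u 0 b) = -C.s ∧ C.W' (S.u 0 b) = -C.s :=
  ⟨C.vals_St.zed b hb, fun j => (C.vals_X j).zed b hb, fun j => (C.vals_Y j).zed b hb,
    fun j => (C.vals_Z j).zed b hb, C.vals_W.zed b hb, C.vals_W'.zed b hb⟩

theorem at_uni {a : F} (ha : a ≠ 0) (b : F) : ∃ e : ℂ, (e = 1 ∨ e = -1) ∧ C.St (S.u a b) = 0 ∧
    (∀ j, C.X j (S.u a b) = 1) ∧ (∀ j, C.Y j (S.u a b) = -1) ∧ (∀ j, C.Z j (S.u a b) = -1) ∧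
    C.W (S.u a b) = C.s * Complex.I * e ∧ C.W' (S.u a b) = -(C.s * Complex.I * e) :=
  ⟨_, C.ψ_cases (b / (a * S.θ a)), by simpa using C.vals_St.uni a b ha,
    fun j => by simpa using (C.vals_X j).uni a b ha,
    fun j => by simpa using (C.vals_Y j).uni a b ha,
    fun j => by simpa using (C.vals_Z j).uni a b ha, by simpa using C.vals_W.uni a b ha,
    by simpa using C.vals_W'.uni a b ha⟩

theorem at_H {g : G} (hg : g ∈ S.H) (h : g ≠ 1) : C.St g = 1 ∧ (∀ j, C.X j g = C.fX.ξ j g) ∧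
    (∀ j, C.Y j g = 0) ∧ (∀ j, C.Z j g = 0) ∧ C.W g = 0 ∧ C.W' g = 0 :=
  ⟨C.vals_St.onH g hg h, fun j => (C.vals_X j).onH g hg h, fun j => (C.vals_Y j).onH g hg h,
    fun j => (C.vals_Z j).onH g hg h, C.vals_W.onH g hg h, C.vals_W'.onH g hg h⟩

theorem at_A₁ {g : G} (hg : g ∈ C.A₁) (h : g ≠ 1) : C.St g = -1 ∧ (∀ j, C.X j g = 0) ∧
    (∀ j, C.Y j g = -C.fY.ξ j g) ∧ (∀ j, C.Z j g = 0) ∧ C.W g = 1 ∧ C.W' g = 1 :=
  ⟨C.vals_St.on₁ g hg h, fun j => (C.vals_X j).on₁ g hg h, fun j => (C.vals_Y j).on₁ g hg h,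
    fun j => (C.vals_Z j).on₁ g hg h, C.vals_W.on₁ g hg h, C.vals_W'.on₁ g hg h⟩

theorem at_A₂ {g : G} (hg : g ∈ C.A₂) (h : g ≠ 1) : C.St g = -1 ∧ (∀ j, C.X j g = 0) ∧
    (∀ j, C.Y j g = 0) ∧ (∀ j, C.Z j g = -C.fZ.ξ j g) ∧ C.W g = -1 ∧ C.W' g = -1 :=
  ⟨C.vals_St.on₂ g hg h, fun j => (C.vals_X j).on₂ g hg h, fun j => (C.vals_Y j).on₂ g hg h,
    fun j => (C.vals_Z j).on₂ g hg h, C.vals_W.on₂ g hg h, C.vals_W'.on₂ g hg h⟩

theorem col (g : G) : 1 + C.St g * conj (C.St g) + ∑ j, C.X j g * conj (C.X j g) +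
    ∑ j, C.Y j g * conj (C.Y j g) + ∑ j, C.Z j g * conj (C.Z j g) + C.W g * conj (C.W g) +
    C.W' g * conj (C.W' g) = Nat.card (Subgroup.centralizer ({g} : Set G)) := by
  have : Fintype (IrrCharacter G) := Fintype.ofFinite _
  have h := H11.column_orthogonality_of_isConj (IsConj.refl g)
  rw [C.sum_irr (fun χ => χ g * conj (χ g))] at h
  simpa using h

theorem col_H {g : G} (hg : g ∈ S.H) (h : g ≠ 1) :
    ∑ j, C.fX.ξ j g * conj (C.fX.ξ j g) = 2 * C.s ^ 2 - 3 := by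
  have h1 := C.col g
  rw [S.centralizer_of_mem_H hg h, C.card_H] at h1
  simp [C.at_H hg h] at h1
  linear_combination h1

theorem col_A₁ {g : G} (hg : g ∈ C.A₁) (h : g ≠ 1) :
    ∑ j, C.fY.ξ j g * conj (C.fY.ξ j g) = 2 * C.s ^ 2 + 2 * C.s - 3 := by
  have h1 := C.col g
  rw [C.cent₁ g hg h, C.card_A₁] at h1
  simp [C.at_A₁ hg h] at h1
  linear_combination h1

theorem col_A₂ {g : G} (hg : g ∈ C.A₂) (h : g ≠ 1) :
    ∑ j, C.fZ.ξ j g * conj (C.fZ.ξ j g) = 2 * C.s ^ 2 - 2 * C.s - 3 := by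
  have h1 := C.col g
  rw [C.cent₂ g hg h, C.card_A₂] at h1
  simp [C.at_A₂ hg h] at h1
  linear_combination h1

omit [SzField F] in
theorem conj_of_real {χ : G → ℂ} (hχ : IsCharacter G χ) {g : G} (h : ∃ t, t * g * t⁻¹ = g⁻¹) :
    conj (χ g) = χ g := by
  obtain ⟨t, ht⟩ := h
  rw [H11.conj_apply hχ, ← ht, H11.isClassFunction_of_isCharacter hχ]

theorem sq_H {g : G} (hg : g ∈ S.H) (h : g ≠ 1) :
    ∑ j, C.fX.ξ j g * C.fX.ξ j g = 2 * C.s ^ 2 - 3 := by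
  have := SzField.finite F
  rw [← C.col_H hg h]
  refine Finset.sum_congr rfl fun j _ => ?_
  rw [conj_of_real (C.fX.isChar j) (isConj_inv_of_centralizer
    (fun a ha h => S.centralizer_of_mem_H ha h) (by rw [S.card_H]; exact SzField.odd_sub_one F)
    (by rw [S.card_normalizer_H]; exact Dvd.intro _ rfl) hg)]

theorem sq_A₁ {g : G} (hg : g ∈ C.A₁) (h : g ≠ 1) :
    ∑ j, C.fY.ξ j g * C.fY.ξ j g = 2 * C.s ^ 2 + 2 * C.s - 3 := by
  rw [← C.col_A₁ hg h]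
  refine Finset.sum_congr rfl fun j _ => ?_
  rw [conj_of_real (C.fY.isChar j) (isConj_inv_of_centralizer C.cent₁
    (by rw [C.card₁]; exact ⟨C.s ^ 2 + C.s, by ring⟩)
    (by rw [C.norm₁]; exact Dvd.dvd.mul_right (by norm_num) _) hg)]

theorem sq_A₂ {g : G} (hg : g ∈ C.A₂) (h : g ≠ 1) :
    ∑ j, C.fZ.ξ j g * C.fZ.ξ j g = 2 * C.s ^ 2 - 2 * C.s - 3 := by
  rw [← C.col_A₂ hg h]
  refine Finset.sum_congr rfl fun j _ => ?_
  rw [conj_of_real (C.fZ.isChar j) (isConj_inv_of_centralizer C.cent₂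
    (by have := C.card₂; rw [Nat.odd_iff]; omega)
    (by rw [C.norm₂]; exact Dvd.dvd.mul_right (by norm_num) _) hg)]

theorem master [Fintype (IrrCharacter G)] {x g : G} (α β γ δ ε : ℝ)
    (h1 : α ≤ (C.St x * C.St x * conj (C.St g)).re)
    (h2 : β ≤ (∑ j, C.X j x * C.X j x * conj (C.X j g)).re)
    (h3 : γ ≤ (∑ j, C.Y j x * C.Y j x * conj (C.Y j g)).re)
    (h4 : δ ≤ (∑ j, C.Z j x * C.Z j x * conj (C.Z j g)).re)
    (h5 : ε ≤ (C.W x * C.W x * conj (C.W g) + C.W' x * C.W' x * conj (C.W' g)).re)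
    (h : 0 < (4 * C.s ^ 4 + α) * (2 * C.s ^ 2 - 1) * (4 * C.s ^ 4 + 1) +
      4 * C.s ^ 4 * (β * (2 * C.s ^ 2 - 1) + γ * (2 * C.s ^ 2 + 2 * C.s + 1) +
        δ * (2 * C.s ^ 2 - 2 * C.s + 1)) + 4 * C.s ^ 3 * ε * (4 * C.s ^ 4 + 1)) :
    ∑ χ : IrrCharacter G, (χ : G → ℂ) x * (χ : G → ℂ) x * conj ((χ : G → ℂ) g) / (χ : G → ℂ) 1
      ≠ 0 := by
  rw [C.sum_irr (fun χ => χ x * χ x * conj (χ g) / χ 1)]
  simp only [C.vals_St.one, fun j => (C.vals_X j).one, fun j => (C.vals_Y j).one,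
    fun j => (C.vals_Z j).one, C.vals_W.one, C.vals_W'.one, ← Finset.sum_div]
  rw [add_assoc, ← add_div]
  generalize C.St x * C.St x * conj (C.St g) = A at *
  generalize ∑ j, C.X j x * C.X j x * conj (C.X j g) = B at *
  generalize ∑ j, C.Y j x * C.Y j x * conj (C.Y j g) = D at *
  generalize ∑ j, C.Z j x * C.Z j x * conj (C.Z j g) = E at *
  generalize C.W x * C.W x * conj (C.W g) + C.W' x * C.W' x * conj (C.W' g) = K at *
  intro h0
  have hs : (2 : ℝ) ≤ C.s := by exact_mod_cast C.two_le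
  have e : (4 * C.s ^ 4 + A) * (2 * C.s ^ 2 - 1) * (4 * C.s ^ 4 + 1) +
      4 * C.s ^ 4 * (B * (2 * C.s ^ 2 - 1) + D * (2 * C.s ^ 2 + 2 * C.s + 1) +
        E * (2 * C.s ^ 2 - 2 * C.s + 1)) + 4 * C.s ^ 3 * K * (4 * C.s ^ 4 + 1) = 0 := by
    have a1 := C.H_ne
    have a2 := C.s_ne
    have a3 := C.A₁_ne
    have a4 := C.A₂_ne
    have e' : (4 * C.s ^ 4 + 1 : ℂ) =
      (2 * C.s ^ 2 + 2 * C.s + 1) * (2 * C.s ^ 2 - 2 * C.s + 1) := by ring
    rw [e'] at h0 ⊢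
    generalize (2 * C.s ^ 2 - 1 : ℂ) = a at *
    generalize (2 * C.s ^ 2 + 2 * C.s + 1 : ℂ) = b at *
    generalize (2 * C.s ^ 2 - 2 * C.s + 1 : ℂ) = c at *
    simp only [map_one] at h0
    field_simp at h0
    linear_combination h0
  have e2 : (((4 * C.s ^ 4 * ((2 * C.s ^ 2 - 1) * (4 * C.s ^ 4 + 1)) : ℝ) : ℂ) +
      (((2 * C.s ^ 2 - 1) * (4 * C.s ^ 4 + 1) : ℝ) : ℂ) * A +
      ((4 * C.s ^ 4 * (2 * C.s ^ 2 - 1) : ℝ) : ℂ) * B +
      ((4 * C.s ^ 4 * (2 * C.s ^ 2 + 2 * C.s + 1) : ℝ) : ℂ) * D +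
      ((4 * C.s ^ 4 * (2 * C.s ^ 2 - 2 * C.s + 1) : ℝ) : ℂ) * E +
      ((4 * C.s ^ 3 * (4 * C.s ^ 4 + 1) : ℝ) : ℂ) * K) = 0 := by
    push_cast
    linear_combination e
  have e3 := congrArg Complex.re e2
  simp only [Complex.add_re, Complex.re_ofReal_mul, Complex.ofReal_re, Complex.zero_re] at e3
  have p1 : (0 : ℝ) ≤ 2 * C.s ^ 2 - 1 := by nlinarith
  have p2 : (0 : ℝ) ≤ 2 * C.s ^ 2 - 2 * C.s + 1 := by nlinarith
  have q1 := mul_le_mul_of_nonneg_left h1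
    (show (0 : ℝ) ≤ (2 * C.s ^ 2 - 1) * (4 * C.s ^ 4 + 1) by positivity)
  have q2 := mul_le_mul_of_nonneg_left h2
    (show (0 : ℝ) ≤ 4 * C.s ^ 4 * (2 * C.s ^ 2 - 1) by positivity)
  have q3 := mul_le_mul_of_nonneg_left h3
    (show (0 : ℝ) ≤ 4 * C.s ^ 4 * (2 * C.s ^ 2 + 2 * C.s + 1) by positivity)
  have q4 := mul_le_mul_of_nonneg_left h4
    (show (0 : ℝ) ≤ 4 * C.s ^ 4 * (2 * C.s ^ 2 - 2 * C.s + 1) by positivity)
  have q5 := mul_le_mul_of_nonneg_left h5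
    (show (0 : ℝ) ≤ 4 * C.s ^ 3 * (4 * C.s ^ 4 + 1) by positivity)
  linarith

omit [SzField F] in
theorem exists_t : ∃ t : ℝ, 0 ≤ t ∧ (C.s : ℝ) = t + 2 := by
  have hs : (2 : ℝ) ≤ C.s := by exact_mod_cast C.two_le
  exact ⟨C.s - 2, by linarith, by ring⟩

theorem ne_zero_uni [Fintype (IrrCharacter G)] {a b : F} (ha : a ≠ 0) {g : G} (h1 : g ≠ 1)
    (h : (∃ b, b ≠ 0 ∧ g = S.u 0 b) ∨ (∃ a b, a ≠ 0 ∧ g = S.u a b) ∨ g ∈ S.H ∨ g ∈ C.A₁ ∨
      g ∈ C.A₂) :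
    ∑ χ : IrrCharacter G, (χ : G → ℂ) (S.u a b) * (χ : G → ℂ) (S.u a b) * conj ((χ : G → ℂ) g) /
      (χ : G → ℂ) 1 ≠ 0 := by
  obtain ⟨t, ht, hs⟩ := C.exists_t
  obtain ⟨s, hs'⟩ : ∃ s : ℝ, s = C.s := ⟨_, rfl⟩
  have hsc : (s : ℂ) = C.s := by rw [hs']; rfl
  obtain ⟨e, he, vx⟩ := C.at_uni ha b
  rcases h with ⟨d, hd, rfl⟩ | ⟨c, d, hc, rfl⟩ | hg | hg | hg
  · have vg := C.at_zed hd
    refine C.master 0 (s ^ 2 - 1) (((s ^ 2 + s) / 2) * (2 * s - 1))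
      (((s ^ 2 - s) / 2) * (-2 * s - 1)) (2 * s ^ 3) ?_ ?_ ?_ ?_ ?_ ?_
    · apply le_re_of_eq
      simp [vx, vg, hsc, C.nX, C.nY, C.nZ, map_ofNat, ← Finset.sum_mul] <;> ring
    · apply le_re_of_eq
      simp [vx, vg, hsc, C.nX, C.nY, C.nZ, map_ofNat, ← Finset.sum_mul] <;> ring
    · apply le_re_of_eq
      simp [vx, vg, hsc, C.nX, C.nY, C.nZ, map_ofNat, ← Finset.sum_mul] <;> ring
    · apply le_re_of_eq
      simp [vx, vg, hsc, C.nX, C.nY, C.nZ, map_ofNat, ← Finset.sum_mul] <;> ring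
    · apply le_re_of_eq
      rcases he with rfl | rfl <;> simp [vx, vg, hsc] <;> ring_nf <;> simp
    · simp only [hs', hs]; ring_nf; positivity
  · obtain ⟨e', he', vg⟩ := C.at_uni hc d
    refine C.master 0 (s ^ 2 - 1) (-((s ^ 2 + s) / 2))
      (-((s ^ 2 - s) / 2)) 0 ?_ ?_ ?_ ?_ ?_ ?_
    · apply le_re_of_eq
      simp [vx, vg, hsc, C.nX, C.nY, C.nZ, map_ofNat, ← Finset.sum_mul] <;> ring
    · apply le_re_of_eq
      simp [vx, vg, hsc, C.nX, C.nY, C.nZ, map_ofNat, ← Finset.sum_mul] <;> ring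
    · apply le_re_of_eq
      simp [vx, vg, hsc, C.nX, C.nY, C.nZ, map_ofNat, ← Finset.sum_mul] <;> ring
    · apply le_re_of_eq
      simp [vx, vg, hsc, C.nX, C.nY, C.nZ, map_ofNat, ← Finset.sum_mul] <;> ring
    · apply le_re_of_eq
      rcases he with rfl | rfl <;> simp [vx, vg, hsc] <;> ring_nf <;> simp
    · simp only [hs', hs]; ring_nf; positivity
  · have vg := C.at_H hg h1
    refine C.master 0 (-1) 0
      0 0 ?_ ?_ ?_ ?_ ?_ ?_
    · apply le_re_of_eq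
      simp [vx, vg, hsc, C.nX, C.nY, C.nZ, map_ofNat, ← Finset.sum_mul, ← map_sum (starRingEnd ℂ), C.fX.sum g hg h1] <;> ring
    · apply le_re_of_eq
      simp [vx, vg, hsc, C.nX, C.nY, C.nZ, map_ofNat, ← Finset.sum_mul, ← map_sum (starRingEnd ℂ), C.fX.sum g hg h1] <;> ring
    · apply le_re_of_eq
      simp [vx, vg, hsc, C.nX, C.nY, C.nZ, map_ofNat, ← Finset.sum_mul, ← map_sum (starRingEnd ℂ), C.fX.sum g hg h1] <;> ring
    · apply le_re_of_eq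
      simp [vx, vg, hsc, C.nX, C.nY, C.nZ, map_ofNat, ← Finset.sum_mul, ← map_sum (starRingEnd ℂ), C.fX.sum g hg h1] <;> ring
    · apply le_re_of_eq
      rcases he with rfl | rfl <;> simp [vx, vg, hsc] <;> ring_nf <;> simp
    · simp only [hs', hs]; ring_nf; positivity
  · have vg := C.at_A₁ hg h1
    refine C.master 0 0 1
      0 (-2 * s ^ 2) ?_ ?_ ?_ ?_ ?_ ?_
    · apply le_re_of_eq
      simp [vx, vg, hsc, C.nX, C.nY, C.nZ, map_ofNat, ← Finset.sum_mul, ← map_sum (starRingEnd ℂ), C.fY.sum g hg h1] <;> ring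
    · apply le_re_of_eq
      simp [vx, vg, hsc, C.nX, C.nY, C.nZ, map_ofNat, ← Finset.sum_mul, ← map_sum (starRingEnd ℂ), C.fY.sum g hg h1] <;> ring
    · apply le_re_of_eq
      simp [vx, vg, hsc, C.nX, C.nY, C.nZ, map_ofNat, ← Finset.sum_mul, ← map_sum (starRingEnd ℂ), C.fY.sum g hg h1] <;> ring
    · apply le_re_of_eq
      simp [vx, vg, hsc, C.nX, C.nY, C.nZ, map_ofNat, ← Finset.sum_mul, ← map_sum (starRingEnd ℂ), C.fY.sum g hg h1] <;> ring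
    · apply le_re_of_eq
      rcases he with rfl | rfl <;> simp [vx, vg, hsc] <;> ring_nf <;> simp
    · simp only [hs', hs]; ring_nf; positivity
  · have vg := C.at_A₂ hg h1
    refine C.master 0 0 0
      1 (2 * s ^ 2) ?_ ?_ ?_ ?_ ?_ ?_
    · apply le_re_of_eq
      simp [vx, vg, hsc, C.nX, C.nY, C.nZ, map_ofNat, ← Finset.sum_mul, ← map_sum (starRingEnd ℂ), C.fZ.sum g hg h1] <;> ring
    · apply le_re_of_eq
      simp [vx, vg, hsc, C.nX, C.nY, C.nZ, map_ofNat, ← Finset.sum_mul, ← map_sum (starRingEnd ℂ), C.fZ.sum g hg h1] <;> ring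
    · apply le_re_of_eq
      simp [vx, vg, hsc, C.nX, C.nY, C.nZ, map_ofNat, ← Finset.sum_mul, ← map_sum (starRingEnd ℂ), C.fZ.sum g hg h1] <;> ring
    · apply le_re_of_eq
      simp [vx, vg, hsc, C.nX, C.nY, C.nZ, map_ofNat, ← Finset.sum_mul, ← map_sum (starRingEnd ℂ), C.fZ.sum g hg h1] <;> ring
    · apply le_re_of_eq
      rcases he with rfl | rfl <;> simp [vx, vg, hsc] <;> ring_nf <;> simp
    · simp only [hs', hs]; ring_nf; positivity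

theorem ne_zero_H [Fintype (IrrCharacter G)] {x : G} (hx : x ∈ S.H) (hx1 : x ≠ 1) {g : G}
    (h1 : g ≠ 1)
    (h : (∃ b, b ≠ 0 ∧ g = S.u 0 b) ∨ (∃ a b, a ≠ 0 ∧ g = S.u a b) ∨ g ∈ S.H ∨ g ∈ C.A₁ ∨
      g ∈ C.A₂) :
    ∑ χ : IrrCharacter G, (χ : G → ℂ) x * (χ : G → ℂ) x * conj ((χ : G → ℂ) g) /
      (χ : G → ℂ) 1 ≠ 0 := by
  obtain ⟨t, ht, hs⟩ := C.exists_t
  obtain ⟨s, hs'⟩ : ∃ s : ℝ, s = C.s := ⟨_, rfl⟩
  have hsc : (s : ℂ) = C.s := by rw [hs']; rfl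
  have vx := C.at_H hx hx1
  have sq := C.sq_H hx hx1
  rcases h with ⟨d, hd, rfl⟩ | ⟨c, d, hc, rfl⟩ | hg | hg | hg
  · have vg := C.at_zed hd
    refine C.master 0 (2 * s ^ 2 - 3) 0
      0 0 ?_ ?_ ?_ ?_ ?_ ?_
    · apply le_re_of_eq
      simp [vx, vg, hsc, C.nX, C.nY, C.nZ, map_ofNat, ← Finset.sum_mul, sq] <;> ring
    · apply le_re_of_eq
      simp [vx, vg, hsc, C.nX, C.nY, C.nZ, map_ofNat, ← Finset.sum_mul, sq] <;> ring
    · apply le_re_of_eq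
      simp [vx, vg, hsc, C.nX, C.nY, C.nZ, map_ofNat, ← Finset.sum_mul, sq] <;> ring
    · apply le_re_of_eq
      simp [vx, vg, hsc, C.nX, C.nY, C.nZ, map_ofNat, ← Finset.sum_mul, sq] <;> ring
    · apply le_re_of_eq
      simp [vx, vg, hsc, C.nX, C.nY, C.nZ, map_ofNat, ← Finset.sum_mul, sq] <;> ring
    · simp only [hs', hs]; ring_nf; positivity
  · obtain ⟨e', he', vg⟩ := C.at_uni hc d
    refine C.master 0 (2 * s ^ 2 - 3) 0
      0 0 ?_ ?_ ?_ ?_ ?_ ?_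
    · apply le_re_of_eq
      simp [vx, vg, hsc, C.nX, C.nY, C.nZ, map_ofNat, ← Finset.sum_mul, sq] <;> ring
    · apply le_re_of_eq
      simp [vx, vg, hsc, C.nX, C.nY, C.nZ, map_ofNat, ← Finset.sum_mul, sq] <;> ring
    · apply le_re_of_eq
      simp [vx, vg, hsc, C.nX, C.nY, C.nZ, map_ofNat, ← Finset.sum_mul, sq] <;> ring
    · apply le_re_of_eq
      simp [vx, vg, hsc, C.nX, C.nY, C.nZ, map_ofNat, ← Finset.sum_mul, sq] <;> ring
    · apply le_re_of_eq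
      simp [vx, vg, hsc, C.nX, C.nY, C.nZ, map_ofNat, ← Finset.sum_mul, sq] <;> ring
    · simp only [hs', hs]; ring_nf; positivity
  · have vg := C.at_H hg h1
    refine C.master 1 (-(2 * (2 * s ^ 2 - 3))) 0
      0 0 ?_ ?_ ?_ ?_ ?_ ?_
    · apply le_re_of_eq
      simp [vx, vg, hsc, C.nX, C.nY, C.nZ, map_ofNat, ← Finset.sum_mul, sq, ← map_sum (starRingEnd ℂ), C.fX.sum g hg h1] <;> ring
    · simp only [vx, vg]
      exact neg_le_re_sum _ _ (by rw [C.col_H hx hx1]; push_cast; rw [hsc])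
        (fun j => by simpa using C.fX.bound j g hg h1)
    · apply le_re_of_eq
      simp [vx, vg, hsc, C.nX, C.nY, C.nZ, map_ofNat, ← Finset.sum_mul, sq, ← map_sum (starRingEnd ℂ), C.fX.sum g hg h1] <;> ring
    · apply le_re_of_eq
      simp [vx, vg, hsc, C.nX, C.nY, C.nZ, map_ofNat, ← Finset.sum_mul, sq, ← map_sum (starRingEnd ℂ), C.fX.sum g hg h1] <;> ring
    · apply le_re_of_eq
      simp [vx, vg, hsc, C.nX, C.nY, C.nZ, map_ofNat, ← Finset.sum_mul, sq, ← map_sum (starRingEnd ℂ), C.fX.sum g hg h1] <;> ring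
    · simp only [hs', hs]; ring_nf; positivity
  · have vg := C.at_A₁ hg h1
    refine C.master (-1) 0 0
      0 0 ?_ ?_ ?_ ?_ ?_ ?_
    · apply le_re_of_eq
      simp [vx, vg, hsc, C.nX, C.nY, C.nZ, map_ofNat, ← Finset.sum_mul, sq, ← map_sum (starRingEnd ℂ), C.fY.sum g hg h1] <;> ring
    · apply le_re_of_eq
      simp [vx, vg, hsc, C.nX, C.nY, C.nZ, map_ofNat, ← Finset.sum_mul, sq, ← map_sum (starRingEnd ℂ), C.fY.sum g hg h1] <;> ring
    · apply le_re_of_eq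
      simp [vx, vg, hsc, C.nX, C.nY, C.nZ, map_ofNat, ← Finset.sum_mul, sq, ← map_sum (starRingEnd ℂ), C.fY.sum g hg h1] <;> ring
    · apply le_re_of_eq
      simp [vx, vg, hsc, C.nX, C.nY, C.nZ, map_ofNat, ← Finset.sum_mul, sq, ← map_sum (starRingEnd ℂ), C.fY.sum g hg h1] <;> ring
    · apply le_re_of_eq
      simp [vx, vg, hsc, C.nX, C.nY, C.nZ, map_ofNat, ← Finset.sum_mul, sq, ← map_sum (starRingEnd ℂ), C.fY.sum g hg h1] <;> ring
    · simp only [hs', hs]; ring_nf; positivity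
  · have vg := C.at_A₂ hg h1
    refine C.master (-1) 0 0
      0 0 ?_ ?_ ?_ ?_ ?_ ?_
    · apply le_re_of_eq
      simp [vx, vg, hsc, C.nX, C.nY, C.nZ, map_ofNat, ← Finset.sum_mul, sq, ← map_sum (starRingEnd ℂ), C.fZ.sum g hg h1] <;> ring
    · apply le_re_of_eq
      simp [vx, vg, hsc, C.nX, C.nY, C.nZ, map_ofNat, ← Finset.sum_mul, sq, ← map_sum (starRingEnd ℂ), C.fZ.sum g hg h1] <;> ring
    · apply le_re_of_eq
      simp [vx, vg, hsc, C.nX, C.nY, C.nZ, map_ofNat, ← Finset.sum_mul, sq, ← map_sum (starRingEnd ℂ), C.fZ.sum g hg h1] <;> ring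
    · apply le_re_of_eq
      simp [vx, vg, hsc, C.nX, C.nY, C.nZ, map_ofNat, ← Finset.sum_mul, sq, ← map_sum (starRingEnd ℂ), C.fZ.sum g hg h1] <;> ring
    · apply le_re_of_eq
      simp [vx, vg, hsc, C.nX, C.nY, C.nZ, map_ofNat, ← Finset.sum_mul, sq, ← map_sum (starRingEnd ℂ), C.fZ.sum g hg h1] <;> ring
    · simp only [hs', hs]; ring_nf; positivity

theorem ne_zero_A₁ [Fintype (IrrCharacter G)] {x : G} (hx : x ∈ C.A₁) (hx1 : x ≠ 1) {g : G}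
    (h1 : g ≠ 1)
    (h : (∃ b, b ≠ 0 ∧ g = S.u 0 b) ∨ (∃ a b, a ≠ 0 ∧ g = S.u a b) ∨ g ∈ S.H ∨ g ∈ C.A₁ ∨
      g ∈ C.A₂) :
    ∑ χ : IrrCharacter G, (χ : G → ℂ) x * (χ : G → ℂ) x * conj ((χ : G → ℂ) g) /
      (χ : G → ℂ) 1 ≠ 0 := by
  obtain ⟨t, ht, hs⟩ := C.exists_t
  obtain ⟨s, hs'⟩ : ∃ s : ℝ, s = C.s := ⟨_, rfl⟩
  have hsc : (s : ℂ) = C.s := by rw [hs']; rfl
  have vx := C.at_A₁ hx hx1
  have sq := C.sq_A₁ hx hx1
  rcases h with ⟨d, hd, rfl⟩ | ⟨c, d, hc, rfl⟩ | hg | hg | hg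
  · have vg := C.at_zed hd
    refine C.master 0 0 ((2 * s ^ 2 + 2 * s - 3) * (2 * s - 1))
      0 (-2 * s) ?_ ?_ ?_ ?_ ?_ ?_
    · apply le_re_of_eq
      simp [vx, vg, hsc, C.nX, C.nY, C.nZ, map_ofNat, ← Finset.sum_mul, sq] <;> ring
    · apply le_re_of_eq
      simp [vx, vg, hsc, C.nX, C.nY, C.nZ, map_ofNat, ← Finset.sum_mul, sq] <;> ring
    · apply le_re_of_eq
      simp [vx, vg, hsc, C.nX, C.nY, C.nZ, map_ofNat, ← Finset.sum_mul, sq] <;> ring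
    · apply le_re_of_eq
      simp [vx, vg, hsc, C.nX, C.nY, C.nZ, map_ofNat, ← Finset.sum_mul, sq] <;> ring
    · apply le_re_of_eq
      simp [vx, vg, hsc, C.nX, C.nY, C.nZ, map_ofNat, ← Finset.sum_mul, sq] <;> ring
    · simp only [hs', hs]; ring_nf; positivity
  · obtain ⟨e', he', vg⟩ := C.at_uni hc d
    refine C.master 0 0 (-(2 * s ^ 2 + 2 * s - 3))
      0 0 ?_ ?_ ?_ ?_ ?_ ?_
    · apply le_re_of_eq
      simp [vx, vg, hsc, C.nX, C.nY, C.nZ, map_ofNat, ← Finset.sum_mul, sq] <;> ring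
    · apply le_re_of_eq
      simp [vx, vg, hsc, C.nX, C.nY, C.nZ, map_ofNat, ← Finset.sum_mul, sq] <;> ring
    · apply le_re_of_eq
      simp [vx, vg, hsc, C.nX, C.nY, C.nZ, map_ofNat, ← Finset.sum_mul, sq] <;> ring
    · apply le_re_of_eq
      simp [vx, vg, hsc, C.nX, C.nY, C.nZ, map_ofNat, ← Finset.sum_mul, sq] <;> ring
    · apply le_re_of_eq
      simp [vx, vg, hsc, C.nX, C.nY, C.nZ, map_ofNat, ← Finset.sum_mul, sq] <;> ring
    · simp only [hs', hs]; ring_nf; positivity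
  · have vg := C.at_H hg h1
    refine C.master 1 0 0
      0 0 ?_ ?_ ?_ ?_ ?_ ?_
    · apply le_re_of_eq
      simp [vx, vg, hsc, C.nX, C.nY, C.nZ, map_ofNat, ← Finset.sum_mul, sq, ← map_sum (starRingEnd ℂ), C.fX.sum g hg h1] <;> ring
    · apply le_re_of_eq
      simp [vx, vg, hsc, C.nX, C.nY, C.nZ, map_ofNat, ← Finset.sum_mul, sq, ← map_sum (starRingEnd ℂ), C.fX.sum g hg h1] <;> ring
    · apply le_re_of_eq
      simp [vx, vg, hsc, C.nX, C.nY, C.nZ, map_ofNat, ← Finset.sum_mul, sq, ← map_sum (starRingEnd ℂ), C.fX.sum g hg h1] <;> ring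
    · apply le_re_of_eq
      simp [vx, vg, hsc, C.nX, C.nY, C.nZ, map_ofNat, ← Finset.sum_mul, sq, ← map_sum (starRingEnd ℂ), C.fX.sum g hg h1] <;> ring
    · apply le_re_of_eq
      simp [vx, vg, hsc, C.nX, C.nY, C.nZ, map_ofNat, ← Finset.sum_mul, sq, ← map_sum (starRingEnd ℂ), C.fX.sum g hg h1] <;> ring
    · simp only [hs', hs]; ring_nf; positivity
  · have vg := C.at_A₁ hg h1
    refine C.master (-1) 0 (-(4 * (2 * s ^ 2 + 2 * s - 3)))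
      0 2 ?_ ?_ ?_ ?_ ?_ ?_
    · apply le_re_of_eq
      simp [vx, vg, hsc, C.nX, C.nY, C.nZ, map_ofNat, ← Finset.sum_mul, sq, ← map_sum (starRingEnd ℂ), C.fY.sum g hg h1] <;> ring
    · apply le_re_of_eq
      simp [vx, vg, hsc, C.nX, C.nY, C.nZ, map_ofNat, ← Finset.sum_mul, sq, ← map_sum (starRingEnd ℂ), C.fY.sum g hg h1] <;> ring
    · simp only [vx, vg]
      exact neg_le_re_sum _ _ (by simp only [map_neg, neg_mul_neg, C.col_A₁ hx hx1]; push_cast; rw [hsc])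
        (fun j => by simpa using C.fY.bound j g hg h1)
    · apply le_re_of_eq
      simp [vx, vg, hsc, C.nX, C.nY, C.nZ, map_ofNat, ← Finset.sum_mul, sq, ← map_sum (starRingEnd ℂ), C.fY.sum g hg h1] <;> ring
    · apply le_re_of_eq
      simp [vx, vg, hsc, C.nX, C.nY, C.nZ, map_ofNat, ← Finset.sum_mul, sq, ← map_sum (starRingEnd ℂ), C.fY.sum g hg h1] <;> ring
    · simp only [hs', hs]; ring_nf; positivity
  · have vg := C.at_A₂ hg h1
    refine C.master (-1) 0 0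
      0 (-2) ?_ ?_ ?_ ?_ ?_ ?_
    · apply le_re_of_eq
      simp [vx, vg, hsc, C.nX, C.nY, C.nZ, map_ofNat, ← Finset.sum_mul, sq, ← map_sum (starRingEnd ℂ), C.fZ.sum g hg h1] <;> ring
    · apply le_re_of_eq
      simp [vx, vg, hsc, C.nX, C.nY, C.nZ, map_ofNat, ← Finset.sum_mul, sq, ← map_sum (starRingEnd ℂ), C.fZ.sum g hg h1] <;> ring
    · apply le_re_of_eq
      simp [vx, vg, hsc, C.nX, C.nY, C.nZ, map_ofNat, ← Finset.sum_mul, sq, ← map_sum (starRingEnd ℂ), C.fZ.sum g hg h1] <;> ring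
    · apply le_re_of_eq
      simp [vx, vg, hsc, C.nX, C.nY, C.nZ, map_ofNat, ← Finset.sum_mul, sq, ← map_sum (starRingEnd ℂ), C.fZ.sum g hg h1] <;> ring
    · apply le_re_of_eq
      simp [vx, vg, hsc, C.nX, C.nY, C.nZ, map_ofNat, ← Finset.sum_mul, sq, ← map_sum (starRingEnd ℂ), C.fZ.sum g hg h1] <;> ring
    · simp only [hs', hs]; ring_nf; positivity

theorem ne_zero_A₂ [Fintype (IrrCharacter G)] {x : G} (hx : x ∈ C.A₂) (hx1 : x ≠ 1) {g : G}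
    (h1 : g ≠ 1)
    (h : (∃ b, b ≠ 0 ∧ g = S.u 0 b) ∨ (∃ a b, a ≠ 0 ∧ g = S.u a b) ∨ g ∈ S.H ∨ g ∈ C.A₁ ∨
      g ∈ C.A₂) :
    ∑ χ : IrrCharacter G, (χ : G → ℂ) x * (χ : G → ℂ) x * conj ((χ : G → ℂ) g) /
      (χ : G → ℂ) 1 ≠ 0 := by
  obtain ⟨t, ht, hs⟩ := C.exists_t
  obtain ⟨s, hs'⟩ : ∃ s : ℝ, s = C.s := ⟨_, rfl⟩
  have hsc : (s : ℂ) = C.s := by rw [hs']; rfl
  have vx := C.at_A₂ hx hx1
  have sq := C.sq_A₂ hx hx1
  rcases h with ⟨d, hd, rfl⟩ | ⟨c, d, hc, rfl⟩ | hg | hg | hg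
  · have vg := C.at_zed hd
    refine C.master 0 0 0
      ((2 * s ^ 2 - 2 * s - 3) * (-2 * s - 1)) (-2 * s) ?_ ?_ ?_ ?_ ?_ ?_
    · apply le_re_of_eq
      simp [vx, vg, hsc, C.nX, C.nY, C.nZ, map_ofNat, ← Finset.sum_mul, sq] <;> ring
    · apply le_re_of_eq
      simp [vx, vg, hsc, C.nX, C.nY, C.nZ, map_ofNat, ← Finset.sum_mul, sq] <;> ring
    · apply le_re_of_eq
      simp [vx, vg, hsc, C.nX, C.nY, C.nZ, map_ofNat, ← Finset.sum_mul, sq] <;> ring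
    · apply le_re_of_eq
      simp [vx, vg, hsc, C.nX, C.nY, C.nZ, map_ofNat, ← Finset.sum_mul, sq] <;> ring
    · apply le_re_of_eq
      simp [vx, vg, hsc, C.nX, C.nY, C.nZ, map_ofNat, ← Finset.sum_mul, sq] <;> ring
    · simp only [hs', hs]; ring_nf; positivity
  · obtain ⟨e', he', vg⟩ := C.at_uni hc d
    refine C.master 0 0 0
      (-(2 * s ^ 2 - 2 * s - 3)) 0 ?_ ?_ ?_ ?_ ?_ ?_
    · apply le_re_of_eq
      simp [vx, vg, hsc, C.nX, C.nY, C.nZ, map_ofNat, ← Finset.sum_mul, sq] <;> ring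
    · apply le_re_of_eq
      simp [vx, vg, hsc, C.nX, C.nY, C.nZ, map_ofNat, ← Finset.sum_mul, sq] <;> ring
    · apply le_re_of_eq
      simp [vx, vg, hsc, C.nX, C.nY, C.nZ, map_ofNat, ← Finset.sum_mul, sq] <;> ring
    · apply le_re_of_eq
      simp [vx, vg, hsc, C.nX, C.nY, C.nZ, map_ofNat, ← Finset.sum_mul, sq] <;> ring
    · apply le_re_of_eq
      simp [vx, vg, hsc, C.nX, C.nY, C.nZ, map_ofNat, ← Finset.sum_mul, sq] <;> ring
    · simp only [hs', hs]; ring_nf; positivity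
  · have vg := C.at_H hg h1
    refine C.master 1 0 0
      0 0 ?_ ?_ ?_ ?_ ?_ ?_
    · apply le_re_of_eq
      simp [vx, vg, hsc, C.nX, C.nY, C.nZ, map_ofNat, ← Finset.sum_mul, sq, ← map_sum (starRingEnd ℂ), C.fX.sum g hg h1] <;> ring
    · apply le_re_of_eq
      simp [vx, vg, hsc, C.nX, C.nY, C.nZ, map_ofNat, ← Finset.sum_mul, sq, ← map_sum (starRingEnd ℂ), C.fX.sum g hg h1] <;> ring
    · apply le_re_of_eq
      simp [vx, vg, hsc, C.nX, C.nY, C.nZ, map_ofNat, ← Finset.sum_mul, sq, ← map_sum (starRingEnd ℂ), C.fX.sum g hg h1] <;> ring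
    · apply le_re_of_eq
      simp [vx, vg, hsc, C.nX, C.nY, C.nZ, map_ofNat, ← Finset.sum_mul, sq, ← map_sum (starRingEnd ℂ), C.fX.sum g hg h1] <;> ring
    · apply le_re_of_eq
      simp [vx, vg, hsc, C.nX, C.nY, C.nZ, map_ofNat, ← Finset.sum_mul, sq, ← map_sum (starRingEnd ℂ), C.fX.sum g hg h1] <;> ring
    · simp only [hs', hs]; ring_nf; positivity
  · have vg := C.at_A₁ hg h1
    refine C.master (-1) 0 0
      0 2 ?_ ?_ ?_ ?_ ?_ ?_
    · apply le_re_of_eq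
      simp [vx, vg, hsc, C.nX, C.nY, C.nZ, map_ofNat, ← Finset.sum_mul, sq, ← map_sum (starRingEnd ℂ), C.fY.sum g hg h1] <;> ring
    · apply le_re_of_eq
      simp [vx, vg, hsc, C.nX, C.nY, C.nZ, map_ofNat, ← Finset.sum_mul, sq, ← map_sum (starRingEnd ℂ), C.fY.sum g hg h1] <;> ring
    · apply le_re_of_eq
      simp [vx, vg, hsc, C.nX, C.nY, C.nZ, map_ofNat, ← Finset.sum_mul, sq, ← map_sum (starRingEnd ℂ), C.fY.sum g hg h1] <;> ring
    · apply le_re_of_eq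
      simp [vx, vg, hsc, C.nX, C.nY, C.nZ, map_ofNat, ← Finset.sum_mul, sq, ← map_sum (starRingEnd ℂ), C.fY.sum g hg h1] <;> ring
    · apply le_re_of_eq
      simp [vx, vg, hsc, C.nX, C.nY, C.nZ, map_ofNat, ← Finset.sum_mul, sq, ← map_sum (starRingEnd ℂ), C.fY.sum g hg h1] <;> ring
    · simp only [hs', hs]; ring_nf; positivity
  · have vg := C.at_A₂ hg h1
    refine C.master (-1) 0 0
      (-(4 * (2 * s ^ 2 - 2 * s - 3))) (-2) ?_ ?_ ?_ ?_ ?_ ?_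
    · apply le_re_of_eq
      simp [vx, vg, hsc, C.nX, C.nY, C.nZ, map_ofNat, ← Finset.sum_mul, sq, ← map_sum (starRingEnd ℂ), C.fZ.sum g hg h1] <;> ring
    · apply le_re_of_eq
      simp [vx, vg, hsc, C.nX, C.nY, C.nZ, map_ofNat, ← Finset.sum_mul, sq, ← map_sum (starRingEnd ℂ), C.fZ.sum g hg h1] <;> ring
    · apply le_re_of_eq
      simp [vx, vg, hsc, C.nX, C.nY, C.nZ, map_ofNat, ← Finset.sum_mul, sq, ← map_sum (starRingEnd ℂ), C.fZ.sum g hg h1] <;> ring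
    · simp only [vx, vg]
      exact neg_le_re_sum _ _ (by simp only [map_neg, neg_mul_neg, C.col_A₂ hx hx1]; push_cast; rw [hsc])
        (fun j => by simpa using C.fZ.bound j g hg h1)
    · apply le_re_of_eq
      simp [vx, vg, hsc, C.nX, C.nY, C.nZ, map_ofNat, ← Finset.sum_mul, sq, ← map_sum (starRingEnd ℂ), C.fZ.sum g hg h1] <;> ring
    · simp only [hs', hs]; ring_nf; positivity

include C in
theorem exists_mul {x : G} (hx : 2 < orderOf x) {g : G} (hg : g ≠ 1) :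
    ∃ u v : G, g = (u * x * u⁻¹) * (v * x * v⁻¹) := by
  have : Fintype (IrrCharacter G) := Fintype.ofFinite _
  have key : ∑ χ : IrrCharacter G, (χ : G → ℂ) x * (χ : G → ℂ) x * conj ((χ : G → ℂ) g) /
      (χ : G → ℂ) 1 ≠ 0 := by
    rcases C.exists_rep x with rfl | ⟨v, x, rfl, hx1, h⟩
    · simp at hx
    rcases C.exists_rep g with rfl | ⟨w, g, rfl, hg1, h'⟩
    · exact absurd rfl hg
    simp only [fun (χ : IrrCharacter G) => H11.isClassFunction_of_irr χ.2 x v,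
      fun (χ : IrrCharacter G) => H11.isClassFunction_of_irr χ.2 g w]
    rcases h with ⟨b, -, rfl⟩ | ⟨a, b, ha, rfl⟩ | h | h | h
    · rw [orderOf_conj'] at hx
      have := orderOf_le_of_pow_eq_one two_pos ((pow_two _).trans (S.u_zero_sq b))
      omega
    · exact C.ne_zero_uni ha hg1 h'
    · exact C.ne_zero_H h hx1 hg1 h'
    · exact C.ne_zero_A₁ h hx1 hg1 h'
    · exact C.ne_zero_A₂ h hx1 hg1 h'
  have h := H12.card_class_mul_eq x x g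
  have h1 : (Nat.card {y : G // IsConj x y} : ℂ) ≠ 0 := by
    have : Nonempty {y : G // IsConj x y} := ⟨⟨x, IsConj.refl x⟩⟩
    exact_mod_cast Nat.card_pos.ne'
  have h2 := h ▸ mul_ne_zero (div_ne_zero (mul_ne_zero h1 h1) (H11.card_ne_zero G)) key
  obtain ⟨⟨p, p1, p2, p3⟩⟩ := (Nat.card_ne_zero.mp (Nat.cast_ne_zero.mp h2)).1
  obtain ⟨u, hu⟩ := isConj_iff.mp p1
  obtain ⟨v, hv⟩ := isConj_iff.mp p2
  exact ⟨u, v, by rw [hu, hv, p3]⟩

end Ctx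

end Model

end Cfsg.Agent.H39
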