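import Cfsg.Agent.H39.SzChar
import Cfsg.Agent.H24.Deg

/-!
The character table of the Suzuki groups.
-/

set_option autoImplicit false

namespace Cfsg.Agent.H39

open Cfsg
open scoped ComplexConjugate

namespace Model

variable {G : Type*} [Group G] [Fintype G] {F : Type*} [Field F]

/-- The data from which the character table is built. -/
structure Ctx (S : Model G F) where
  s : ℕ
  cases : s = 2 ∨ 4 ≤ s
  card : Nat.card F = 2 * s ^ 2
  A₁ : Subgroup G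
  A₂ : Subgroup G
  cent₁ : ∀ a ∈ A₁, a ≠ 1 → Subgroup.centralizer {a} = A₁
  cent₂ : ∀ a ∈ A₂, a ≠ 1 → Subgroup.centralizer {a} = A₂
  card₁ : Nat.card A₁ = 2 * s ^ 2 + 2 * s + 1
  card₂ : Nat.card A₂ + 2 * s = 2 * s ^ 2 + 1
  norm₁ : Nat.card (Subgroup.normalizer (A₁ : Set G)) = 4 * Nat.card A₁
  norm₂ : Nat.card (Subgroup.normalizer (A₂ : Set G)) = 4 * Nat.card A₂
  free₁ : ∀ g ∈ conjSet A₁, S.IsFree g
  free₂ : ∀ g ∈ conjSet A₂, S.IsFree g
  disj : ∀ g ∈ conjSet A₁, g ∉ conjSet A₂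
  cover : ∀ g, S.IsFree g → g ∈ conjSet A₁ ∨ g ∈ conjSet A₂
  ψ : F → ℂ
  ψ_add : ∀ x y, ψ (x + y) = ψ x * ψ y
  ψ_θ : ∀ x, ψ (S.θ x) = ψ x
  ψ_one : ψ 1 = -1
  ψ_cases : ∀ x, ψ x = 1 ∨ ψ x = -1
  φ : S.U → ℂ
  φ_char : IsCharacter S.U φ
  φ_zero : ∀ b, φ (S.uu 0 b) = s * ψ b
  φ_one : ∀ b, φ (S.uu 1 b) = s * Complex.I * ψ b
  φ_ne : ∀ a b, a ≠ 0 → a ≠ 1 → φ (S.uu a b) = 0
  fX : Family S.H 2
  fY : Family A₁ 4
  fZ : Family A₂ 4

theorem nonempty_ctx [SzField F] (S : Model G F) {m : ℕ} (hm : 1 ≤ m)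
    (hF : Nat.card F = 2 ^ (2 * m + 1)) : ∃ C : S.Ctx, C.s = 2 ^ m := by
  classical
  have := SzField.finite F
  obtain ⟨x₁, x₂, h1, h2, hc, e1, e2⟩ := S.exists_tori hF
  obtain ⟨ψ, p1, p2, p3, p4⟩ := S.toTits.exists_psi
  have hs : Nat.card F = 2 * (2 ^ m) ^ 2 := by rw [hF]; ring
  obtain ⟨φ, q1, q2⟩ := S.exists_phi p1 p2 p3 p4 hs
  have c1 : ∀ a ∈ Subgroup.centralizer {x₁}, a ≠ 1 →
      Subgroup.centralizer {a} = Subgroup.centralizer {x₁} := fun a ha h => h1.centralizer_eq h ha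
  have c2 : ∀ a ∈ Subgroup.centralizer {x₂}, a ≠ 1 →
      Subgroup.centralizer {a} = Subgroup.centralizer {x₂} := fun a ha h => h2.centralizer_eq h ha
  obtain ⟨fX⟩ := nonempty_family (A := S.H) (e := 2) (fun a ha h => S.centralizer_of_mem_H ha h)
    (by rw [card_normalizer_H, card_H])
  obtain ⟨fY⟩ := nonempty_family c1 h1.card_normalizer
  obtain ⟨fZ⟩ := nonempty_family c2 h2.card_normalizer
  have hle := two_pow_le (m := m)
  refine ⟨⟨2 ^ m, ?_, hs, _, _, c1, c2, by rw [e1]; ring, ?_, h1.card_normalizer,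
    h2.card_normalizer, fun g => h1.of_mem_conjSet, fun g => h2.of_mem_conjSet, ?_, hc, ψ, p1, p2,
    p3, p4, φ, q1, fun b => by simp [q2], fun b => by simp [q2], fun a b ha hb => by
      simp [q2, ha, hb], fX, fY, fZ⟩, rfl⟩
  · rcases hm.eq_or_lt with rfl | h
    · exact Or.inl rfl
    · exact Or.inr (Nat.pow_le_pow_right (n := 2) two_pos h)
  · rw [e2]
    have a1 : 2 * (2 ^ m) ^ 2 = 2 ^ (2 * m + 1) := by ring
    have a2 : 2 * 2 ^ m = 2 ^ (m + 1) := by ring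
    omega
  · intro g hg hg'
    have a1 := orderOf_dvd_card_of_mem_conjSet hg
    have a2 := orderOf_dvd_card_of_mem_conjSet hg'
    rw [e1] at a1
    rw [e2] at a2
    exact hg.1 (orderOf_eq_one_iff.mp (Nat.eq_one_of_dvd_coprimes (coprime_tori m) a1 a2))

namespace Ctx

variable {S : Model G F} (C : S.Ctx)

theorem two_le : 2 ≤ C.s := by have := C.cases; omega

theorem ψ_zero : C.ψ 0 = 1 := by
  have := C.ψ_add 0 1
  rw [zero_add, C.ψ_one] at this
  linear_combination this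

theorem ψ_mul_self (x : F) : C.ψ x * C.ψ x = 1 := by
  rcases C.ψ_cases x with h | h <;> simp [h]

theorem conj_ψ (x : F) : conj (C.ψ x) = C.ψ x := by
  rcases C.ψ_cases x with h | h <;> simp [h]

theorem sum_ψ [Fintype F] {c : F} (hc : c ≠ 0) : ∑ x, C.ψ (x * c) = 0 := by
  have h := Fintype.sum_equiv (Equiv.addRight c⁻¹) (fun x => -C.ψ (x * c)) (fun x => C.ψ (x * c))
    (fun x => by
      simp only [Equiv.coe_addRight, add_mul, inv_mul_cancel₀ hc, C.ψ_add, C.ψ_one]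
      ring)
  rw [Finset.sum_neg_distrib] at h
  linear_combination (-1 / 2 : ℂ) * h

theorem sum_ψ_units [Fintype F] [DecidableEq F] {f : F → F} (hf : Function.Bijective f)
    (h0 : f 0 = 0) {c : F} (hc : c ≠ 0) : ∑ k : Fˣ, C.ψ (f k * c) = -1 := by
  have h := C.sum_ψ hc
  rw [← hf.sum_comp (fun x => C.ψ (x * c)), ← Finset.add_sum_erase _ _ (Finset.mem_univ 0), h0,
    zero_mul, ψ_zero, Finset.sum_subtype (p := fun x => x ≠ 0) _ (by simp),
    ← unitsEquivNeZero.sum_comp] at h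
  simp only [unitsEquivNeZero_apply_coe] at h
  linear_combination h

/-- The values of a class function. -/
structure Vals (f : G → ℂ) (d z t t' : ℂ) (fH f₁ f₂ : G → ℂ) : Prop where
  cls : IsClassFunction G f
  one : f 1 = d
  zed : ∀ b, b ≠ 0 → f (S.u 0 b) = z
  uni : ∀ a b, a ≠ 0 → f (S.u a b) = t + t' * C.ψ (b / (a * S.θ a))
  onH : ∀ g ∈ S.H, g ≠ 1 → f g = fH g
  on₁ : ∀ g ∈ C.A₁, g ≠ 1 → f g = f₁ g
  on₂ : ∀ g ∈ C.A₂, g ≠ 1 → f g = f₂ g

variable [SzField F]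

omit [SzField F] in
theorem exists_rep (g : G) : g = 1 ∨ ∃ x y, g = x * y * x⁻¹ ∧ y ≠ 1 ∧
    ((∃ b, b ≠ 0 ∧ y = S.u 0 b) ∨ (∃ a b, a ≠ 0 ∧ y = S.u a b) ∨ y ∈ S.H ∨ y ∈ C.A₁ ∨
      y ∈ C.A₂) := by
  by_cases hg : g = 1
  · exact Or.inl hg
  right
  have key : ∀ x : G, g = x * (x⁻¹ * g * x) * x⁻¹ := fun x => by group
  rcases S.trichotomy hg with ⟨-, x, hx⟩ | ⟨-, x, hx⟩ | h
  · refine ⟨x, _, key x, conj_ne_one hg x, ?_⟩
    obtain ⟨a, b, e⟩ := hx
    by_cases ha : a = 0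
    · subst ha
      refine Or.inl ⟨b, ?_, e⟩
      rintro rfl
      exact conj_ne_one hg x (e.trans S.u_zero)
    · exact Or.inr (Or.inl ⟨a, b, ha, e⟩)
  · exact ⟨x, _, key x, conj_ne_one hg x, Or.inr (Or.inr (Or.inl hx))⟩
  · rcases C.cover g h with ⟨-, x, hx⟩ | ⟨-, x, hx⟩
    · exact ⟨x, _, key x, conj_ne_one hg x, Or.inr (Or.inr (Or.inr (Or.inl hx)))⟩
    · exact ⟨x, _, key x, conj_ne_one hg x, Or.inr (Or.inr (Or.inr (Or.inr hx)))⟩

omit [SzField F] in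
theorem card_F : (Nat.card F : ℂ) = 2 * C.s ^ 2 := by exact_mod_cast C.card

omit [SzField F] in
theorem card_A₁ : (Nat.card C.A₁ : ℂ) = 2 * C.s ^ 2 + 2 * C.s + 1 := by exact_mod_cast C.card₁

omit [SzField F] in
theorem card_A₂ : (Nat.card C.A₂ : ℂ) = 2 * C.s ^ 2 - 2 * C.s + 1 := by
  have : (Nat.card C.A₂ : ℂ) + 2 * C.s = 2 * C.s ^ 2 + 1 := by exact_mod_cast C.card₂
  linear_combination this

theorem card_H : (Nat.card S.H : ℂ) = 2 * C.s ^ 2 - 1 := by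
  have := SzField.finite F
  rw [S.card_H, Nat.cast_sub Nat.card_pos, C.card_F, Nat.cast_one]

theorem card_B : (Nat.card S.B : ℂ) = 4 * C.s ^ 4 * (2 * C.s ^ 2 - 1) := by
  have := SzField.finite F
  rw [S.card_B, Nat.cast_mul, Nat.cast_sub Nat.card_pos, Nat.cast_pow, C.card_F, Nat.cast_one]
  ring

theorem card_G : (Nat.card G : ℂ) = 4 * C.s ^ 4 * (2 * C.s ^ 2 - 1) *
    ((2 * C.s ^ 2 + 2 * C.s + 1) * (2 * C.s ^ 2 - 2 * C.s + 1)) := by
  have := SzField.finite F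
  rw [S.card_eq, Nat.cast_mul, Nat.cast_mul, Nat.cast_sub Nat.card_pos]
  push_cast
  rw [C.card_F]
  ring

omit [SzField F] in
theorem s_ne : (C.s : ℂ) ≠ 0 := by
  have := C.two_le
  exact_mod_cast (by omega : C.s ≠ 0)

theorem H_ne : (2 * C.s ^ 2 - 1 : ℂ) ≠ 0 := C.card_H ▸ H14.card_subgroup_ne_zero S.H

omit [SzField F] in
theorem A₁_ne : (2 * C.s ^ 2 + 2 * C.s + 1 : ℂ) ≠ 0 := C.card_A₁ ▸ H14.card_subgroup_ne_zero C.A₁

omit [SzField F] in
theorem A₂_ne : (2 * C.s ^ 2 - 2 * C.s + 1 : ℂ) ≠ 0 := C.card_A₂ ▸ H14.card_subgroup_ne_zero C.A₂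

theorem index_U : (S.U.index : ℂ) = (2 * C.s ^ 2 - 1) * (4 * C.s ^ 4 + 1) := by
  have := SzField.finite F
  rw [S.index_U, Nat.cast_mul, Nat.cast_sub Nat.card_pos]
  push_cast
  rw [C.card_F]
  ring

theorem index_H : (S.H.index : ℂ) = 4 * C.s ^ 4 * (4 * C.s ^ 4 + 1) := by
  have h : (Nat.card S.H : ℂ) * S.H.index = Nat.card G := by exact_mod_cast S.H.card_mul_index
  apply mul_left_cancel₀ C.H_ne
  rw [← C.card_H, h, C.card_G, C.card_H]
  ring

theorem index_A₁ :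
    (C.A₁.index : ℂ) = 4 * C.s ^ 4 * (2 * C.s ^ 2 - 1) * (2 * C.s ^ 2 - 2 * C.s + 1) := by
  have h : (Nat.card C.A₁ : ℂ) * C.A₁.index = Nat.card G := by exact_mod_cast C.A₁.card_mul_index
  apply mul_left_cancel₀ C.A₁_ne
  rw [← C.card_A₁, h, C.card_G, C.card_A₁]
  ring

theorem index_A₂ :
    (C.A₂.index : ℂ) = 4 * C.s ^ 4 * (2 * C.s ^ 2 - 1) * (2 * C.s ^ 2 + 2 * C.s + 1) := by
  have h : (Nat.card C.A₂ : ℂ) * C.A₂.index = Nat.card G := by exact_mod_cast C.A₂.card_mul_index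
  apply mul_left_cancel₀ C.A₂_ne
  rw [← C.card_A₂, h, C.card_G, C.card_A₂]
  ring

theorem nX : (C.fX.n : ℂ) = C.s ^ 2 - 1 := by
  have h : (2 * C.fX.n + 1 : ℂ) = Nat.card S.H := by exact_mod_cast C.fX.card
  rw [C.card_H] at h
  linear_combination (1 / 2 : ℂ) * h

omit [SzField F] in
theorem nY : (C.fY.n : ℂ) = (C.s ^ 2 + C.s) / 2 := by
  have h : (4 * C.fY.n + 1 : ℂ) = Nat.card C.A₁ := by exact_mod_cast C.fY.card
  rw [C.card_A₁] at h
  linear_combination (1 / 4 : ℂ) * h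

omit [SzField F] in
theorem nZ : (C.fZ.n : ℂ) = (C.s ^ 2 - C.s) / 2 := by
  have h : (4 * C.fZ.n + 1 : ℂ) = Nat.card C.A₂ := by exact_mod_cast C.fZ.card
  rw [C.card_A₂] at h
  linear_combination (1 / 4 : ℂ) * h

/-- The average of a class function. -/
theorem avg {f : G → ℂ} (hf : IsClassFunction G f) :
    (Nat.card G : ℂ)⁻¹ * ∑ g, f g = (Nat.card G : ℂ)⁻¹ * f 1 +
      (Nat.card S.B : ℂ)⁻¹ * sumNe S.U f + (2 * Nat.card S.H : ℂ)⁻¹ * sumNe S.H f +
      (4 * Nat.card C.A₁ : ℂ)⁻¹ * sumNe C.A₁ f + (4 * Nat.card C.A₂ : ℂ)⁻¹ * sumNe C.A₂ f := by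
  classical
  have := SzField.finite F
  have h1 := sum_conjSet S.isTI_U hf
  have h2 := sum_conjSet S.isTI_H hf
  have h3 := sum_conjSet (isTI_of_centralizer C.cent₁) hf
  have h4 := sum_conjSet (isTI_of_centralizer C.cent₂) hf
  rw [S.normalizer_U] at h1
  rw [S.card_normalizer_H, ← S.card_H] at h2
  rw [C.norm₁] at h3
  rw [C.norm₂] at h4
  push_cast at h2 h3 h4
  have h0 : f 1 = ∑ g, if g = 1 then f g else 0 := by simp
  rw [← h1, ← h2, ← h3, ← h4, h0]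
  simp only [← mul_add, ← Finset.sum_add_distrib]
  congr 1
  refine Finset.sum_congr rfl fun g _ => ?_
  by_cases hg : g = 1
  · simp [hg, mem_conjSet]
  rcases S.trichotomy hg with h | h | h
  · have a1 := Set.disjoint_left.mp S.disjoint_conjSet_U_H h
    have a2 : g ∉ conjSet C.A₁ := fun e => S.not_isFree_of_mem_conjSet_U h (C.free₁ g e)
    have a3 : g ∉ conjSet C.A₂ := fun e => S.not_isFree_of_mem_conjSet_U h (C.free₂ g e)
    simp [hg, h, a1, a2, a3]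
  · have a1 := Set.disjoint_right.mp S.disjoint_conjSet_U_H h
    have a2 : g ∉ conjSet C.A₁ := fun e => S.not_isFree_of_mem_conjSet_H h (C.free₁ g e)
    have a3 : g ∉ conjSet C.A₂ := fun e => S.not_isFree_of_mem_conjSet_H h (C.free₂ g e)
    simp [hg, h, a1, a2, a3]
  · have a1 : g ∉ conjSet S.U := fun e => S.not_isFree_of_mem_conjSet_U e h
    have a2 : g ∉ conjSet S.H := fun e => S.not_isFree_of_mem_conjSet_H e h
    rcases C.cover g h with e | e
    · simp [hg, e, a1, a2, C.disj g e]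
    · have a3 : g ∉ conjSet C.A₁ := fun e' => C.disj g e' e
      simp [hg, e, a1, a2, a3]

theorem sumNe_U {f : G → ℂ} {z t t' : ℂ} (h1 : ∀ b, b ≠ 0 → f (S.u 0 b) = z)
    (h2 : ∀ a b, a ≠ 0 → f (S.u a b) = t + t' * C.ψ (b / (a * S.θ a))) :
    sumNe S.U f = (2 * C.s ^ 2 - 1) * (z + 2 * C.s ^ 2 * t) := by
  classical
  have := SzField.finite F
  have := Fintype.ofFinite F
  have := Fintype.ofFinite S.U
  have hq : (Fintype.card F : ℂ) = 2 * C.s ^ 2 := by rw [← Nat.card_eq_fintype_card, C.card_F]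
  have hq' : (((Finset.univ : Finset F).erase 0).card : ℂ) = 2 * C.s ^ 2 - 1 := by
    rw [Finset.card_erase_of_mem (Finset.mem_univ _), Finset.card_univ,
      Nat.cast_sub Fintype.card_pos, hq, Nat.cast_one]
  rw [sumNe_eq, ← S.uEquiv.sum_comp, Fintype.sum_prod_type,
    ← Finset.add_sum_erase _ _ (Finset.mem_univ 0), ← Finset.add_sum_erase _ _ (Finset.mem_univ 0)]
  have e1 : ∑ b ∈ Finset.univ.erase (0 : F), f (S.uEquiv (0, b)) = (2 * C.s ^ 2 - 1) * z := by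
    rw [Finset.sum_congr rfl (g := fun _ => z), Finset.sum_const, nsmul_eq_mul, hq']
    exact fun b hb => h1 b (Finset.ne_of_mem_erase hb)
  have e2 : ∑ a ∈ Finset.univ.erase (0 : F), ∑ b, f (S.uEquiv (a, b)) =
      (2 * C.s ^ 2 - 1) * (2 * C.s ^ 2 * t) := by
    rw [Finset.sum_congr rfl (g := fun _ => 2 * C.s ^ 2 * t), Finset.sum_const, nsmul_eq_mul, hq']
    intro a ha
    have ha' := Finset.ne_of_mem_erase ha
    rw [Finset.sum_congr rfl (g := fun b => t + t' * C.ψ (b * (a * S.θ a)⁻¹))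
      fun b _ => by rw [← div_eq_mul_inv]; exact h2 a b ha', Finset.sum_add_distrib,
      ← Finset.mul_sum, C.sum_ψ (inv_ne_zero (mul_ne_zero ha' (S.θ_ne_zero.mpr ha'))),
      Finset.sum_const, nsmul_eq_mul, Finset.card_univ, hq]
    ring
  have e3 : f (S.uEquiv (0, 0)) = f 1 := congrArg f S.u_zero
  rw [e1, e2, e3]
  ring

variable {C} in
theorem Vals.irr {f : G → ℂ} {d z t t' : ℂ} {fH f₁ f₂ : G → ℂ}
    (h : C.Vals f d z t t' fH f₁ f₂) (hf : IsGeneralizedCharacter G f) (hd : 0 ≤ d.re)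
    {nH n₁ n₂ : ℂ} (eH : sumNe S.H (fun g => fH g * conj (fH g)) = nH)
    (e₁ : sumNe C.A₁ (fun g => f₁ g * conj (f₁ g)) = n₁)
    (e₂ : sumNe C.A₂ (fun g => f₂ g * conj (f₂ g)) = n₂)
    (e : d * conj d + (2 * C.s ^ 2 - 1) * (4 * C.s ^ 4 + 1) *
        (z * conj z + 2 * C.s ^ 2 * (t * conj t + t' * conj t')) +
      2 * C.s ^ 4 * (4 * C.s ^ 4 + 1) * nH +
      C.s ^ 4 * (2 * C.s ^ 2 - 1) * (2 * C.s ^ 2 - 2 * C.s + 1) * n₁ +
      C.s ^ 4 * (2 * C.s ^ 2 - 1) * (2 * C.s ^ 2 + 2 * C.s + 1) * n₂ =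
      4 * C.s ^ 4 * (2 * C.s ^ 2 - 1) * (4 * C.s ^ 4 + 1)) : IsIrrCharacter G f := by
  refine H11.isIrrCharacter_of_isGen hf ?_ (h.one ▸ hd)
  rw [classInner, C.avg (f := fun g => f g * conj (f g)) (fun g x => by simp only [h.cls g x]),
    C.sumNe_U (z := z * conj z) (t := t * conj t + t' * conj t') (t' := t * conj t' + t' * conj t)
      (fun b hb => by rw [h.zed b hb]) (fun a b ha => by
        rw [h.uni a b ha, map_add, map_mul, C.conj_ψ]
        linear_combination t' * conj t' * C.ψ_mul_self (b / (a * S.θ a))),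
    sumNe_congr (T := S.H) (f' := fun g => fH g * conj (fH g)) (fun g hg h1 => by
      simp only [h.onH g hg h1]),
    sumNe_congr (T := C.A₁) (f' := fun g => f₁ g * conj (f₁ g)) (fun g hg h1 => by
      simp only [h.on₁ g hg h1]),
    sumNe_congr (T := C.A₂) (f' := fun g => f₂ g * conj (f₂ g)) (fun g hg h1 => by
      simp only [h.on₂ g hg h1]), h.one, C.card_B, C.card_H, C.card_A₁, C.card_A₂, C.card_G,
    eH, e₁, e₂]
  have h1 := C.H_ne
  have h2 := C.s_ne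
  have h3 := C.A₁_ne
  have h4 := C.A₂_ne
  have e' : (4 * C.s ^ 4 + 1 : ℂ) =
      (2 * C.s ^ 2 + 2 * C.s + 1) * (2 * C.s ^ 2 - 2 * C.s + 1) := by ring
  rw [e'] at e
  generalize (2 * C.s ^ 2 - 1 : ℂ) = a at *
  generalize (2 * C.s ^ 2 + 2 * C.s + 1 : ℂ) = b at *
  generalize (2 * C.s ^ 2 - 2 * C.s + 1 : ℂ) = c at *
  field_simp
  linear_combination 2 * e

omit [SzField F] in
theorem notMem_of_U {a b : F} (h : S.u a b ≠ 1) :
    S.u a b ∉ conjSet S.H ∧ S.u a b ∉ conjSet C.A₁ ∧ S.u a b ∉ conjSet C.A₂ := by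
  have h' := mem_conjSet_of_mem (S.u_mem_U a b) h
  exact ⟨Set.disjoint_left.mp S.disjoint_conjSet_U_H h',
    fun e => S.not_isFree_of_mem_conjSet_U h' (C.free₁ _ e),
    fun e => S.not_isFree_of_mem_conjSet_U h' (C.free₂ _ e)⟩

omit [SzField F] in
theorem notMem_of_H {g : G} (hg : g ∈ S.H) (h : g ≠ 1) :
    g ∉ conjSet S.U ∧ g ∉ conjSet C.A₁ ∧ g ∉ conjSet C.A₂ := by
  have h' := mem_conjSet_of_mem hg h
  exact ⟨Set.disjoint_right.mp S.disjoint_conjSet_U_H h',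
    fun e => S.not_isFree_of_mem_conjSet_H h' (C.free₁ _ e),
    fun e => S.not_isFree_of_mem_conjSet_H h' (C.free₂ _ e)⟩

omit [SzField F] in
theorem notMem_of_A₁ {g : G} (hg : g ∈ C.A₁) (h : g ≠ 1) :
    g ∉ conjSet S.U ∧ g ∉ conjSet S.H ∧ g ∉ conjSet C.A₂ := by
  have h' := mem_conjSet_of_mem hg h
  exact ⟨fun e => S.not_isFree_of_mem_conjSet_U e (C.free₁ _ h'),
    fun e => S.not_isFree_of_mem_conjSet_H e (C.free₁ _ h'), C.disj _ h'⟩

omit [SzField F] in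
theorem notMem_of_A₂ {g : G} (hg : g ∈ C.A₂) (h : g ≠ 1) :
    g ∉ conjSet S.U ∧ g ∉ conjSet S.H ∧ g ∉ conjSet C.A₁ := by
  have h' := mem_conjSet_of_mem hg h
  exact ⟨fun e => S.not_isFree_of_mem_conjSet_U e (C.free₂ _ h'),
    fun e => S.not_isFree_of_mem_conjSet_H e (C.free₂ _ h'), fun e => C.disj _ e h'⟩

omit [Fintype G] [SzField F] in
theorem _root_.Cfsg.Agent.H39.Model.u_ne_one (S : Model G F) {a : F} (ha : a ≠ 0) (b : F) :
    S.u a b ≠ 1 := fun h => ha (S.u_eq_one_iff.mp h).1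

omit [Fintype G] [SzField F] in
theorem _root_.Cfsg.Agent.H39.Model.u_ne_one' (S : Model G F) (a : F) {b : F} (hb : b ≠ 0) :
    S.u a b ≠ 1 := fun h => hb (S.u_eq_one_iff.mp h).2

theorem vals_ξX (j : Fin C.fX.n) :
    C.Vals (C.fX.ξ j) (4 * C.s ^ 4 * (4 * C.s ^ 4 + 1)) 0 0 0 (C.fX.ξ j) 0 0 :=
  ⟨H11.isClassFunction_of_isCharacter (C.fX.isChar j), by rw [C.fX.deg, C.index_H],
    fun b hb => C.fX.zero j _ (S.u_ne_one' 0 hb) (C.notMem_of_U (S.u_ne_one' 0 hb)).1,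
    fun a b ha => by simpa using C.fX.zero j _ (S.u_ne_one ha b) (C.notMem_of_U (S.u_ne_one ha b)).1,
    fun _ _ _ => rfl, fun g hg h => C.fX.zero j _ h (C.notMem_of_A₁ hg h).2.1,
    fun g hg h => C.fX.zero j _ h (C.notMem_of_A₂ hg h).2.1⟩

theorem vals_ξY (j : Fin C.fY.n) :
    C.Vals (C.fY.ξ j) (4 * C.s ^ 4 * (2 * C.s ^ 2 - 1) * (2 * C.s ^ 2 - 2 * C.s + 1)) 0 0 0 0
      (C.fY.ξ j) 0 :=
  ⟨H11.isClassFunction_of_isCharacter (C.fY.isChar j), by rw [C.fY.deg, C.index_A₁],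
    fun b hb => C.fY.zero j _ (S.u_ne_one' 0 hb) (C.notMem_of_U (S.u_ne_one' 0 hb)).2.1,
    fun a b ha => by
      simpa using C.fY.zero j _ (S.u_ne_one ha b) (C.notMem_of_U (S.u_ne_one ha b)).2.1,
    fun g hg h => C.fY.zero j _ h (C.notMem_of_H hg h).2.1, fun _ _ _ => rfl,
    fun g hg h => C.fY.zero j _ h (C.notMem_of_A₂ hg h).2.2⟩

theorem vals_ξZ (j : Fin C.fZ.n) :
    C.Vals (C.fZ.ξ j) (4 * C.s ^ 4 * (2 * C.s ^ 2 - 1) * (2 * C.s ^ 2 + 2 * C.s + 1)) 0 0 0 0 0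
      (C.fZ.ξ j) :=
  ⟨H11.isClassFunction_of_isCharacter (C.fZ.isChar j), by rw [C.fZ.deg, C.index_A₂],
    fun b hb => C.fZ.zero j _ (S.u_ne_one' 0 hb) (C.notMem_of_U (S.u_ne_one' 0 hb)).2.2,
    fun a b ha => by
      simpa using C.fZ.zero j _ (S.u_ne_one ha b) (C.notMem_of_U (S.u_ne_one ha b)).2.2,
    fun g hg h => C.fZ.zero j _ h (C.notMem_of_H hg h).2.2,
    fun g hg h => C.fZ.zero j _ h (C.notMem_of_A₁ hg h).2.2, fun _ _ _ => rfl⟩

omit [SzField F] in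
theorem vals_one : C.Vals (fun _ => 1) 1 1 1 0 1 1 1 :=
  ⟨fun _ _ => rfl, rfl, fun _ _ => rfl, fun _ _ _ => by simp, fun _ _ _ => rfl, fun _ _ _ => rfl,
    fun _ _ _ => rfl⟩

theorem vals_reg : C.Vals (H11.regChar G) (4 * C.s ^ 4 * (2 * C.s ^ 2 - 1) * (4 * C.s ^ 4 + 1))
    0 0 0 0 0 0 :=
  ⟨H11.isClassFunction_of_isCharacter H11.isCharacter_regChar,
    by rw [H11.regChar_one, C.card_G]; ring,
    fun b hb => H11.regChar_of_ne_one (S.u_ne_one' 0 hb),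
    fun a b ha => by simpa using H11.regChar_of_ne_one (S.u_ne_one ha b),
    fun _ _ h => H11.regChar_of_ne_one h, fun _ _ h => H11.regChar_of_ne_one h,
    fun _ _ h => H11.regChar_of_ne_one h⟩

theorem vals_perm : C.Vals (H11.permChar G S.Pt) (4 * C.s ^ 4 + 1) 1 1 0 2 0 0 := by
  have := SzField.finite F
  have hU : ∀ a b, S.u a b ≠ 1 → H11.permChar G S.Pt (S.u a b) = 1 := by
    intro a b h
    rw [H11.permChar_apply, Nat.cast_eq_one, Nat.card_eq_one_iff_exists]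
    exact ⟨⟨.inf, S.u_mem_B a b⟩, fun P => Subtype.ext (S.eq_inf_of_mem_U (S.u_mem_U a b) h P.2)⟩
  have hF : ∀ g, S.IsFree g → H11.permChar G S.Pt g = 0 := by
    intro g h
    rw [H11.permChar_apply, Nat.cast_eq_zero, Nat.card_eq_zero]
    exact Or.inl ⟨fun P => h P.1 P.2⟩
  refine ⟨H11.isClassFunction_of_isCharacter (H11.isCharacter_permChar _), ?_,
    fun b hb => hU _ _ (S.u_ne_one' 0 hb), fun a b ha => by simpa using hU _ _ (S.u_ne_one ha b),
    fun g hg h => ?_, fun g hg h => hF g (C.free₁ g (mem_conjSet_of_mem hg h)),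
    fun g hg h => hF g (C.free₂ g (mem_conjSet_of_mem hg h))⟩
  · rw [H11.permChar_one, S.card_Pt]
    push_cast
    rw [C.card_F]
    ring
  · have h2 := S.mem_H_iff_fix.mp hg
    have : Nat.card (MulAction.fixedBy S.Pt g) = 2 := by
      rw [Nat.card_eq_two_iff]
      refine ⟨⟨.inf, h2.1⟩, ⟨.pt 0 0, h2.2⟩, fun e => S.inf_ne_pt 0 0 (congrArg Subtype.val e), ?_⟩
      ext ⟨P, hP⟩
      simpa [Subtype.ext_iff] using S.fix_of_mem_H hg h hP
    rw [H11.permChar_apply, this]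
    rfl

theorem vals_indU {θ : S.U → ℂ} {d z t t' : ℂ} (h0 : θ 1 = d)
    (h1 : ∀ b, b ≠ 0 → indFun S.U θ (S.u 0 b) = z)
    (h2 : ∀ a b, a ≠ 0 → indFun S.U θ (S.u a b) = t + t' * C.ψ (b / (a * S.θ a))) :
    C.Vals (indFun S.U θ) ((2 * C.s ^ 2 - 1) * (4 * C.s ^ 4 + 1) * d) z t t' 0 0 0 := by
  have key : ∀ g, g ≠ 1 → g ∉ conjSet S.U → indFun S.U θ g = 0 := fun g h hg =>
    H14.indFun_eq_zero_of_not_conj _ _ _ fun x hx => hg ⟨h, x⁻¹, by simpa using hx⟩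
  exact ⟨H14.indFun_isClassFunction _ _, by rw [H14.indFun_one, C.index_U, h0], h1, h2,
    fun g hg h => key g h (C.notMem_of_H hg h).1, fun g hg h => key g h (C.notMem_of_A₁ hg h).1,
    fun g hg h => key g h (C.notMem_of_A₂ hg h).1⟩

/-- A linear character of `U`. -/
noncomputable def lam : S.U → ℂ := fun x => C.ψ (S.uEquiv.symm x).1

omit [SzField F] in
theorem lam_uu (a b : F) : C.lam (S.uu a b) = C.ψ a := by simp only [lam, uEquiv_symm]

omit [SzField F] in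
theorem lam_one : C.lam 1 = 1 := by rw [← S.uu_zero, lam_uu, ψ_zero]

omit [SzField F] in
theorem lam_char : IsCharacter S.U C.lam := by
  refine H11.isCharacter_of_irr (H11.isIrrCharacter_of_map_mul C.lam_one fun x y => ?_)
  obtain ⟨a, b, rfl⟩ := S.exists_uu x
  obtain ⟨c, d, rfl⟩ := S.exists_uu y
  rw [uu_mul, lam_uu, lam_uu, lam_uu, ψ_add]

theorem vals_lam : C.Vals (indFun S.U C.lam) ((2 * C.s ^ 2 - 1) * (4 * C.s ^ 4 + 1) * 1)
    (2 * C.s ^ 2 - 1) (-1) 0 0 0 0 := by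
  classical
  have := SzField.finite F
  have := Fintype.ofFinite F
  have hc := H11.isClassFunction_of_isCharacter C.lam_char
  refine C.vals_indU C.lam_one (fun b hb => ?_) (fun a b ha => ?_)
  · rw [S.indFun_U hc _ _ (S.u_ne_one' 0 hb)]
    simp only [lam_uu, mul_zero, ψ_zero, Finset.sum_const, Finset.card_univ, nsmul_eq_mul, mul_one]
    rw [← Nat.card_eq_fintype_card, Nat.card_congr S.hEquiv.toEquiv, C.card_H]
  · rw [S.indFun_U hc _ _ (S.u_ne_one ha b)]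
    simp only [lam_uu]
    rw [C.sum_ψ_units ⟨S.θ_inj, S.θ_surj⟩ (map_zero _) ha]
    simp

theorem vals_φ : C.Vals (indFun S.U C.φ) ((2 * C.s ^ 2 - 1) * (4 * C.s ^ 4 + 1) * C.s)
    (-C.s) 0 (C.s * Complex.I) 0 0 0 := by
  classical
  have := SzField.finite F
  have := Fintype.ofFinite F
  have hc := H11.isClassFunction_of_isCharacter C.φ_char
  refine C.vals_indU (by rw [← S.uu_zero, C.φ_zero, ψ_zero, mul_one]) (fun b hb => ?_)
    (fun a b ha => ?_)
  · rw [S.indFun_U hc _ _ (S.u_ne_one' 0 hb)]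
    simp only [mul_zero, C.φ_zero, ← Finset.mul_sum]
    rw [C.sum_ψ_units (f := fun x => x ^ 2 * S.θ x)
      ⟨fun _ _ h => S.sq_mul_θ_inj h, S.sq_mul_θ_surj⟩ (by simp) hb]
    ring
  · rw [S.indFun_U hc _ _ (S.u_ne_one ha b)]
    obtain ⟨k, hk⟩ := S.exists_unit_θ ha one_ne_zero
    rw [Finset.sum_eq_single k, hk, C.φ_one, zero_add]
    · congr 2
      have h2 := congrArg S.θ hk
      rw [map_mul, S.θθ, map_one] at h2
      have h3 := S.θ_ne_zero.mpr ha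
      field_simp
      linear_combination b * (S.θ k * a * h2 + hk)
    · intro l _ hl
      refine C.φ_ne _ _ (mul_ne_zero (S.θ_ne_zero.mpr l.ne_zero) ha) fun h => hl ?_
      exact Units.ext (S.θ_inj (mul_right_cancel₀ ha (h.trans hk.symm)))
    · simp

/-- The Steinberg character. -/
noncomputable def St (_ : S.Ctx) : G → ℂ := H11.permChar G S.Pt - fun _ => 1

/-- The principal series. -/
noncomputable def X (j : Fin C.fX.n) : G → ℂ :=
  H11.permChar G S.Pt + C.fX.ξ j - H11.regChar G + (2 : ℕ) • ∑ i, C.fX.ξ i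

/-- The first discrete series. -/
noncomputable def Y (j : Fin C.fY.n) : G → ℂ :=
  indFun S.U C.lam + ((C.s : ℤ) - 1) • (indFun S.U C.φ + fun g => conj (indFun S.U C.φ g)) -
    C.fY.ξ j

/-- The second discrete series. -/
noncomputable def Z (j : Fin C.fZ.n) : G → ℂ :=
  indFun S.U C.lam + ((C.s : ℤ) + 1) • (indFun S.U C.φ + fun g => conj (indFun S.U C.φ g)) -
    C.fZ.ξ j

/-- A cuspidal unipotent character. -/
noncomputable def W : G → ℂ := indFun S.U C.φ - ∑ i, C.fY.ξ i + ∑ i, C.fZ.ξ i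

/-- The other cuspidal unipotent character. -/
noncomputable def W' : G → ℂ := fun g => conj (C.W g)

theorem vals_St : C.Vals C.St (4 * C.s ^ 4) 0 0 0 1 (-1) (-1) := by
  have h := C.vals_perm
  refine ⟨H11.isClassFunction_sub h.cls (fun _ _ => rfl), ?_, fun b hb => ?_, fun a b ha => ?_,
    fun g hg h1 => ?_, fun g hg h1 => ?_, fun g hg h1 => ?_⟩
  · simp [St, h.one]
  · simp [St, h.zed b hb]
  · simp [St, h.uni a b ha]
  · simp [St, h.onH g hg h1]; norm_num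
  · simp [St, h.on₁ g hg h1]
  · simp [St, h.on₂ g hg h1]

theorem gen_X (j : Fin C.fX.n) : IsGeneralizedCharacter G (C.X j) := by
  have := SzField.finite F
  exact H11.isGen_add (H11.isGen_sub (H11.isGen_add
    (H11.isGen_of_isCharacter (H11.isCharacter_permChar _))
    (H11.isGen_of_isCharacter (C.fX.isChar j))) (H11.isGen_of_isCharacter H11.isCharacter_regChar))
    (H11.isGen_nsmul (H11.isGen_sum _ _ fun i _ => H11.isGen_of_isCharacter (C.fX.isChar i)) 2)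

omit [SzField F] in
theorem gen_lam : IsGeneralizedCharacter G (indFun S.U C.lam) :=
  H11.isGen_of_isCharacter (H14.IsCharacter.indFun _ C.lam_char)

omit [SzField F] in
theorem gen_φ : IsGeneralizedCharacter G (indFun S.U C.φ) :=
  H11.isGen_of_isCharacter (H14.IsCharacter.indFun _ C.φ_char)

omit [SzField F] in
theorem gen_Y (j : Fin C.fY.n) : IsGeneralizedCharacter G (C.Y j) :=
  H11.isGen_sub (H11.isGen_add C.gen_lam (H11.isGen_zsmul (H11.isGen_add C.gen_φ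
    (H11.isGen_conj C.gen_φ)) _)) (H11.isGen_of_isCharacter (C.fY.isChar j))

omit [SzField F] in
theorem gen_Z (j : Fin C.fZ.n) : IsGeneralizedCharacter G (C.Z j) :=
  H11.isGen_sub (H11.isGen_add C.gen_lam (H11.isGen_zsmul (H11.isGen_add C.gen_φ
    (H11.isGen_conj C.gen_φ)) _)) (H11.isGen_of_isCharacter (C.fZ.isChar j))

omit [SzField F] in
theorem gen_W : IsGeneralizedCharacter G C.W :=
  H11.isGen_add (H11.isGen_sub C.gen_φ
    (H11.isGen_sum _ _ fun i _ => H11.isGen_of_isCharacter (C.fY.isChar i)))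
    (H11.isGen_sum _ _ fun i _ => H11.isGen_of_isCharacter (C.fZ.isChar i))

theorem vals_X (j : Fin C.fX.n) : C.Vals (C.X j) (4 * C.s ^ 4 + 1) 1 1 0 (C.fX.ξ j) 0 0 := by
  have h := C.vals_perm
  have r := C.vals_reg
  have x := C.vals_ξX
  refine ⟨H11.isClassFunction_of_isGen (C.gen_X j), ?_, fun b hb => ?_, fun a b ha => ?_,
    fun g hg h1 => ?_, fun g hg h1 => ?_, fun g hg h1 => ?_⟩
  · simp [X, h.one, r.one, fun i => (x i).one, C.nX]; ring
  · simp [X, h.zed b hb, r.zed b hb, fun i => (x i).zed b hb]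
  · simp [X, h.uni a b ha, r.uni a b ha, fun i => (x i).uni a b ha]
  · simp [X, h.onH g hg h1, r.onH g hg h1, C.fX.sum g hg h1]
  · simp [X, h.on₁ g hg h1, r.on₁ g hg h1, fun i => (x i).on₁ g hg h1]
  · simp [X, h.on₂ g hg h1, r.on₂ g hg h1, fun i => (x i).on₂ g hg h1]

theorem vals_Y (j : Fin C.fY.n) : C.Vals (C.Y j)
    ((2 * C.s ^ 2 - 1) * (2 * C.s ^ 2 - 2 * C.s + 1)) (2 * C.s - 1) (-1) 0 0 (-C.fY.ξ j) 0 := by
  have h := C.vals_lam
  have r := C.vals_φ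
  have x := C.vals_ξY j
  refine ⟨H11.isClassFunction_of_isGen (C.gen_Y j), ?_, fun b hb => ?_, fun a b ha => ?_,
    fun g hg h1 => ?_, fun g hg h1 => ?_, fun g hg h1 => ?_⟩
  · simp [Y, h.one, r.one, x.one, map_ofNat]; ring
  · simp [Y, h.zed b hb, r.zed b hb, x.zed b hb]; ring
  · simp [Y, h.uni a b ha, r.uni a b ha, x.uni a b ha, C.conj_ψ]
  · simp [Y, h.onH g hg h1, r.onH g hg h1, x.onH g hg h1]
  · simp [Y, h.on₁ g hg h1, r.on₁ g hg h1]
  · simp [Y, h.on₂ g hg h1, r.on₂ g hg h1, x.on₂ g hg h1]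

theorem vals_Z (j : Fin C.fZ.n) : C.Vals (C.Z j)
    ((2 * C.s ^ 2 - 1) * (2 * C.s ^ 2 + 2 * C.s + 1)) (-2 * C.s - 1) (-1) 0 0 0 (-C.fZ.ξ j) := by
  have h := C.vals_lam
  have r := C.vals_φ
  have x := C.vals_ξZ j
  refine ⟨H11.isClassFunction_of_isGen (C.gen_Z j), ?_, fun b hb => ?_, fun a b ha => ?_,
    fun g hg h1 => ?_, fun g hg h1 => ?_, fun g hg h1 => ?_⟩
  · simp [Z, h.one, r.one, x.one, map_ofNat]; ring
  · simp [Z, h.zed b hb, r.zed b hb, x.zed b hb]; ring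
  · simp [Z, h.uni a b ha, r.uni a b ha, x.uni a b ha, C.conj_ψ]
  · simp [Z, h.onH g hg h1, r.onH g hg h1, x.onH g hg h1]
  · simp [Z, h.on₁ g hg h1, r.on₁ g hg h1, x.on₁ g hg h1]
  · simp [Z, h.on₂ g hg h1, r.on₂ g hg h1]

theorem vals_W : C.Vals C.W (C.s * (2 * C.s ^ 2 - 1)) (-C.s) 0 (C.s * Complex.I) 0 1 (-1) := by
  have r := C.vals_φ
  have y := C.vals_ξY
  have z := C.vals_ξZ
  refine ⟨H11.isClassFunction_of_isGen C.gen_W, ?_, fun b hb => ?_, fun a b ha => ?_,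
    fun g hg h1 => ?_, fun g hg h1 => ?_, fun g hg h1 => ?_⟩
  · simp [W, r.one, fun i => (y i).one, fun i => (z i).one, C.nY, C.nZ]; ring
  · simp [W, r.zed b hb, fun i => (y i).zed b hb, fun i => (z i).zed b hb]
  · simp [W, r.uni a b ha, fun i => (y i).uni a b ha, fun i => (z i).uni a b ha]
  · simp [W, r.onH g hg h1, fun i => (y i).onH g hg h1, fun i => (z i).onH g hg h1]
  · simp [W, r.on₁ g hg h1, C.fY.sum g hg h1, fun i => (z i).on₁ g hg h1]
  · simp [W, r.on₂ g hg h1, fun i => (y i).on₂ g hg h1, C.fZ.sum g hg h1]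

theorem vals_W' : C.Vals C.W' (C.s * (2 * C.s ^ 2 - 1)) (-C.s) 0 (-(C.s * Complex.I)) 0 1 (-1) := by
  have r := C.vals_W
  refine ⟨H11.isClassFunction_conj r.cls, ?_, fun b hb => ?_, fun a b ha => ?_,
    fun g hg h1 => ?_, fun g hg h1 => ?_, fun g hg h1 => ?_⟩
  · simp [W', r.one, map_ofNat]
  · simp [W', r.zed b hb]
  · simp [W', r.uni a b ha, C.conj_ψ]
  · simp [W', r.onH g hg h1]
  · simp [W', r.on₁ g hg h1]
  · simp [W', r.on₂ g hg h1]

theorem irr_St : IsIrrCharacter G C.St := by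
  have := SzField.finite F
  have : Nontrivial S.Pt := ⟨_, _, S.inf_ne_pt 0 0⟩
  exact (H11.isIrrCharacter_permChar_sub_one_iff S.Pt).mpr S.instTwoTransitive

theorem irr_X (j : Fin C.fX.n) : IsIrrCharacter G (C.X j) := by
  refine (C.vals_X j).irr (C.gen_X j) ?_ (C.fX.norm j) (n₁ := 0) (n₂ := 0) (by simp [sumNe_zero])
    (by simp [sumNe_zero]) ?_
  · have : (4 * C.s ^ 4 + 1 : ℂ) = ((4 * C.s ^ 4 + 1 : ℕ) : ℂ) := by push_cast; rfl
    rw [this, Complex.natCast_re]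
    positivity
  · simp only [map_add, map_mul, map_pow, map_natCast, map_ofNat, map_one, map_zero, C.card_H]
    push_cast
    ring

theorem irr_Y (j : Fin C.fY.n) : IsIrrCharacter G (C.Y j) := by
  refine (C.vals_Y j).irr (C.gen_Y j) ?_ (nH := 0) (by simp [sumNe_zero])
    (n₁ := (4 : ℕ) * Nat.card C.A₁ - (4 : ℕ) ^ 2) (by simpa using C.fY.norm j) (n₂ := 0)
    (by simp [sumNe_zero]) ?_
  · rw [← C.card_H, ← C.card_A₂, ← Nat.cast_mul, Complex.natCast_re]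
    positivity
  · simp only [map_add, map_sub, map_neg, map_mul, map_pow, map_natCast, map_ofNat, map_one,
      map_zero, C.card_A₁]
    push_cast
    ring

theorem irr_Z (j : Fin C.fZ.n) : IsIrrCharacter G (C.Z j) := by
  refine (C.vals_Z j).irr (C.gen_Z j) ?_ (nH := 0) (by simp [sumNe_zero]) (n₁ := 0)
    (by simp [sumNe_zero]) (n₂ := (4 : ℕ) * Nat.card C.A₂ - (4 : ℕ) ^ 2)
    (by simpa using C.fZ.norm j) ?_
  · rw [← C.card_H, ← C.card_A₁, ← Nat.cast_mul, Complex.natCast_re]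
    positivity
  · simp only [map_add, map_sub, map_neg, map_mul, map_pow, map_natCast, map_ofNat, map_one,
      map_zero, C.card_A₂]
    push_cast
    ring

theorem irr_W : IsIrrCharacter G C.W := by
  refine C.vals_W.irr C.gen_W ?_ (nH := 0) (by simp [sumNe_zero])
    (n₁ := Nat.card C.A₁ - 1) (by simp [sumNe_const]) (n₂ := Nat.card C.A₂ - 1)
    (by simp [sumNe_const]) ?_
  · rw [← C.card_H, ← Nat.cast_mul, Complex.natCast_re]
    positivity
  · simp only [map_sub, map_neg, map_mul, map_pow, map_natCast, map_ofNat, map_one,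
      map_zero, C.card_A₁, C.card_A₂, Complex.conj_I]
    linear_combination (-(2 * C.s ^ 2 - 1) * (4 * C.s ^ 4 + 1) * 2 * C.s ^ 4 : ℂ) * Complex.I_mul_I

theorem irr_W' : IsIrrCharacter G C.W' := H11.isIrrCharacter_conj C.irr_W

/-- The list of the irreducible characters. -/
noncomputable def list : Unit ⊕ Unit ⊕ Fin C.fX.n ⊕ Fin C.fY.n ⊕ Fin C.fZ.n ⊕ Unit ⊕ Unit → G → ℂ
  | .inl _ => fun _ => 1
  | .inr (.inl _) => C.St
  | .inr (.inr (.inl j)) => C.X j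
  | .inr (.inr (.inr (.inl j))) => C.Y j
  | .inr (.inr (.inr (.inr (.inl j)))) => C.Z j
  | .inr (.inr (.inr (.inr (.inr (.inl _))))) => C.W
  | .inr (.inr (.inr (.inr (.inr (.inr _))))) => C.W'

theorem irr_list : ∀ i, IsIrrCharacter G (C.list i)
  | .inl _ => H11.isIrrCharacter_one
  | .inr (.inl _) => C.irr_St
  | .inr (.inr (.inl j)) => C.irr_X j
  | .inr (.inr (.inr (.inl j))) => C.irr_Y j
  | .inr (.inr (.inr (.inr (.inl j)))) => C.irr_Z j
  | .inr (.inr (.inr (.inr (.inr (.inl _))))) => C.irr_W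
  | .inr (.inr (.inr (.inr (.inr (.inr _))))) => C.irr_W'

omit [SzField F] in
theorem sum_list (Φ : (G → ℂ) → ℂ) : ∑ i, Φ (C.list i) = Φ (fun _ => 1) + Φ C.St +
    ∑ j, Φ (C.X j) + ∑ j, Φ (C.Y j) + ∑ j, Φ (C.Z j) + Φ C.W + Φ C.W' := by
  simp only [Fintype.sum_sum_type, list, Finset.univ_unique, Finset.sum_singleton]
  ring

theorem list_reg (g : G) : ∑ i, C.list i 1 * C.list i g = H11.regChar G g := by
  have r := C.vals_reg
  have s := C.vals_St
  have x := C.vals_X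
  have y := C.vals_Y
  have z := C.vals_Z
  have w := C.vals_W
  have w' := C.vals_W'
  rw [C.sum_list (fun χ => χ 1 * χ g)]
  simp only [s.one, fun i => (x i).one, fun i => (y i).one, fun i => (z i).one, w.one, w'.one,
    ← Finset.mul_sum]
  rcases C.exists_rep g with rfl | ⟨v, g, rfl, h1, h⟩
  · simp only [r.one, s.one, fun i => (x i).one, fun i => (y i).one, fun i => (z i).one, w.one,
      w'.one, Finset.sum_const, Finset.card_univ, Fintype.card_fin, nsmul_eq_mul, C.nX, C.nY, C.nZ]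
    ring
  simp only [r.cls g v, s.cls g v, fun i => (x i).cls g v, fun i => (y i).cls g v,
    fun i => (z i).cls g v, w.cls g v, w'.cls g v]
  rcases h with ⟨b, hb, rfl⟩ | ⟨a, b, ha, rfl⟩ | hg | hg | hg
  · simp only [r.zed b hb, s.zed b hb, fun i => (x i).zed b hb, fun i => (y i).zed b hb,
      fun i => (z i).zed b hb, w.zed b hb, w'.zed b hb, Finset.sum_const, Finset.card_univ,
      Fintype.card_fin, nsmul_eq_mul, C.nX, C.nY, C.nZ]
    ring
  · simp only [r.uni a b ha, s.uni a b ha, fun i => (x i).uni a b ha, fun i => (y i).uni a b ha,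
      fun i => (z i).uni a b ha, w.uni a b ha, w'.uni a b ha, Finset.sum_const, Finset.card_univ,
      Fintype.card_fin, nsmul_eq_mul, C.nX, C.nY, C.nZ]
    ring
  · simp [r.onH g hg h1, s.onH g hg h1, fun i => (x i).onH g hg h1, fun i => (y i).onH g hg h1,
      fun i => (z i).onH g hg h1, w.onH g hg h1, w'.onH g hg h1, C.fX.sum g hg h1]
    ring
  · simp [r.on₁ g hg h1, s.on₁ g hg h1, fun i => (x i).on₁ g hg h1, fun i => (y i).on₁ g hg h1,
      fun i => (z i).on₁ g hg h1, w.on₁ g hg h1, w'.on₁ g hg h1, C.fY.sum g hg h1]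
    ring
  · simp [r.on₂ g hg h1, s.on₂ g hg h1, fun i => (x i).on₂ g hg h1, fun i => (y i).on₂ g hg h1,
      fun i => (z i).on₂ g hg h1, w.on₂ g hg h1, w'.on₂ g hg h1, C.fZ.sum g hg h1]
    ring

theorem sum_irr [Fintype (IrrCharacter G)] (Φ : (G → ℂ) → ℂ) :
    ∑ χ : IrrCharacter G, Φ χ = Φ (fun _ => 1) + Φ C.St +
      ∑ j, Φ (C.X j) + ∑ j, Φ (C.Y j) + ∑ j, Φ (C.Z j) + Φ C.W + Φ C.W' := by
  rw [sum_irr_eq_of_regChar C.list C.irr_list C.list_reg, sum_list]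

theorem irr_cases {χ : G → ℂ} (hχ : IsIrrCharacter G χ) : χ = (fun _ => 1) ∨ χ = C.St ∨
    (∃ j, χ = C.X j) ∨ (∃ j, χ = C.Y j) ∨ (∃ j, χ = C.Z j) ∨ χ = C.W ∨ χ = C.W' := by
  obtain ⟨i, rfl⟩ := exists_eq_of_regChar C.list C.irr_list C.list_reg hχ
  rcases i with _ | _ | j | j | j | _ | _ <;> simp [list]

theorem mem_cd_iff {d : ℕ} : d ∈ charDegrees G ↔ d = 1 ∨ d = 4 * C.s ^ 4 ∨ d = 4 * C.s ^ 4 + 1 ∨
    d = Nat.card S.H * Nat.card C.A₂ ∨ d = Nat.card S.H * Nat.card C.A₁ ∨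
    d = C.s * Nat.card S.H := by
  have key : ∀ {χ : G → ℂ} {n : ℕ}, IsIrrCharacter G χ → χ 1 = n → charDegree χ = n :=
    fun hχ h => by
      have := H24.deg_cast (H11.isCharacter_of_irr hχ)
      rw [h] at this
      exact_mod_cast this
  have h0 := key (n := 1) (H11.isIrrCharacter_one (G := G)) (by simp)
  have h1 := key (n := 4 * C.s ^ 4) C.irr_St (by rw [C.vals_St.one]; push_cast; rfl)
  have h2 := fun j => key (n := 4 * C.s ^ 4 + 1) (C.irr_X j)
    (by rw [(C.vals_X j).one]; push_cast; rfl)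
  have h3 := fun j => key (n := Nat.card S.H * Nat.card C.A₂) (C.irr_Y j)
    (by rw [(C.vals_Y j).one, Nat.cast_mul, C.card_H, C.card_A₂])
  have h4 := fun j => key (n := Nat.card S.H * Nat.card C.A₁) (C.irr_Z j)
    (by rw [(C.vals_Z j).one, Nat.cast_mul, C.card_H, C.card_A₁])
  have h5 := key (n := C.s * Nat.card S.H) C.irr_W (by rw [C.vals_W.one, Nat.cast_mul, C.card_H])
  have h6 := key (n := C.s * Nat.card S.H) C.irr_W' (by rw [C.vals_W'.one, Nat.cast_mul, C.card_H])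
  have hs := C.two_le
  constructor
  · intro hd
    obtain ⟨χ, hχ, rfl⟩ := H24.mem_cd.mp hd
    rcases C.irr_cases hχ with rfl | rfl | ⟨j, rfl⟩ | ⟨j, rfl⟩ | ⟨j, rfl⟩ | rfl | rfl <;>
      simp only [h0, h1, h2, h3, h4, h5, h6, true_or, or_true]
  · rintro (rfl | rfl | rfl | rfl | rfl | rfl)
    · exact H24.one_mem_cd
    · exact h1 ▸ H24.deg_mem_cd C.irr_St
    · have a1 := C.fX.card
      have := SzField.finite F
      rw [S.card_H, C.card] at a1
      have : 0 < C.fX.n := by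
        have : 4 ≤ C.s ^ 2 := by nlinarith
        omega
      exact h2 ⟨0, this⟩ ▸ H24.deg_mem_cd (C.irr_X _)
    · have a1 := C.fY.card
      rw [C.card₁] at a1
      have : 0 < C.fY.n := by omega
      exact h3 ⟨0, this⟩ ▸ H24.deg_mem_cd (C.irr_Y _)
    · have a1 := C.fZ.card
      have a2 := C.card₂
      have : 0 < C.fZ.n := by
        have : 2 * C.s ≤ C.s ^ 2 := by nlinarith
        omega
      exact h4 ⟨0, this⟩ ▸ H24.deg_mem_cd (C.irr_Z _)
    · exact h5 ▸ H24.deg_mem_cd C.irr_W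

end Ctx

end Model

end Cfsg.Agent.H39
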