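import Cfsg.Agent.H97.U5Defs

/-! Subgroups of the Sylow subgroup of `PSU₅(q)` containing the third centre. -/

set_option autoImplicit false

namespace Cfsg.Agent.H39.U5A5

open Cfsg.Agent.H97 Cfsg.Agent.H97.U5 Subgroup
open Cfsg.Agent.H96.VB (Ch IvS)
open scoped commutatorElement

universe u

variable {K : Type u} [Field K] {T : Hm K}

theorem rv_mem (w : K) : rv T w 0 ∈ Z3 T := ⟨rfl, rfl⟩

theorem xm_mem (w : K) : xm T w ∈ Z2 T := ⟨rfl, rfl, rfl, rfl⟩

theorem xd_mem (n : K) (h : n + T.σ n = 0) : xd T n h ∈ V T := ⟨rfl, rfl, rfl⟩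

theorem mem_V_of {g : U T} (hg : g ∈ R T) (h : ∀ k ∈ Z3 T, k * g = g * k) : g ∈ V T := by
  have e : ∀ w, ⁅g, rv T w 0⁆ = 1 := fun w =>
    commutatorElement_eq_one_iff_mul_comm.2 (h _ (rv_mem w)).symm
  have c := fun w => cm_RR hg (Z3_le_R (rv_mem w))
  refine ⟨hg, T.σ_eq_zero.1 (T.eq_zero_of_skew fun w => ?_), ?_⟩
  · have := (c w).2.1
    rw [e, U.one_a, rv_v1] at this
    rw [T.inv]; linear_combination -this
  · have := (c 1).2.2
    rw [e, U.one_m, rv_v1, rv_v2, map_zero] at this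
    exact T.σ_eq_zero.1 (by linear_combination -this)

theorem div_mem_Z {g k : U T} (hg : g ∈ Z2 T) (hk : k ∈ Z2 T) (e : g.m = k.m) : g⁻¹ * k ∈ Z T :=
  have h := mul_mem (inv_mem hg) hk
  ⟨h.1, h.2.1, h.2.2.1, by simp [hg.1, hg.2.1, e], h.2.2.2⟩

theorem xm_add (a b : K) : xm T (a + b) = xm T a * xm T b := by
  ext <;> simp

theorem a5 : A5Stmt T := by
  intro P hR h3 hQ
  obtain ⟨g0, hg0, t0⟩ := SetLike.not_le_iff_exists.1 hR
  obtain ⟨g1, hg1, v0⟩ := SetLike.not_le_iff_exists.1 hQ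
  rw [mem_R] at t0
  rw [mem_QV] at v0
  have hV := V_le_Z3.trans h3
  have h2 := Z2_le_V.trans hV
  have hP3 : ⁅P, P⁆ ≤ Z3 T := commutator_le.2 fun g _ k _ => cm_Z3 g k
  have hZP : Z T ≤ ⁅P, P⁆ := fun z hz => by
    obtain ⟨x, hx⟩ := T.exists_skew (c := z.a) (by simpa [hz.2.1] using z.ha)
    have hc := cm_Z (g := g0) (xm_mem (x / T.σ g0.t))
    have : z = ⁅g0, xm T (x / T.σ g0.t)⁆ := by
      refine U.ext (hz.1.trans hc.1.symm) (hz.2.1.trans hc.2.1.symm) (hz.2.2.1.trans hc.2.2.1.symm) ?_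
        (hz.2.2.2.1.trans hc.2.2.2.1.symm) (hz.2.2.2.2.trans hc.2.2.2.2.symm)
      have := T.σ_ne_zero t0
      rw [cm_a2 (xm_mem _), xm_m, map_div₀, T.inv, ← hx]
      field_simp
    rw [this]
    exact commutator_mem_commutator hg0 (h2 (xm_mem _))
  have h2P : Z2 T ≤ ⁅P, P⁆ := fun z hz => by
    have hc := div_mem_Z (cm_Z2 (g := g1) (rv_mem (z.m / T.σ g1.v2))) hz (by
      have := T.σ_ne_zero v0
      rw [cm_m3 (rv_mem _), rv_d0, rv_v1]
      field_simp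
      ring)
    simpa only [mul_inv_cancel_left] using
      mul_mem (commutator_mem_commutator hg1 (h3 (rv_mem (z.m / T.σ g1.v2)))) (hZP hc)
  have hC := (H96.VB.Ch.self.commutator (H96.VB.Ch.self (P := P))).cent
  generalize hCe : P ⊓ centralizer (⁅P, P⁆ : Subgroup (U T)) = C at hC
  have hCR : C ≤ R T := hCe ▸ inf_le_right.trans ((centralizer_le h2P).trans cR.le)
  have hVC : V T ≤ C := hCe ▸ fun g hg =>
    ⟨hV hg, fun k hk => (comm_VR hg (Z3_le_R (hP3 hk))).symm⟩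
  by_cases hPV : ⁅P, P⁆ ≤ V T
  · right
    have h3C : Z3 T ≤ C := hCe ▸ fun g hg => ⟨h3 hg, fun k hk => comm_VR (hPV hk) (Z3_le_R hg)⟩
    have e : V T = C ⊓ (P ⊓ centralizer (C : Set (U T))) := le_antisymm
      (fun g hg => ⟨hVC hg, hV hg, fun k hk => (comm_VR hg (hCR hk)).symm⟩)
      fun g hg => mem_V_of (hCR hg.1) fun k hk => hg.2.2 k (h3C hk)
    exact e ▸ hC.inf hC.cent
  obtain ⟨c, hc, hcV⟩ := SetLike.not_le_iff_exists.1 hPV
  have c1 : c.v1 ≠ 0 := fun e => hcV ⟨(hP3 hc).1, e, (hP3 hc).2⟩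
  have hC3 : C ≤ Z3 T := fun g hg => by
    refine ⟨hCR hg, ?_⟩
    have e := cm_m3 (g := g) (hP3 hc)
    rw [commutatorElement_eq_one_iff_mul_comm.2 ((hCe ▸ hg : g ∈ P ⊓ _).2 c hc).symm, U.one_m,
      show g.t = 0 from hCR hg, zero_mul, zero_add] at e
    exact T.σ_eq_zero.1 ((mul_eq_zero.1 e.symm).resolve_left c1)
  by_cases two : (2 : K) = 0
  · right
    refine H96.VB.Ch.of_iff (hC.ivs.inter H96.VB.IvS.inv) fun g => ⟨fun hg => ⟨hV hg, hVC hg, ?_⟩,
      fun ⟨_, hg, e⟩ => ?_⟩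
    · show g * g = 1
      ext <;> simp [hg.1, hg.2.1, hg.2.2, ← two_mul, two]
    · have h := hC3 hg
      have e := congrArg U.a (show g * g = 1 from e)
      simp only [U.mul_a, h.1, h.2, map_zero, U.one_a] at e
      have e2 : g.v1 * T.σ g.v1 = 0 := by linear_combination g.a * two - e
      exact ⟨h.1, (mul_eq_zero.1 e2).elim id T.σ_eq_zero.1, h.2⟩
  left
  have hX := (hC.commutator H96.VB.Ch.self).sup (ch_center (P := P))
  suffices e : Z2 T = ⁅C, P⁆ ⊔ P ⊓ centralizer (P : Set (U T)) from e ▸ hX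
  generalize hXe : ⁅C, P⁆ ⊔ P ⊓ centralizer (P : Set (U T)) = X
  have hZX : Z T ≤ X := hXe ▸ fun z hz =>
    mem_sup_right ⟨h2 (Z_le_Z2 hz), fun k _ => (comm_Z hz k).symm⟩
  have xd' : ∀ g ∈ P, ∀ n, n + T.σ n = 0 → xm T (g.t * n) ∈ X := fun g hg n hn => by
    have h1 : ⁅g, xd T n hn⁆ ∈ X := by
      rw [← commutatorElement_inv, ← hXe]
      exact inv_mem (mem_sup_left (commutator_mem_commutator (hVC (xd_mem n hn)) hg))
    have h4 := div_mem_Z (cm_Z2 (g := g) (V_le_Z3 (xd_mem n hn))) (xm_mem (g.t * n))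
      (cm_V (xd_mem n hn)).1
    simpa only [mul_inv_cancel_left] using mul_mem h1 (hZX h4)
  refine le_antisymm (fun z hz => ?_) (hXe ▸ sup_le (commutator_le.2 fun g hg k _ => cm_Z2' (hC3 hg))
    fun z hz => ?_)
  · suffices h : xm T z.m ∈ X by simpa using mul_mem h (hZX (div_mem_Z (xm_mem _) hz rfl))
    by_cases hF : ∀ g ∈ P, g.t * T.σ g0.t = g0.t * T.σ g.t
    · obtain ⟨x, hx⟩ : ∃ x, z.m = g0.t * x := ⟨z.m / g0.t, by field_simp⟩
      have e : z.m = g0.t * ((x + T.σ x) / 2) + g0.t * ((x - T.σ x) / 2) := by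
        rw [hx]; field_simp; ring
      rw [e, xm_add]
      refine mul_mem ?_ (xd' g0 hg0 _ (by
        rw [map_div₀, map_sub, T.inv, map_ofNat]; ring))
      rw [← hXe]
      refine mem_sup_right ⟨h2 (xm_mem _), fun k hk => commutatorElement_eq_one_iff_mul_comm.1
        (eq_one_of_Z (cm_Z (xm_mem _)) ?_)⟩
      rw [cm_a2 (xm_mem _), xm_m, map_mul, map_div₀, map_add, T.inv, map_ofNat]
      linear_combination (-(x + T.σ x) / 2) * hF k hk
    · push Not at hF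
      obtain ⟨g, hg, hne⟩ := hF
      have hd : g0.t * T.σ g.t - g.t * T.σ g0.t ≠ 0 := sub_ne_zero.2 hne.symm
      have hs : T.σ (g0.t * T.σ g.t - g.t * T.σ g0.t) = -(g0.t * T.σ g.t - g.t * T.σ g0.t) := by
        simp only [map_sub, map_mul, T.inv]; ring
      have e : z.m = g0.t * ((z.m * T.σ g.t + g.t * T.σ z.m) / (g0.t * T.σ g.t - g.t * T.σ g0.t)) +
          g.t * (-(z.m * T.σ g0.t + g0.t * T.σ z.m) / (g0.t * T.σ g.t - g.t * T.σ g0.t)) := by
        field_simp; ring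
      rw [e, xm_add]
      refine mul_mem (xd' g0 hg0 _ ?_) (xd' g hg _ ?_) <;>
      · rw [map_div₀, hs]
        simp only [map_neg, map_add, map_mul, T.inv]
        rw [div_neg]; ring
  · have hzR : z ∈ R T := cR.le (centralizer_le h2 hz.2)
    have hzV := mem_V_of hzR fun k hk => hz.2 k (h3 hk)
    have e := (cm_V (g := g0) hzV).1
    rw [commutatorElement_eq_one_iff_mul_comm.2 (hz.2 g0 hg0), U.one_m] at e
    exact ⟨hzV.1, hzV.2.1, hzV.2.2, (mul_eq_zero.1 e.symm).resolve_left t0⟩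

end Cfsg.Agent.H39.U5A5
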