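import Cfsg.Agent.H39.VStc2

/-!
# Unitary standard subgroups over the field of two elements: the exact action
-/

set_option autoImplicit false
set_option linter.unusedSectionVars false

namespace Cfsg.Agent.H54V.H39.Stc

open Cfsg Cfsg.Agent.H63 Cfsg.Agent.H63.SL Cfsg.Agent.H34 Cfsg.Agent.H34.TW Cfsg.Agent.H34.UM
  Cfsg.Agent.H31 Subgroup Module
open Cfsg.Agent.H27.End (mem_C comm_of_C conj_mem is2_of_sq mem_C1)

universe u v

variable {F E V : Type v} [Field F] [Field E] [AddCommGroup V] [Module E V] {i : F →+* E}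
  {σ : E ≃+* E} {B : V →ₛₗ[(σ : E →+* E)] V →ₗ[E] E} {G : Type u} [Group G] {φ : sisom B →* G}
  {L : Subgroup G} {v : V}

theorem th_σ {θ : E →+* E} (h : (∀ a, θ a = a) ∨ ∀ a, θ a = σ a) (a : E) : θ (σ a) = σ (θ a) := by
  rcases h with h | h <;> simp [h]

theorem th_fix {θ : E →+* E} (h : (∀ a, θ a = a) ∨ ∀ a, θ a = σ a) {a : E} (e : σ a = a) :
    θ a = a := by
  rcases h with h | h <;> simp [h, e]

theorem th_th (q : QF i σ) {θ : E →+* E} (h : (∀ a, θ a = a) ∨ ∀ a, θ a = σ a) (a : E) :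
    θ (θ a) = a := by
  rcases h with h | h <;> simp [h, q.sq]

theorem th_tr (q : QF i σ) {θ : E →+* E} (h : (∀ a, θ a = a) ∨ ∀ a, θ a = σ a) (a : E) :
    θ a + σ (θ a) = a + σ a := by
  rcases h with h | h <;> simp [h, q.sq, add_comm]

theorem eq_zero_of_tr (q : QF i σ) {l d : E} (hl : σ l = l + 1) (h1 : d + σ d = 0)
    (h2 : l * d + σ (l * d) = 0) : d = 0 := by
  rw [map_mul, hl] at h2
  linear_combination (l + 1) * h1 - h2

variable (φ) in
/-- Exact form of `R`. -/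
def X1 (v : V) (n : G) (θ : E →+* E) (w w' : V) : Prop :=
  R φ v n w w' ∧ ∀ a, a + σ a = B w w → n * EE φ v w a * n⁻¹ = EE φ v w' (θ a)

variable [FiniteDimensional E V] [Finite E] (c : UCtx i φ L) (hv : Pt B v) (h2 : Nat.card F = 2)
  {n : G} (hz : Commute n (TT i φ v 1)) {θ : E →+* E} (hθ : (∀ a, θ a = a) ∨ ∀ a, θ a = σ a)
include c hv h2 hz hθ

theorem R.form (hs : ∀ (a : E) w w', R φ v n w w' → R φ v n (a • w) (θ a • w')) {w w' u u' : V}
    (h : R φ v n w w') (h' : R φ v n u u') : B w' u' = θ (B w u) := by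
  obtain ⟨ω, hω⟩ := c.qf.tr
  have k1 := h.tr c hv h2 hz h'
  have k2 := h.tr c hv h2 hz (hs ω _ _ h')
  rw [sm_right, sm_right, ← th_tr c.qf hθ (ω * B w u), map_mul θ] at k2
  rw [← th_tr c.qf hθ (B w u)] at k1
  have hl : σ (θ ω) = θ ω + 1 := by rw [← th_σ hθ, hω, map_add, map_one]
  have := eq_zero_of_tr c.qf hl (d := B w' u' - θ (B w u)) (by rw [map_sub]; linear_combination k1)
    (by rw [mul_sub, map_sub]; linear_combination k2)
  exact sub_eq_zero.1 this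

theorem X1.of_one {w w' : V} (h : R φ v n w w') {a : E} (ha : a + σ a = B w w)
    (e : n * EE φ v w a * n⁻¹ = EE φ v w' (θ a)) : X1 φ v n θ w w' := by
  refine ⟨h, fun b hb => ?_⟩
  have k : σ (a + b) = a + b := by
    rw [map_add]; linear_combination ha + hb + (B w w - a - b) * c.qf.two
  have k2 : b = a + (a + b) := by linear_combination -a * c.qf.two
  rw [k2, map_add θ, th_fix hθ k, ee_add c hv h.1 ha k,
    ee_add c hv h.2.1 (by rw [th_tr c.qf hθ, ha, h.norm c hv h2 hz]) k, ← e]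
  conv_rhs => rw [← conj_fix c hv h2 hz k]
  group

theorem X1.add (hs : ∀ (a : E) w w', R φ v n w w' → R φ v n (a • w) (θ a • w')) {w w' u u' : V}
    (h : X1 φ v n θ w w') (h' : X1 φ v n θ u u') : X1 φ v n θ (w + u) (w' + u') := by
  obtain ⟨a, ha⟩ := exists_adm c hv w
  obtain ⟨b, hb⟩ := exists_adm c hv u
  refine X1.of_one c hv h2 hz hθ (h.1.add c hv h'.1) (a := a + b + B w u) ?_ ?_
  · simp only [map_add, LinearMap.add_apply, c.symm]
    linear_combination ha + hb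
  · rw [← c.EE_mul hv.1 h.1.1 ha h'.1.1 hb, map_add, map_add, ← h.1.form c hv h2 hz hθ hs h'.1,
      ← c.EE_mul hv.1 h.1.2.1 (by rw [th_tr c.qf hθ, ha, h.1.norm c hv h2 hz]) h'.1.2.1
        (by rw [th_tr c.qf hθ, hb, h'.1.norm c hv h2 hz]), ← h.2 a ha, ← h'.2 b hb]
    group

theorem X1.line (d : E) : X1 φ v n θ (d • v) (θ d • v) := by
  have k := ((R.zero c hv n).shift c hv (θ d)).shift' c hv d
  have e1 := UCtx.EE_shift (φ := φ) v 0 0 d
  have e2 := UCtx.EE_shift (φ := φ) v 0 0 (θ d)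
  rw [zero_add, zero_add] at k e1 e2
  refine X1.of_one c hv h2 hz hθ k (a := 0) (by simp [hv.1]) ?_
  rw [map_zero, e1, e2, th_tr c.qf hθ]
  exact conj_fix c hv h2 hz (by rw [map_add, c.qf.sq, add_comm])

theorem X1.shift {w w1 w2 : V} (h : X1 φ v n θ w w1) (h' : X1 φ v n θ w w2) :
    ∃ d : E, w2 = w1 + d • v ∧ d + σ d = 0 := by
  obtain ⟨a, ha⟩ := exists_adm c hv w
  obtain ⟨d, k1, k2⟩ := ee_inj c hv h.1.2.1 (by rw [th_tr c.qf hθ, ha, h.1.norm c hv h2 hz]) h'.1.2.1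
    (by rw [th_tr c.qf hθ, ha, h'.1.norm c hv h2 hz]) ((h.2 a ha).symm.trans (h'.2 a ha))
  exact ⟨d, k1, by linear_combination -k2⟩

theorem X_uniq {w w1 w2 : V} (h : ∀ a : E, X1 φ v n θ (a • w) (θ a • w1))
    (h' : ∀ a : E, X1 φ v n θ (a • w) (θ a • w2)) : w1 = w2 := by
  obtain ⟨ω, hω⟩ := c.qf.tr
  have hl : σ (θ ω) = θ ω + 1 := by rw [← th_σ hθ, hω, map_add, map_one]
  obtain ⟨d, k1, k2⟩ := (h 1).shift c hv h2 hz hθ (h' 1)
  obtain ⟨e, k3, k4⟩ := (h ω).shift c hv h2 hz hθ (h' ω)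
  rw [map_one, one_smul, one_smul] at k1
  rw [k1, smul_add, smul_smul, add_right_inj] at k3
  rw [← smul_left_injective E hv.2 k3] at k4
  rw [k1, eq_zero_of_tr c.qf hl k2 k4, zero_smul, add_zero]

theorem X_exists (hQ : n ∈ N[QV φ v])
    (hs : ∀ (a : E) w w', R φ v n w w' → R φ v n (a • w) (θ a • w')) {w : V} (hw : B v w = 0) :
    ∃ w', ∀ a : E, X1 φ v n θ (a • w) (θ a • w') := by
  obtain ⟨ω, hω⟩ := c.qf.tr
  have hl : σ (θ ω) = θ ω + 1 := by rw [← th_σ hθ, hω, map_add, map_one]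
  obtain ⟨w0, h0⟩ := R.total c hv hQ hw
  have h1 := hs ω _ _ h0
  obtain ⟨a, ha⟩ := exists_adm c hv w
  obtain ⟨b, hb⟩ := exists_adm c hv (ω • w)
  obtain ⟨a', ha', e1⟩ := h0.all c hv h2 hz ha
  obtain ⟨b', hb', e2⟩ := h1.all c hv h2 hz hb
  have k1 : σ (a' + θ a) = a' + θ a := by
    have := th_tr c.qf hθ a
    rw [ha, ← h0.norm c hv h2 hz] at this
    rw [map_add]; linear_combination ha' + this + (B w0 w0 - a' - θ a) * c.qf.two
  have k2 : σ (b' + θ b) = b' + θ b := by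
    have := th_tr c.qf hθ b
    rw [hb, ← h1.norm c hv h2 hz] at this
    rw [map_add]
    linear_combination hb' + this + (B (θ ω • w0) (θ ω • w0) - b' - θ b) * c.qf.two
  have sq := om_sq c.qf h2 hl
  generalize hl' : θ ω = l at *
  obtain ⟨d, hd⟩ : ∃ d, d = (a' + θ a) + (b' + θ b) + (a' + θ a) * l := ⟨_, rfl⟩
  have hσ : σ d = (a' + θ a) + (b' + θ b) + (a' + θ a) * (l + 1) := by
    rw [hd, map_add, map_add, map_mul, k1, k2, hl]
  have x1 : X1 φ v n θ w (w0 + d • v) := X1.of_one c hv h2 hz hθ (h0.shift c hv d) ha (by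
    rw [e1, UCtx.EE_shift, hσ, hd]
    congr 1
    linear_combination -(θ a + (a' + θ a) + (b' + θ b) + (a' + θ a) * l) * c.qf.two)
  have x2 : X1 φ v n θ (ω • w) (l • (w0 + d • v)) := by
    rw [smul_add, smul_smul]
    refine X1.of_one c hv h2 hz hθ (h1.shift c hv _) hb ?_
    rw [e2, UCtx.EE_shift, map_mul, hσ, hd, hl]
    congr 1
    linear_combination -(θ b + l * ((a' + θ a) + (b' + θ b)) + (a' + θ a) * (l * l + l + 1)) * c.qf.two
  refine ⟨w0 + d • v, fun e => ?_⟩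
  rcases e4 c.qf h2 hω e with rfl | rfl | rfl | rfl
  · simpa using X1.line c hv h2 hz hθ 0
  · rwa [map_one, one_smul, one_smul]
  · rwa [hl']
  · rw [map_add, map_one, add_smul, add_smul, one_smul, one_smul, hl']
    exact x2.add c hv h2 hz hθ hs x1

omit hθ in
theorem exists_act (hn : n ∈ N[YZ L (ZV i φ v)]) (hQ : n ∈ N[QV φ v]) :
    ∃ θ f, Act0 φ v n θ f := by
  obtain ⟨θ, hθ, hs⟩ := exists_theta c hv h2 hn hQ hz
  have k : ∀ w, ∃ w', B v w = 0 → ∀ a : E, X1 φ v n θ (a • w) (θ a • w') := fun w => by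
    by_cases h : B v w = 0
    · exact (X_exists c hv h2 hz hθ hQ hs h).imp fun _ k _ => k
    · exact ⟨0, fun k => absurd k h⟩
  choose f hf using k
  have h1 : ∀ w, B v w = 0 → X1 φ v n θ w (f w) := fun w h => by simpa using hf w h 1
  have add : ∀ w u, B v w = 0 → B v u = 0 → f (w + u) = f w + f u := fun w u hw hu =>
    X_uniq c hv h2 hz hθ (hf _ (by simp [hw, hu])) fun a => by
      rw [smul_add, smul_add]; exact (hf w hw a).add c hv h2 hz hθ hs (hf u hu a)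
  have smul : ∀ (a : E) w, B v w = 0 → f (a • w) = θ a • f w := fun a w hw =>
    X_uniq c hv h2 hz hθ (hf _ (by simp [hw])) fun b => by
      rw [smul_smul, smul_smul, ← map_mul]; exact hf w hw _
  have fv : f v = v := X_uniq c hv h2 hz hθ (hf _ hv.1) (X1.line c hv h2 hz hθ)
  refine ⟨θ, f, hθ, fun w h => (h1 w h).1.2.1, add, smul, fv,
    fun w u hw hu => (h1 w hw).1.form c hv h2 hz hθ hs (h1 u hu).1, fun w' h => ?_,
    fun w a hw ha => (h1 w hw).2 a ha⟩
  obtain ⟨w, hw⟩ := R.total c hv (inv_mem hQ) h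
  have hw' := hw.symm
  rw [inv_inv] at hw'
  obtain ⟨d, hd⟩ := (h1 w hw'.1).1.uniq c hv h2 hz hw'
  refine ⟨w + θ d • v, perp_shift c hv hw'.1 _, ?_⟩
  rw [add _ _ hw'.1 (by simp [hv.1]), smul _ _ hv.1, fv, th_th c.qf hθ, hd]

end Cfsg.Agent.H54V.H39.Stc
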